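import Cfsg.Agent.Lib.C7O.AvgTen

/-!
# The skew operators normalising the tensor products of skew operators

* `Sm.mem_L0_of_norm` : they are sums of skew operators of single positions
-/

set_option autoImplicit false
set_option linter.unusedSectionVars false

namespace Cfsg.Agent.C7O

open Matrix Module Cfsg.Agent.Transvect Cfsg.Agent.C7
open Cfsg.Agent.C7F (op op_T op_pt op_one op_add_left op_smul_left op_zero_left op_comp pr pt pt_pr
  sl sl_T sl_nest)
open scoped MatrixGroups

attribute [-simp] app_apply

variable {F : Type*} [Field F] [Fintype F] {k t : ℕ}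

lemma op_mul_op (i : Fin (t + 1)) (A A' : Module.End F (J k t → F))
    (D D' : Module.End F (Fin k → F)) : op i A D * op i A' D' = op i (A * A') (D * D') :=
  LinearMap.ext fun x => op_comp i A A' D D' x

lemma op_sub_left (i : Fin (t + 1)) (A A' : Module.End F (J k t → F))
    (D : Module.End F (Fin k → F)) : op i (A - A') D = op i A D - op i A' D := by
  rw [eq_sub_iff_add_eq, ← op_add_left, sub_add_cancel]

namespace Sm

variable {G : Sm F k}

lemma op_mem_TS (i : Fin (t + 1)) {X : Module.End F (J k t → F)} (hX : X ∈ G.TS t)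
    {D : Module.End F (Fin k → F)} (hD : D ∈ G.so) : op i X D ∈ G.TS (t + 1) := by
  induction hX using Submodule.span_induction with
  | mem X hX =>
    obtain ⟨E, hE, rfl⟩ := hX
    rw [op_pt]
    refine pt_mem_TS fun l => ?_
    obtain rfl | ⟨j, rfl⟩ := i.eq_self_or_eq_succAbove l
    · simpa using hD
    · simpa using hE j
  | zero => rw [op_zero_left]; exact Submodule.zero_mem _
  | add X Y _ _ hX hY => rw [op_add_left]; exact Submodule.add_mem _ hX hY
  | smul r X _ hX => rw [op_smul_left]; exact Submodule.smul_mem _ r hX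

lemma TS_coeff (i : Fin (t + 1)) {X : Module.End F (J k (t + 1) → F)} (hX : X ∈ G.TS (t + 1))
    (a z : Fin k → F) : G.cC i X a z ∈ G.TS t ∧ G.cC i X z a = -G.cC i X a z := by
  induction hX using Submodule.span_induction with
  | mem X hX =>
    obtain ⟨E, hE, rfl⟩ := hX
    have e : pt E = op i (pt fun j => E (i.succAbove j)) (E i) := by
      rw [op_pt]
      refine pt_apply_eq fun l => ?_
      obtain rfl | ⟨j, rfl⟩ := i.eq_self_or_eq_succAbove l <;> simp
    rw [e, cC_op, cC_op]
    refine ⟨Submodule.smul_mem _ _ (pt_mem_TS fun j => hE _), ?_⟩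
    rw [G.sym z, hE i a z]
    exact LinearMap.ext fun y => by simp
  | zero => simp [cC_zero]
  | add X Y _ _ hX hY =>
    rw [cC_add, cC_add]
    exact ⟨Submodule.add_mem _ hX.1 hY.1, by rw [hX.2, hY.2, neg_add]⟩
  | smul r X _ hX =>
    rw [cC_smul, cC_smul]
    exact ⟨Submodule.smul_mem _ r hX.1, by rw [hX.2, smul_neg]⟩

lemma cC_comm_op (i : Fin (t + 1)) (Z : Module.End F (J k (t + 1) → F))
    (S : Module.End F (J k t → F)) {D : Module.End F (Fin k → F)} (hD : D ∈ G.so)
    (a z : Fin k → F) :
    G.cC i (Z * op i S D - op i S D * Z) a z =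
      G.cC i Z a (D z) * S + S * G.cC i Z (D a) z := by
  have e : ∀ w, ct i (G.f a) (op i S D w) = -S (ct i (G.f (D a)) w) := fun w =>
    LinearMap.congr_fun (lin_ext i (f := (ct i (G.f a)).comp (op i S D))
      (g := -(S.comp (ct i (G.f (D a))))) fun y u => by
        simp [hD a u]) w
  refine LinearMap.ext fun y => ?_
  simp only [cC_apply, LinearMap.sub_apply, LinearMap.add_apply, Module.End.mul_apply, op_T,
    map_sub, e]
  rw [sub_neg_eq_add]

/-- A normalising skew operator is a sum of skew operators of single positions. -/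
theorem mem_L0_of_norm (hk : 3 ≤ k) : ∀ {t : ℕ} (Z : Module.End F (J k t → F)),
    Z ∈ G.Sgn t (-1) → (∀ X ∈ G.TS t, Z * X - X * Z ∈ G.TS t) → Z ∈ G.L0 t := by
  intro t
  induction t with
  | zero =>
    intro Z hZ _
    set e : J k 0 → F := pr fun l => Fin.elim0 l
    have he : ∀ x : J k 0 → F, x = x default • e := fun x => funext fun g => by
      simp [Subsingleton.elim g default, e, C7F.pr]
    have h0 : Z e default = 0 := by
      have := hZ e e
      rw [he (Z e), map_smul, map_smul, LinearMap.smul_apply, smul_eq_mul, B_pr] at this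
      simp at this
      exact (mul_eq_zero.1 (show (2 : F) * Z e default = 0 by linear_combination this)).resolve_left
        G.two
    rw [show Z = 0 from LinearMap.ext fun x => by
      rw [he x, map_smul, he (Z e), h0]; simp]
    exact Submodule.zero_mem _
  | succ t ih =>
    intro Z hZ hN
    set K := G.cC (0 : Fin (t + 1)) Z
    have hrel : ∀ a z y y', G.B t (K a z y) y' = -G.B t y (K z a y') := fun a z y y' => by
      rw [G.B_comm y' (K a z y), cC_apply, ← B_ct, cC_apply, ← B_ct, G.B_comm (Z _) (T 0 y' a), hZ,
        neg_one_mul]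
    -- commuting relations
    have hTS : ∀ a u, a ≠ 0 → G.f a u = 0 → ∀ S ∈ G.TS t, K a u * S + S * K u a = 0 :=
      fun a u ha hau S hS => by
      obtain ⟨z, hz⟩ := G.exists_dual ha
      have hD := G.dd_mem u z
      have hDa : G.dd u z a = u := by simp [G.sym z a, hz, G.sym u a, hau]
      have := (TS_coeff 0 (hN _ (op_mem_TS 0 hS hD)) a a).2
      rw [cC_comm_op 0 Z S hD, hDa] at this
      have h2 : (2 : F) • (K a u * S + S * K u a) = 0 := by
        linear_combination (norm := module) this
      exact (smul_eq_zero.1 h2).resolve_left G.two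
    set Sc : Submodule F (Module.End F (J k t → F)) := F ∙ (LinearMap.id : Module.End F (J k t → F))
    have hScal : ∀ a u, G.f a u = 0 → K a u ∈ Sc := fun a u hau => by
      rcases eq_or_ne a 0 with rfl | ha
      · simp
      rcases eq_or_ne u 0 with rfl | hu
      · simp
      have hc : ∀ S ∈ G.TS t, ∀ S' ∈ G.TS t, K a u * (S * S') = S * S' * K a u := fun S hS S' hS' => by
        refine LinearMap.ext fun x => ?_
        have h1 := LinearMap.congr_fun (hTS a u ha hau S hS) (S' x)
        have h2 := congrArg S (LinearMap.congr_fun (hTS u a hu (by rw [G.sym]; exact hau) S' hS') x)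
        simp only [Module.End.mul_apply, LinearMap.add_apply, LinearMap.zero_apply, map_add,
          map_zero] at h1 h2 ⊢
        linear_combination (norm := module) h1 - h2
      obtain ⟨r, hr⟩ := scal_of_comm fun Y => by
        have hmem := mem_of_pt (S := LinearMap.ker
          (LinearMap.mulLeft F (K a u) - LinearMap.mulRight F (K a u))) (fun E => ?_) Y
        · simpa [sub_eq_zero] using hmem
        refine pt_mem_of_span _ (fun _ => {A : Module.End F (Fin k → F) |
          ∃ D ∈ G.so, ∃ D' ∈ G.so, A = D * D'}) (fun E' hE' => ?_) E fun l =>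
            mul_so_top hk (Submodule.span F {A : Module.End F (Fin k → F) |
              ∃ D ∈ G.so, ∃ D' ∈ G.so, A = D * D'})
              (fun D hD D' hD' => Submodule.subset_span ⟨D, hD, D', hD', rfl⟩) (E l)
        choose D hD D' hD' hE'' using hE'
        rw [LinearMap.mem_ker, LinearMap.sub_apply, LinearMap.mulLeft_apply,
          LinearMap.mulRight_apply, sub_eq_zero, pt_apply_eq hE'', ← mul_pt]
        exact hc _ (pt_mem_TS hD) _ (pt_mem_TS hD')
      rw [hr]
      exact Submodule.smul_mem _ r (Submodule.mem_span_singleton_self _)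
    obtain ⟨b, c, h⟩ := G.exists_hb' hk
    have hgen : ∀ a z, K a z - G.f a z • K b c ∈ Sc := by
      have h1 : ∀ a z, G.f a c ≠ 0 → K a z - G.f a z • K b c ∈ Sc := fun a z hac => by
        have e : K a z - G.f a z • K b c = K a (z - (G.f a z / G.f a c) • c) +
            (G.f a z / G.f a c) • K (a - G.f a c • b) c := by
          simp only [map_sub, map_smul, LinearMap.sub_apply, LinearMap.smul_apply]
          match_scalars <;> field_simp <;> ring
        rw [e]
        exact Submodule.add_mem _ (hScal _ _ (by simp [hac]))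
          (Submodule.smul_mem _ _ (hScal _ _ (by simp [h.bc])))
      intro a z
      by_cases hac : G.f a c = 0
      · have := Submodule.sub_mem _ (h1 (a + b) z (by simp [hac, h.bc]))
          (h1 b z (by simp [h.bc]))
        simp only [map_add, LinearMap.add_apply, add_smul] at this
        convert this using 1
        abel
      · exact h1 a z hac
    set P := (2 : F)⁻¹ • (K b c + K c b) with hP
    have hgen' : ∀ a z, K a z - G.f a z • P ∈ Sc := fun a z => by
      have h2 := G.two
      have e : K a z - G.f a z • P = (K a z - G.f a z • K b c) -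
          (G.f a z * (2 : F)⁻¹) • (K c b - G.f c b • K b c) := by
        rw [hP, h.cb]
        match_scalars <;> field_simp <;> ring
      rw [e]
      exact Submodule.sub_mem _ (hgen a z) (Submodule.smul_mem _ _ (hgen c b))
    have hPs : P ∈ G.Sgn t (-1) := fun x y => by
      simp only [hP, LinearMap.smul_apply, LinearMap.add_apply, map_smul, map_add, smul_eq_mul,
        hrel b c, hrel c b]
      ring
    -- the operator in the position
    obtain ⟨e, hge, -, -⟩ := G.exists_obasis
    set y₀ : J k t → F := pr fun _ => e ⟨0, by omega⟩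
    have hy : G.B t y₀ y₀ ≠ 0 := by
      rw [B_pr]; exact Finset.prod_ne_zero_iff.2 fun _ _ => hge _
    set ψ := (G.B t y₀ y₀)⁻¹ • G.B t y₀
    set Z1 := Z - op 0 P LinearMap.id
    set Ω : Module.End F (Fin k → F) := (lc 0 ψ).comp (Z1.comp (T 0 y₀))
    have hZ1 : ∀ a z, G.cC 0 Z1 a z = K a z - G.f a z • P := fun a z => by
      rw [cC_sub, cC_op]; rfl
    have hΩ : ∀ a z, G.cC 0 Z1 a z = G.f a (Ω z) • LinearMap.id := fun a z => by
      obtain ⟨r, hr⟩ := Submodule.mem_span_singleton.1 (hgen' a z)
      rw [← hZ1] at hr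
      have hy0 : G.f a (Ω z) = r := by
        rw [show G.f a (Ω z) = ψ (G.cC 0 Z1 a z y₀) from lc_ct 0 (G.f a) ψ _, ← hr]
        simp [ψ, hy]
      rw [hy0, hr]
    have hZeq : Z = op 0 P LinearMap.id + sl 0 Ω := by
      have : Z1 = sl 0 Ω := G.cC_ext (i := 0) fun a z => by rw [hΩ, C7F.sl, cC_op]
      rw [← this]
      simp [Z1]
    have hK : ∀ a z, K a z = G.f a z • P + G.f a (Ω z) • LinearMap.id := fun a z => by
      rw [← hΩ, hZ1]; abel
    have hΩs : Ω ∈ G.so := fun u v => by
      have h1 := hrel v u y₀ y₀
      simp only [hK, LinearMap.add_apply, LinearMap.smul_apply, LinearMap.id_apply, map_add, map_smul,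
        smul_eq_mul, hPs y₀ y₀, G.sym v u] at h1
      have h2 : (G.f v (Ω u) + G.f u (Ω v)) * G.B t y₀ y₀ = 0 := by linear_combination h1
      rw [G.sym (Ω u)]
      linear_combination (mul_eq_zero.1 h2).resolve_right hy
    have hPn : ∀ S ∈ G.TS t, P * S - S * P ∈ G.TS t := fun S hS => by
      obtain ⟨v, hv, hg⟩ := exists_aniso h hk
      have hD := G.dd_mem b v
      have h1 := hN _ (op_mem_TS 0 hS hD)
      rw [hZeq, C7F.sl, add_mul, mul_add, op_mul_op, op_mul_op, op_mul_op, op_mul_op,
        show (LinearMap.id : Module.End F (Fin k → F)) = 1 from rfl,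
        show (LinearMap.id : Module.End F (J k t → F)) = 1 from rfl] at h1
      simp only [one_mul, mul_one] at h1
      have h2 := Submodule.sub_mem _ h1 (op_mem_TS 0 hS (G.comm_mem hΩs hD))
      rw [show op 0 S (Ω * G.dd b v - G.dd b v * Ω) =
          op 0 S (Ω * G.dd b v) - op (0 : Fin (t + 1)) S (G.dd b v * Ω) from by
        rw [eq_sub_iff_add_eq, ← C7F.op_add_right, sub_add_cancel]] at h2
      have h3 : op (0 : Fin (t + 1)) (P * S - S * P) (G.dd b v) ∈ G.TS (t + 1) := by
        convert h2 using 1
        rw [op_sub_left]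
        abel
      have h4 := (TS_coeff 0 h3 ((-(G.f v v)⁻¹) • v) c).1
      rw [cC_op] at h4
      simpa [hv.right', h.bc, hg] using h4
    have hPL : op 0 P LinearMap.id ∈ G.L0 (t + 1) := by
      have hL : P ∈ G.L0 t := ih P hPs hPn
      revert hL
      generalize P = X
      intro hX
      induction hX using Submodule.span_induction with
      | mem X hX =>
        obtain ⟨l, D, hD, rfl⟩ := hX
        cases t with
        | zero => exact l.elim0
        | succ r =>
          rw [pt_update_id, ← sl_nest]
          exact sl_mem_L0 _ hD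
      | zero => rw [op_zero_left]; exact Submodule.zero_mem _
      | add X Y _ _ hX hY => rw [op_add_left]; exact Submodule.add_mem _ hX hY
      | smul r X _ hX => rw [op_smul_left]; exact Submodule.smul_mem _ r hX
    rw [hZeq]
    exact Submodule.add_mem _ hPL (sl_mem_L0 0 hΩs)

end Sm

end Cfsg.Agent.C7O
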