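import Cfsg.Agent.Lib.C7O.AvgInv
import Cfsg.Agent.Lib.C7O.AvgNorm

/-!
# Groups with the local properties lie in the wreath group

* `Sm.L0_invariant` : the sums of skew operators of single positions are invariant
* `Sm.le_Wr_of_conj` : the averaging step of the maximality proof
-/

set_option autoImplicit false
set_option linter.unusedSectionVars false

namespace Cfsg.Agent.C7O

open Matrix Module Cfsg.Agent.Transvect Cfsg.Agent.C7
open Cfsg.Agent.C7F (pr pr_ne_zero pt sl sl_T)
open scoped MatrixGroups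

attribute [-simp] app_apply

variable {F : Type*} [Field F] [Fintype F] {k t : ℕ}

/-- An operator in a position, as a linear map. -/
noncomputable def slL (l : Fin (t + 1)) :
    Module.End F (Fin k → F) →ₗ[F] Module.End F (J k (t + 1) → F) where
  toFun D := sl l D
  map_add' A A' := Sm.sl_add l A A'
  map_smul' r A := Sm.sl_smul l r A

lemma slL_apply (l : Fin (t + 1)) (D : Module.End F (Fin k → F)) : slL l D = sl l D := rfl

lemma sl_mul (l : Fin (t + 1)) (D D' : Module.End F (Fin k → F)) :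
    sl l D * sl l D' = sl l (D * D') := by
  rw [C7F.sl, C7F.sl, op_mul_op]; rfl

lemma sl_inj (hk : 1 ≤ k) (l : Fin (t + 1)) :
    Function.Injective (slL (F := F) (k := k) l) := by
  refine LinearMap.ker_eq_bot.1 (LinearMap.ker_eq_bot'.2 fun D hD => LinearMap.ext fun u => ?_)
  have hy : (pr fun _ : Fin t => Pi.single (⟨0, by omega⟩ : Fin k) (1 : F)) ≠ 0 :=
    pr_ne_zero fun _ => by simp
  have := LinearMap.congr_fun hD (T l (pr fun _ : Fin t => Pi.single (⟨0, by omega⟩ : Fin k) (1 : F)) u)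
  rw [slL_apply, sl_T, LinearMap.zero_apply] at this
  exact (T_eq_zero this).resolve_left hy

namespace Sm

variable {G : Sm F k}

lemma L0_norm {Z : Module.End F (J k t → F)} (hZ : Z ∈ G.L0 t) {X : Module.End F (J k t → F)}
    (hX : X ∈ G.TS t) : Z * X - X * Z ∈ G.TS t := by
  induction hX using Submodule.span_induction with
  | mem X hX =>
    obtain ⟨E, hE, rfl⟩ := hX
    induction hZ using Submodule.span_induction with
    | mem Z hZ =>
      obtain ⟨l, D, hD, rfl⟩ := hZ
      rw [comm_slot_pt]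
      refine pt_mem_TS fun j => ?_
      by_cases hj : j = l
      · subst hj; simpa using G.comm_mem hD (hE j)
      · simpa [hj] using hE j
    | zero => simp
    | add A A' _ _ h1 h2 =>
      rw [add_mul, mul_add, add_sub_add_comm]; exact Submodule.add_mem _ h1 h2
    | smul r A _ h1 =>
      rw [smul_mul_assoc, mul_smul_comm, ← smul_sub]; exact Submodule.smul_mem _ r h1
  | zero => simp
  | add A A' _ _ h1 h2 => rw [add_mul, mul_add, add_sub_add_comm]; exact Submodule.add_mem _ h1 h2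
  | smul r A _ h1 => rw [smul_mul_assoc, mul_smul_comm, ← smul_sub]; exact Submodule.smul_mem _ r h1

variable {M : Subgroup (GL (J k (t + 1)) F)}

/-- The sums of skew operators of single positions are invariant. -/
theorem L0_invariant (hnp : G.NoPlane) (hk : 3 ≤ k) (hex : ¬ (Fintype.card F = 3 ∧ k = 3))
    (ht : 1 ≤ t) (hO : G.Ovg M) (hconj : G.ConjWr M) :
    ∀ g ∈ M, ∀ X ∈ G.L0 (t + 1), cj g X ∈ G.L0 (t + 1) := by
  by_cases hk0 : (k : F) = 0
  swap
  · exact L0_inv hnp hk hex ht hk0 hO hconj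
  intro g hg Z hZ
  refine mem_L0_of_norm hk _ (cj_sgn (hO.le hg) (L0_le_sgn hZ)) fun X hX => ?_
  have h1 := TS_inv hnp hk hex hk0 hO hconj g hg _
    (L0_norm hZ (TS_inv hnp hk hex hk0 hO hconj g⁻¹ (inv_mem hg) X hX))
  rw [map_sub, cj_comp, cj_comp, ← Module.End.mul_apply (cj g) (cj g⁻¹), ← cj_mul, mul_inv_cancel,
    cj_one, Module.End.one_apply] at h1
  exact h1

lemma L0_decomp {X : Module.End F (J k (t + 1) → F)} (hX : X ∈ G.L0 (t + 1)) :
    ∃ D : Fin (t + 1) → Module.End F (Fin k → F), (∀ l, D l ∈ G.so) ∧ X = ∑ l, slL l (D l) := by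
  classical
  induction hX using Submodule.span_induction with
  | mem X hX =>
    obtain ⟨l, D, hD, rfl⟩ := hX
    refine ⟨Pi.single l D, fun j => ?_, ?_⟩
    · by_cases hj : j = l
      · subst hj; simpa using hD
      · simp [hj]
    · rw [Finset.sum_eq_single l (fun j _ hj => by simp [hj]) (by simp), Pi.single_eq_same,
        slL_apply, pt_update_id]
  | zero => exact ⟨0, fun _ => Submodule.zero_mem _, by simp⟩
  | add A A' _ _ h1 h2 =>
    obtain ⟨D, hD, rfl⟩ := h1
    obtain ⟨D', hD', rfl⟩ := h2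
    exact ⟨D + D', fun l => Submodule.add_mem _ (hD l) (hD' l), by simp [Finset.sum_add_distrib]⟩
  | smul r A _ h1 =>
    obtain ⟨D, hD, rfl⟩ := h1
    exact ⟨r • D, fun l => Submodule.smul_mem _ r (hD l), by simp [Finset.smul_sum]⟩

lemma sl_comm {j l : Fin (t + 1)} (h : j ≠ l) (D E : Module.End F (Fin k → F)) :
    slL l D * slL j E = slL j E * slL l D := by
  rw [← sub_eq_zero, slL_apply, slL_apply, ← pt_update_id, ← pt_update_id, comm_slot_pt]
  refine pt_zero' _ l ?_
  rw [Function.update_self, Function.update_of_ne h.symm]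
  exact sub_eq_zero.2 rfl

/-- The bracket with a skew operator of one position. -/
lemma bracket_slot (l : Fin (t + 1)) (D : Module.End F (Fin k → F))
    {E : Fin (t + 1) → Module.End F (Fin k → F)} :
    slL l D * (∑ j, slL j (E j)) - (∑ j, slL j (E j)) * slL l D = slL l (D * E l - E l * D) := by
  rw [Finset.mul_sum, Finset.sum_mul, ← Finset.sum_sub_distrib, Finset.sum_eq_single l
    (fun j _ hj => sub_eq_zero.2 (sl_comm hj D (E j))) (by simp), map_sub]
  simp only [slL_apply, sl_mul]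

/-- Elements of the group map a position to a position. -/
theorem exists_slot (hnp : G.NoPlane) (hk : 3 ≤ k) (hinv : ∀ g ∈ M, ∀ X ∈ G.L0 (t + 1),
      cj g X ∈ G.L0 (t + 1)) {g : GL (J k (t + 1)) F} (hg : g ∈ M) (i : Fin (t + 1))
    {b c : Fin k → F} (h : G.HB b c) :
    ∃ l, ∀ D ∈ G.so, ∃ D' ∈ G.so, cj g (sl i D) = sl l D' := by
  classical
  obtain ⟨v, hv, hgv⟩ := exists_aniso h hk
  set φ := (cj g).comp (slL (F := F) (k := k) i) with hφ
  have hcancel : ∀ X, cj g (cj g⁻¹ X) = X := fun X => by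
    rw [← Module.End.mul_apply, ← cj_mul, mul_inv_cancel, cj_one, Module.End.one_apply]
  have hφinj : Function.Injective φ := fun A A' e => sl_inj (by omega) i (by
    have := congrArg (cj g⁻¹) e
    simpa [hφ, ← Module.End.mul_apply, ← cj_mul, cj_one] using this)
  -- brackets with the image
  have hbr : ∀ l, ∀ D ∈ G.so, ∀ A ∈ G.so,
      ∃ A' ∈ G.so, slL l D * φ A - φ A * slL l D = φ A' := fun l D hD A hA => by
    obtain ⟨E, hE, hEq⟩ := L0_decomp (hinv g⁻¹ (inv_mem hg) _ (sl_mem_L0 l hD))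
    refine ⟨E i * A - A * E i, G.comm_mem (hE i) hA, ?_⟩
    have h1 := congrArg (cj g) (bracket_slot i A (E := E))
    rw [map_sub, cj_comp, cj_comp, ← hEq, hcancel] at h1
    rw [hφ, LinearMap.comp_apply, LinearMap.comp_apply,
      show E i * A - A * E i = -(A * E i - E i * A) by rw [neg_sub], map_neg, map_neg, ← h1, neg_sub,
      ← slL_apply]
  obtain ⟨E, hE, hEq⟩ := L0_decomp (hinv g hg _ (sl_mem_L0 i (G.dd_mem b v)))
  obtain ⟨l, D₁, hD₁, hne⟩ : ∃ l, ∃ D ∈ G.so, D * E l - E l * D ≠ 0 := by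
    by_contra! hall
    have : ∀ l, E l = 0 := fun l =>
      comm_so_eq_zero hk (hE l) fun D hD => (sub_eq_zero.1 (hall l D hD)).symm
    refine dd_ne_zero h hv hgv (hφinj ?_)
    rw [map_zero, hφ, LinearMap.comp_apply, slL_apply, hEq]
    simp [this]
  set I := G.so ⊓ (G.so.map φ).comap (slL l)
  have hI : G.so ≤ I := by
    refine ideal_top hnp hk h I inf_le_left (fun e => hne ?_) fun D hD X hX => ?_
    · have hmem : D₁ * E l - E l * D₁ ∈ I := by
        refine ⟨G.comm_mem hD₁ (hE l), ?_⟩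
        obtain ⟨A', hA', e'⟩ := hbr l D₁ hD₁ _ (G.dd_mem b v)
        refine ⟨A', hA', ?_⟩
        rw [← e', hφ, LinearMap.comp_apply, slL_apply i, hEq]
        exact bracket_slot l D₁
      rwa [e, Submodule.mem_bot] at hmem
    · obtain ⟨hX1, A, hA, eA⟩ := hX
      refine ⟨G.comm_mem hD hX1, ?_⟩
      obtain ⟨A', hA', e'⟩ := hbr l D hD A hA
      refine ⟨A', hA', ?_⟩
      rw [← e', eA, map_sub]
      simp only [slL_apply, sl_mul]
  have hle : G.so.map (slL l) ≤ G.so.map φ := fun X ⟨D, hD, e⟩ => e ▸ (hI hD).2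
  have heq := Submodule.eq_of_le_of_finrank_eq hle (by
    rw [← (Submodule.equivMapOfInjective _ (sl_inj (by omega) l) G.so).finrank_eq,
      ← (Submodule.equivMapOfInjective φ hφinj G.so).finrank_eq])
  refine ⟨l, fun D hD => ?_⟩
  have : φ D ∈ G.so.map (slL l) := heq ▸ Submodule.mem_map_of_mem hD
  obtain ⟨D', hD', e⟩ := this
  exact ⟨D', hD', e.symm⟩

/-- The averaging step: a group with the local properties lies in the wreath group. -/
theorem le_Wr_of_conj (G : Sm F k) (ht : 1 ≤ t) (hk : 3 ≤ k)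
    (hex : ¬ (Fintype.card F = 3 ∧ k = 3)) (hnp : G.NoPlane)
    {M : Subgroup (GL (J k (t + 1)) F)} (hO : G.Ovg M) (hline : G.LineWr M) (hconj : G.ConjWr M) :
    M ≤ Wr F k (t + 1) := by
  intro g hg
  obtain ⟨b, c, h⟩ := G.exists_hb' hk
  obtain ⟨v, hv, hgv⟩ := exists_aniso h hk
  obtain ⟨l, hl⟩ := exists_slot hnp hk (L0_invariant hnp hk hex ht hO hconj) hg 0 h
  obtain ⟨D, hD, e⟩ := hl _ (G.dd_mem b v)
  have hsq : cj g (sl 0 (G.bb b)) = sl l ((-G.f v v)⁻¹ • (D * D)) := by
    rw [sl_smul, ← sl_mul, ← e, ← cj_comp, sl_mul, dd_mul_self h.bb hv.1, sl_smul, map_smul,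
      inv_smul_smul₀ (neg_ne_zero.2 hgv)]
  set Y := (-G.f v v)⁻¹ • (D * D) with hY
  have hY2 : Y * Y = 0 := by
    apply sl_inj (by omega : 1 ≤ k) l
    rw [slL_apply, ← sl_mul, ← hsq, ← cj_comp, sl_mul, bb_mul_self h.bb, ← slL_apply, map_zero,
      map_zero, map_zero]
  have hsym : ∀ u w, G.f (Y u) w = G.f u (Y w) := fun u w => by
    simp [hY, hD (D u) w, hD u (D w)]
  obtain ⟨z, hz⟩ : ∃ z, Y z ≠ 0 := by
    by_contra! hall
    have h0 : sl (0 : Fin (t + 1)) (G.bb b) = 0 := by
      have h1 := congrArg (cj g⁻¹) hsq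
      rw [← Module.End.mul_apply, ← cj_mul, inv_mul_cancel, cj_one, Module.End.one_apply,
        show Y = 0 from LinearMap.ext hall, ← slL_apply l, map_zero, map_zero] at h1
      exact h1
    have := LinearMap.congr_fun (sl_inj (by omega : 1 ≤ k) 0 (show slL 0 (G.bb b) = slL 0 0 by
      rw [slL_apply, h0, map_zero])) c
    simp [h.bc] at this
    exact h.ne_left this
  have hsing : G.f (Y z) (Y z) = 0 := by
    rw [hsym, show Y (Y z) = (Y * Y) z from rfl, hY2]; simp
  have hle : Li l (Y z) ≤ (Li (0 : Fin (t + 1)) b).map (app g).toLinearMap := by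
    rintro _ ⟨y, rfl⟩
    refine ⟨sl 0 (G.bb b) (app g⁻¹ (T l y z)), ?_, ?_⟩
    · exact mem_of_T 0 (Li 0 b) (sl 0 (G.bb b)) (fun a u => by
        rw [sl_T, bb_apply, map_smul]; exact Submodule.smul_mem _ _ (T_mem_Li _ _ _)) _
    · show app g (sl 0 (G.bb b) (app g⁻¹ (T l y z))) = _
      rw [← cj_apply, hsq, sl_T]; rfl
  have hb0 : b ≠ 0 := h.ne_left
  have heq := Submodule.eq_of_le_of_finrank_eq hle (by
    rw [LinearEquiv.finrank_map_eq, finrank_Li l hz, finrank_Li 0 hb0])
  refine hline g hg 0 l b (Y z) hb0 h.bb hz hsing fun y => ?_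
  rw [heq]
  exact Submodule.mem_map_of_mem (T_mem_Li _ _ _)

end Sm

end Cfsg.Agent.C7O
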