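import Cfsg.Agent.Lib.C7O.Base

/-!
# Interfaces between the steps of the maximality proof

* `Sm.NoPlane` : no totally singular plane in dimension four
* `Sm.LineWr M` : elements of `M` carrying a singular line to a line are in the wreath group
* `Sm.CentWr M` : centralisers of anisotropic Siegel elements of one position are in the wreath group
* `Sm.ConjWr M` : elements of `M` conjugating such an element into the wreath group are in it
-/

set_option autoImplicit false

namespace Cfsg.Agent.C7O

open Matrix Module Cfsg.Agent.Transvect Cfsg.Agent.C7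
open scoped MatrixGroups

variable {F : Type*} [Field F] {k t : ℕ}

namespace Sm

variable (G : Sm F k)

/-- No totally singular plane in dimension four. -/
def NoPlane : Prop :=
  k = 4 → ∀ u v, G.f u u = 0 → G.f v v = 0 → G.f u v = 0 → u ≠ 0 → ∃ r : F, v = r • u

/-- Elements carrying a singular line of a position to one are in the wreath group. -/
def LineWr (M : Subgroup (GL (J k (t + 1)) F)) : Prop :=
  ∀ g ∈ M, ∀ (i l : Fin (t + 1)) (b b' : Fin k → F), b ≠ 0 → G.f b b = 0 → b' ≠ 0 → G.f b' b' = 0 →
    (∀ y, app g (T i y b) ∈ Li l b') → g ∈ Wr F k (t + 1)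

/-- Centralisers of anisotropic Siegel elements are in the wreath group. -/
def CentWr (M : Subgroup (GL (J k (t + 1)) F)) : Prop :=
  ∀ g ∈ M, ∀ (i : Fin (t + 1)) (b c v : Fin k → F), G.HB b c → G.InW b c v → G.f v v ≠ 0 →
    g * kr i 1 (G.sg b v) = kr i 1 (G.sg b v) * g → g ∈ Wr F k (t + 1)

/-- Elements conjugating an anisotropic Siegel element into the wreath group are in it. -/
def ConjWr (M : Subgroup (GL (J k (t + 1)) F)) : Prop :=
  ∀ g ∈ M, ∀ (i : Fin (t + 1)) (b c v : Fin k → F), G.HB b c → G.InW b c v → G.f v v ≠ 0 →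
    g * kr i 1 (G.sg b v) * g⁻¹ ∈ Wr F k (t + 1) → g ∈ Wr F k (t + 1)

end Sm

end Cfsg.Agent.C7O
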