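import Cfsg.Agent.Lib.C7O.Kernel

/-!
# Typed elements of invariant spaces of operators

* `exists_fix` : commuting unipotent operators fix a non-zero vector
* `Sm.tor b c l` : the torus of a pair
* `Sm.Cl i b c V` : `V` is closed under the Siegel elements and a torus element of position `i`
* `Sm.extract` : a fixed element gives one of type `bb` or `dd`, or is scalar in the position
* `Sm.exists_typed` : several positions at once
-/

set_option autoImplicit false
set_option linter.unusedSectionVars false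

namespace Cfsg.Agent.C7O

open Matrix Module Cfsg.Agent.Transvect Cfsg.Agent.C7
open Cfsg.Agent.C7F (op op_T sl sl_T kr_nest)
open scoped MatrixGroups

attribute [-simp] app_apply

variable {F : Type*} [Field F] [Fintype F] {k t : ℕ}

/-- Commuting operators of order `p` in characteristic `p` fix a non-zero vector. -/
lemma exists_fix {E α : Type*} [AddCommGroup E] [Module F E] (ρ : α → Module.End F E)
    (hc : ∀ x y, Commute (ρ x) (ρ y)) (hp : ∀ x, ρ x ^ ringChar F = 1) (U : AddSubgroup E)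
    (hU : U ≠ ⊥) (hst : ∀ x, ∀ u ∈ U, ρ x u ∈ U) (T : Finset α) :
    ∃ u ∈ U, u ≠ 0 ∧ ∀ x ∈ T, ρ x u = u := by
  classical
  haveI : CharP F (ringChar F) := ringChar.charP F
  haveI : Fact (ringChar F).Prime := ⟨CharP.char_is_prime F (ringChar F)⟩
  obtain ⟨u₀, hu₀, hu₀0⟩ : ∃ x ∈ U, x ≠ 0 := U.bot_or_exists_ne_zero.resolve_left hU
  haveI : Nontrivial E := ⟨⟨u₀, 0, hu₀0⟩⟩
  haveI : CharP (Module.End F E) (ringChar F) :=
    charP_of_injective_algebraMap (algebraMap F (Module.End F E)).injective _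
  induction T using Finset.induction_on with
  | empty => exact ⟨u₀, hu₀, hu₀0, fun x h => absurd h (Finset.notMem_empty x)⟩
  | @insert x T _ ih =>
    obtain ⟨u, hu, hu0, hfix⟩ := ih
    set A := ρ x - 1 with hA
    have hAp : A ^ ringChar F = 0 := by
      rw [hA, sub_pow_char_of_commute (R := Module.End F E) (ringChar F) (Commute.one_right (ρ x)),
        one_pow, hp, sub_self]
    have hmem : ∀ n, (A ^ n) u ∈ U ∧ ∀ y ∈ T, ρ y ((A ^ n) u) = (A ^ n) u := fun n => by
      induction n with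
      | zero => exact ⟨hu, hfix⟩
      | succ n ihn =>
        rw [pow_succ', Module.End.mul_apply, hA, LinearMap.sub_apply, Module.End.one_apply]
        refine ⟨U.sub_mem (hst x _ ihn.1) ihn.1, fun y hy => ?_⟩
        rw [map_sub, ← Module.End.mul_apply, (hc y x).eq, Module.End.mul_apply, ← hA, ihn.2 y hy]
    have hex : ∃ n, (A ^ n) u = 0 := ⟨ringChar F, by rw [hAp]; rfl⟩
    obtain ⟨n, hn⟩ : ∃ n, Nat.find hex = n + 1 := Nat.exists_eq_succ_of_ne_zero fun e => by
      have := Nat.find_spec hex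
      rw [e, pow_zero, Module.End.one_apply] at this
      exact hu0 this
    refine ⟨(A ^ n) u, (hmem n).1, Nat.find_min hex (by omega), fun y hy => ?_⟩
    rcases Finset.mem_insert.1 hy with rfl | h
    · have := Nat.find_spec hex
      rw [hn, pow_succ', Module.End.mul_apply, hA, LinearMap.sub_apply, Module.End.one_apply,
        sub_eq_zero] at this
      exact this
    · exact (hmem n).2 y h

namespace Sm

variable (G : Sm F k)

/-- The torus of a pair. -/
noncomputable def tor (b c : Fin k → F) (l : F) : GL (Fin k) F := G.rf (b - c) * G.rf (b - l • c)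

lemma isI_tor (b c : Fin k → F) (l : F) : G.IsI (G.tor b c l) := (G.isI_rf _).mul (G.isI_rf _)

variable {G} {b c : Fin k → F}

lemma tor_apply (h : G.HB b c) {l : F} (hl : l ≠ 0) (z : Fin k → F) :
    app (G.tor b c l) z = G.wp b c z + (l * G.f c z) • b + (l⁻¹ * G.f b z) • c := by
  have h2 := G.two
  have e1 : G.f (b - c) (b - c) = -2 := by simp [h.bb, h.cc, h.bc, h.cb]; ring
  have e2 : G.f (b - l • c) (b - l • c) = -(2 * l) := by simp [h.bb, h.cc, h.bc, h.cb]; ring
  rw [tor, map_mul, LinearEquiv.mul_apply, rf_apply, rf_apply, e1, e2]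
  simp only [wp, map_sub, map_smul, LinearMap.sub_apply, LinearMap.smul_apply, smul_eq_mul, h.bb,
    h.cc, h.bc, h.cb, mul_one, sub_zero, zero_sub]
  match_scalars <;> field_simp <;> ring

lemma tor_inv_data (h : G.HB b c) {l : F} (hl : l ≠ 0) (a : Fin k → F) :
    G.f b (app (G.tor b c l)⁻¹ a) = l * G.f b a ∧ G.wp b c (app (G.tor b c l)⁻¹ a) = G.wp b c a := by
  have hb : app (G.tor b c l) b = l • b := by
    rw [tor_apply h hl]; simp [wp, h.bb, h.cb]
  refine ⟨by rw [G.sym, (G.isI_tor b c l).inv_left, hb, map_smul, G.sym a b, smul_eq_mul], ?_⟩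
  set x := app (G.tor b c l)⁻¹ a with hx
  have ea : a = G.wp b c x + (l * G.f c x) • b + (l⁻¹ * G.f b x) • c := by
    rw [← tor_apply h hl, hx, app_app_inv]
  have hw := wp_mem h x
  conv_rhs => rw [ea]
  simp only [wp] at hw ⊢
  simp only [map_add, map_sub, map_smul, smul_eq_mul, h.bb, h.cc, h.bc, h.cb]
  module

variable (G)

/-- `V` is closed under the Siegel elements and the central torus element of position `i`. -/
def Cl (i : Fin (t + 1)) (b c : Fin k → F) (V : AddSubgroup (Module.End F (J k (t + 1) → F))) :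
    Prop :=
  (∀ v, G.InW b c v → ∀ X ∈ V, cj (kr i 1 (G.sg b v)) X ∈ V ∧ cj (kr i 1 (G.sg c v)) X ∈ V) ∧
    ∀ X ∈ V, cj (kr i 1 (G.tor b c (-1))) X ∈ V

/-- `X` is scalar in position `i`. -/
def Scal (i : Fin (t + 1)) (X : Module.End F (J k (t + 1) → F)) : Prop :=
  ∃ P, ∀ a z, G.cC i X a z = G.f a z • P

variable {G} {i : Fin (t + 1)}

lemma cj_kr_mul (i : Fin (t + 1)) (C D : GL (Fin k) F) (X : Module.End F (J k (t + 1) → F)) :
    cj (kr i 1 (C * D)) X = cj (kr i 1 C) (cj (kr i 1 D) X) := by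
  rw [show kr i (1 : GL (J k t) F) (C * D) = kr i 1 C * kr i 1 D by rw [kr_mul, one_mul], cj_mul,
    Module.End.mul_apply]

lemma Cl.ww_mem {V : AddSubgroup (Module.End F (J k (t + 1) → F))} (hV : G.Cl i b c V)
    {v : Fin k → F} (hv : G.InW b c v) {X : Module.End F (J k (t + 1) → F)} (hX : X ∈ V) :
    cj (kr i 1 (G.ww b c v)) X ∈ V := by
  rw [ww, cj_kr_mul, cj_kr_mul]
  exact (hV.1 v hv _ (hV.1 _ (hv.smul _) _ (hV.1 v hv X hX).1).2).1

lemma cj_other {s m : Fin (t + 1)} (h : m ≠ s) (C : GL (Fin k) F) :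
    ∃ A : GL (J k t) F, kr m (1 : GL (J k t) F) C = kr s A 1 := by
  cases t with
  | zero => exact absurd (Subsingleton.elim (α := Fin 1) m s) h
  | succ r =>
    obtain ⟨j, rfl⟩ := Fin.exists_succAbove_eq h
    exact ⟨kr j 1 C, (kr_nest s j C).symm⟩

lemma TB.cj_rest {s : Fin (t + 1)} {X : Module.End F (J k (t + 1) → F)} (hX : X ∈ G.TB s b c)
    (A : GL (J k t) F) : cj (kr s A 1) X ∈ G.TB s b c := fun a z => by
  rw [cC_cj_rest, cC_cj_rest, hX a z, map_smul]

lemma TD.cj_rest {s : Fin (t + 1)} {X : Module.End F (J k (t + 1) → F)} (hX : X ∈ G.TD s b c)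
    (A : GL (J k t) F) : cj (kr s A 1) X ∈ G.TD s b c := fun a z => by
  simp only [cC_cj_rest]; rw [hX a z, map_sub, map_smul, map_smul]

lemma sg_f_inv {v : Fin k → F} (h : G.HB b c) (hv : G.InW b c v) (a : Fin k → F) :
    G.f b (app (G.sg b v)⁻¹ a) = G.f b a ∧
      G.wp b c (app (G.sg b v)⁻¹ a) = G.wp b c a + G.f b a • v := by
  rw [sg_inv]
  constructor
  · rw [sg_apply h.bb hv.neg.1]
    simp [h.bb, hv.1]
  · rw [sg_apply h.bb hv.neg.1]
    simp only [wp, map_add, map_sub, map_smul, map_neg, LinearMap.neg_apply, smul_eq_mul, h.bb,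
      h.cb, hv.1, hv.2]
    module

lemma TB.fx {X : Module.End F (J k (t + 1) → F)} (h : G.HB b c) (hX : X ∈ G.TB i b c) :
    X ∈ G.Fx i b c := mem_Fx.2 fun v hv => G.cC_ext (i := i) fun a z => by
  rw [cC_cj_slot i (G.isI_sg b v), hX, (sg_f_inv h hv a).1, (sg_f_inv h hv z).1, ← hX a z]

lemma TD.fx {X : Module.End F (J k (t + 1) → F)} (h : G.HB b c) (hX : X ∈ G.TD i b c) :
    X ∈ G.Fx i b c := mem_Fx.2 fun v hv => G.cC_ext (i := i) fun a z => by
  rw [cC_cj_slot i (G.isI_sg b v), hX, (sg_f_inv h hv a).1, (sg_f_inv h hv z).1,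
    (sg_f_inv h hv a).2, (sg_f_inv h hv z).2, hX a z]
  simp only [map_add, map_smul]
  module

/-- Second difference along a Siegel element. -/
lemma sg_two (h : G.HB b c) {u : Fin k → F} (hu : G.InW b c u) (s : F) (a : Fin k → F) :
    G.f c (app (G.sg b (s • u))⁻¹ a) =
      G.f c a - s * G.f u a - (s * s * G.f u u / 2) * G.f b a := by
  rw [G.sym, (G.isI_sg _ _).inv_left, sg_apply h.bb (hu.smul s).1]
  simp only [map_add, map_sub, map_smul, LinearMap.add_apply, LinearMap.sub_apply, LinearMap.smul_apply,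
    smul_eq_mul, h.bc, hu.right', G.sym a]
  ring

/-- A fixed element gives a typed one, or is scalar in the position. -/
theorem extract (h : G.HB b c) (hk : 3 ≤ k) (hex : ¬ (Fintype.card F = 3 ∧ k = 3))
    {V : AddSubgroup (Module.End F (J k (t + 1) → F))} (hV : G.Cl i b c V)
    {X : Module.End F (J k (t + 1) → F)} (hX : X ∈ V) (hF : X ∈ G.Fx i b c) :
    (∃ X' ∈ V, X' ≠ 0 ∧ (X' ∈ G.TB i b c ∨ X' ∈ G.TD i b c)) ∨ G.Scal i X := by
  have h22 := G.two
  have hn1 : (-1 : F) ≠ 0 := neg_ne_zero.2 one_ne_zero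
  set P := G.cC i X c b
  set Q := G.cC i X c c with hQ
  have hK := fx_form h hk hF
  by_cases hφ : ∃ w, G.InW b c w ∧ G.cC i X c w ≠ 0
  · -- the odd part
    obtain ⟨w, hw, hne⟩ := hφ
    set X' := X - cj (kr i 1 (G.tor b c (-1))) X
    have hK' : ∀ a z, G.cC i X' a z = G.f b a • ((2 : F) • G.cC i X c (G.wp b c z)) -
        G.f b z • ((2 : F) • G.cC i X c (G.wp b c a)) := fun a z => by
      rw [cC_sub, cC_cj_slot i (G.isI_tor _ _ _), hK a z, hK (app _ a) (app _ z),
        (G.isI_tor b c (-1)).inv a z, (tor_inv_data h hn1 a).1, (tor_inv_data h hn1 z).1,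
        (tor_inv_data h hn1 a).2, (tor_inv_data h hn1 z).2]
      module
    have hc : ∀ z, G.cC i X' c (G.wp b c z) = (2 : F) • G.cC i X c (G.wp b c z) := fun z => by
      have hz := wp_mem h z
      rw [hK', h.bc, hz.1, one_smul, zero_smul, sub_zero]
      congr 2
      simp [wp, h.bb, h.bc, h.cb, h.cc]
    refine .inl ⟨X', sub_mem hX (hV.2 X hX), fun e0 => hne ?_, .inr fun a z => ?_⟩
    · have hww : G.wp b c w = w := by simp [wp, hw.1, hw.2]
      have := hc w
      rw [e0, cC_zero, hww, eq_comm, smul_eq_zero] at this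
      exact this.resolve_left h22
    · rw [hK', hc, hc]
  push Not at hφ
  have hK0 : ∀ a z, G.cC i X a z = G.f a z • P + (G.f b a * G.f b z) • Q := fun a z => by
    rw [hK a z, hφ _ (wp_mem h z), hφ _ (wp_mem h a)]; simp [P, Q]
  by_cases hQ0 : Q = 0
  · exact .inr ⟨P, fun a z => by rw [hK0, hQ0, smul_zero, add_zero]⟩
  refine .inl ?_
  suffices hex' : ∃ X' ∈ V, ∃ μ : F, μ ≠ 0 ∧ ∀ a z, G.cC i X' a z = (μ * (G.f b a * G.f b z)) • Q by
    obtain ⟨X', hX', μ, hμ, e⟩ := hex'
    refine ⟨X', hX', fun e0 => hQ0 ?_, .inl fun a z => ?_⟩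
    · have := e c c
      rw [e0, cC_zero, h.bc, mul_one, mul_one, eq_comm, smul_eq_zero] at this
      exact this.resolve_left hμ
    · rw [e, e c c, h.bc]; module
  have dev : ∀ u u', G.InW b c u → G.InW b c u' → G.f u u ≠ 0 →
      2 * G.f u u * G.f u' u' + 4 * G.f u u' * G.f u u' ≠ 0 →
      ∃ X' ∈ V, ∃ μ : F, μ ≠ 0 ∧ ∀ a z, G.cC i X' a z = (μ * (G.f b a * G.f b z)) • Q := by
    intro u u' hu hu' hgu hne
    set Y := cj (kr i 1 (G.ww b c u)) X
    have hY : Y ∈ V := hV.ww_mem hu hX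
    let D : (Fin k → F) → Module.End F (Module.End F (J k (t + 1) → F)) := fun v =>
      cj (kr i 1 (G.sg b ((2 : F) • v))) - (2 : F) • cj (kr i 1 (G.sg b ((1 : F) • v))) + 1
    have hD : ∀ v, G.InW b c v → ∀ Z ∈ V, D v Z ∈ V := fun v hv Z hZ => by
      refine add_mem (sub_mem (hV.1 _ (hv.smul 2) Z hZ).1 ?_) hZ
      rw [LinearMap.smul_apply, two_smul]
      exact add_mem (hV.1 _ (hv.smul 1) Z hZ).1 (hV.1 _ (hv.smul 1) Z hZ).1
    refine ⟨D u' (D u Y), hD u' hu' _ (hD u hu _ hY),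
      (2 / G.f u u) ^ 2 * (2 * G.f u u * G.f u' u' + 4 * G.f u u' * G.f u u'),
      mul_ne_zero (pow_ne_zero _ (div_ne_zero h22 hgu)) hne, fun a z => ?_⟩
    have hYK : ∀ a z, G.cC i Y a z =
        G.f a z • P + ((2 / G.f u u) ^ 2 * (G.f c a * G.f c z)) • Q := fun a z => by
      rw [cC_cj_slot i (G.isI_ww _ _ _), hK0, (G.isI_ww b c u).inv a z]
      congr 1
      have e1 : ∀ a, G.f b (app (G.ww b c u)⁻¹ a) = -(2 / G.f u u) * G.f c a := fun a => by
        rw [G.sym, (G.isI_ww _ _ _).inv_left, ww_apply h hu hgu]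
        simp [wp, h.bb, h.cb, hu.left', G.sym a]
      rw [e1, e1]
      congr 1
      ring
    have hDK : ∀ v, G.InW b c v → ∀ Z a z, G.cC i (D v Z) a z =
        G.cC i Z (app (G.sg b ((2 : F) • v))⁻¹ a) (app (G.sg b ((2 : F) • v))⁻¹ z) -
          (2 : F) • G.cC i Z (app (G.sg b ((1 : F) • v))⁻¹ a) (app (G.sg b ((1 : F) • v))⁻¹ z) +
          G.cC i Z a z := fun v hv Z a z => by
      simp only [D, LinearMap.add_apply, LinearMap.sub_apply, LinearMap.smul_apply,
        Module.End.one_apply, cC_add, cC_sub, cC_smul, cC_cj_slot i (G.isI_sg _ _)]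
    have hbv : ∀ v, G.InW b c v → ∀ s : F, ∀ x, G.f b (app (G.sg b (s • v))⁻¹ x) = G.f b x :=
      fun v hv s x => (sg_f_inv h (hv.smul s) x).1
    have huv : ∀ s : F, ∀ x, G.f u (app (G.sg b (s • u'))⁻¹ x) =
        G.f u x + s * G.f u u' * G.f b x := fun s x => by
      rw [G.sym, (G.isI_sg _ _).inv_left, sg_apply h.bb (hu'.smul s).1]
      simp [hu.1, G.sym u' u, G.sym x]
    have hinv : ∀ v x y, G.f (app (G.sg b v)⁻¹ x) (app (G.sg b v)⁻¹ y) = G.f x y :=
      fun v => (G.isI_sg b v).inv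
    simp only [hDK _ hu', hDK _ hu, hYK, hinv, sg_two h hu, hbv _ hu', huv, sg_two h hu']
    match_scalars
    · ring
    · field_simp
      ring
  obtain ⟨e, he, heg, heo, -⟩ := exists_basis h (by omega)
  by_cases hk4 : 4 ≤ k
  · refine dev (e ⟨0, by omega⟩) (e ⟨1, by omega⟩) (he _) (he _) (heg _) ?_
    rw [heo ⟨0, by omega⟩ ⟨1, by omega⟩ (by simp [Fin.ext_iff]), mul_zero, add_zero]
    exact mul_ne_zero (mul_ne_zero h22 (heg _)) (heg _)
  have hk3 : k = 3 := by omega
  set u := e ⟨0, by omega⟩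
  have hu : G.InW b c u := he _
  have hgu : G.f u u ≠ 0 := heg _
  by_cases hs : ∃ s : F, s ≠ 0 ∧ 1 - s ^ 4 ≠ 0
  · -- the torus
    obtain ⟨s, hs0, hs⟩ := hs
    set C := G.ww b c (s • u) * G.ww b c u
    have hC : G.IsI C := (G.isI_ww _ _ _).mul (G.isI_ww _ _ _)
    have hgs : G.f (s • u) (s • u) ≠ 0 := by simp [hs0, hgu]
    have hCb : ∀ a, G.f b (app C⁻¹ a) = s ^ 2 * G.f b a := fun a => by
      rw [G.sym, hC.inv_left, map_mul, LinearEquiv.mul_apply, ww_apply h hu hgu,
        ww_apply h (hu.smul s) hgs]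
      simp [wp, h.bb, h.cc, h.bc, h.cb, hu.left', hu.right', G.sym a]
      field_simp
      simp
    refine ⟨X - cj (kr i 1 C) X, sub_mem hX ?_, _, hs, fun a z => ?_⟩
    · rw [cj_kr_mul]; exact hV.ww_mem (hu.smul s) (hV.ww_mem hu hX)
    · rw [cC_sub, cC_cj_slot i hC, hK0, hK0, hC.inv a z, hCb, hCb]
      module
  · -- five elements
    push Not at hs
    refine dev u u hu hu hgu ?_
    have h3 : (3 : F) ≠ 0 := fun h3 => by
      classical
      have hc : (Finset.univ.erase (0 : F)).card ≤ 4 := by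
        calc (Finset.univ.erase (0 : F)).card
            ≤ ((Polynomial.X ^ 4 - Polynomial.C (1 : F)).roots.toFinset).card := by
              refine Finset.card_le_card fun x hx => ?_
              rw [Multiset.mem_toFinset, Polynomial.mem_roots (Polynomial.X_pow_sub_C_ne_zero (by norm_num) _)]
              simp only [Polynomial.IsRoot.def, Polynomial.eval_sub, Polynomial.eval_pow,
                Polynomial.eval_X, Polynomial.eval_C]
              linear_combination -(hs x (Finset.ne_of_mem_erase hx))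
          _ ≤ 4 := ((Multiset.toFinset_card_le _).trans (Polynomial.card_roots' _)).trans
              (le_of_eq (Polynomial.natDegree_X_pow_sub_C))
      rw [Finset.card_erase_of_mem (Finset.mem_univ _), Finset.card_univ] at hc
      haveI : Fact (Nat.Prime 3) := ⟨Nat.prime_three⟩
      haveI : CharP F 3 := (CharP.charP_iff_prime_eq_zero Nat.prime_three).2 (by exact_mod_cast h3)
      obtain ⟨n, -, hn⟩ := FiniteField.card F 3
      have h2n : (n : ℕ) < 2 := by
        by_contra h2n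
        have := Nat.pow_le_pow_right (show 1 ≤ 3 by norm_num) (not_lt.1 h2n)
        rw [← hn] at this
        omega
      have hn1 : (n : ℕ) = 1 := by have := n.pos; omega
      exact hex ⟨by rw [hn, hn1, pow_one], hk3⟩
    rw [show 2 * G.f u u * G.f u u + 4 * G.f u u * G.f u u = 3 * (2 * (G.f u u * G.f u u)) by ring]
    exact mul_ne_zero h3 (mul_ne_zero h22 (mul_ne_zero hgu hgu))

lemma sg_pow (h : G.HB b c) {v : Fin k → F} (hv : G.InW b c v) (n : ℕ) :
    G.sg b v ^ n = G.sg b ((n : F) • v) := by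
  induction n with
  | zero => simp [sg_zero]
  | succ n ih => rw [pow_succ, ih, sg_add h.bb (hv.smul _).1 hv.1]; congr 1; push_cast; module

/-- A fixed element of a closed non-zero space. -/
lemma exists_fx (h : G.HB b c) {V : AddSubgroup (Module.End F (J k (t + 1) → F))}
    (hV : G.Cl i b c V) (hne : V ≠ ⊥) : ∃ X ∈ V, X ≠ 0 ∧ X ∈ G.Fx i b c := by
  classical
  letI : Fintype {v // G.InW b c v} := Fintype.ofFinite _
  obtain ⟨X, hX, hX0, hfix⟩ := exists_fix
    (fun v : {v // G.InW b c v} => cj (kr i (1 : GL (J k t) F) (G.sg b v.1)))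
    (fun x y => by
      show _ * _ = _ * _
      refine LinearMap.ext fun Z => ?_
      rw [Module.End.mul_apply, Module.End.mul_apply, ← cj_kr_mul, ← cj_kr_mul,
        sg_add h.bb x.2.1 y.2.1, sg_add h.bb y.2.1 x.2.1, add_comm x.1 y.1])
    (fun x => by
      haveI : CharP F (ringChar F) := ringChar.charP F
      have hpow : ∀ n : ℕ, cj (kr i (1 : GL (J k t) F) (G.sg b x.1)) ^ n =
          cj (kr i (1 : GL (J k t) F) (G.sg b x.1 ^ n)) := fun n => by
        induction n with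
        | zero => rw [pow_zero, pow_zero, kr_one, cj_one]
        | succ n ih =>
          refine LinearMap.ext fun Z => ?_
          rw [pow_succ, pow_succ, Module.End.mul_apply, ih, cj_kr_mul]
      rw [hpow, sg_pow h x.2, CharP.cast_eq_zero, zero_smul, sg_zero, kr_one, cj_one])
    V hne (fun x u hu => (hV.1 x.1 x.2 u hu).1) Finset.univ
  exact ⟨X, hX, hX0, mem_Fx.2 fun v hv => hfix ⟨v, hv⟩ (Finset.mem_univ _)⟩

/-- Typed elements in the positions of `s`. -/
theorem exists_typed (h : G.HB b c) (hk : 3 ≤ k) (hex : ¬ (Fintype.card F = 3 ∧ k = 3))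
    (V : AddSubgroup (Module.End F (J k (t + 1) → F))) (hne : V ≠ ⊥) (s : Finset (Fin (t + 1)))
    (hcl : ∀ m ∈ s, G.Cl m b c V)
    (hsc : ∀ m ∈ s, ∀ X ∈ V, X ≠ 0 → ¬ G.Scal m X) :
    ∃ X ∈ V, X ≠ 0 ∧ ∀ m ∈ s, X ∈ G.TB m b c ∨ X ∈ G.TD m b c := by
  classical
  induction s using Finset.induction_on generalizing V with
  | empty =>
    obtain ⟨X, hX, hX0⟩ := V.bot_or_exists_ne_zero.resolve_left hne
    exact ⟨X, hX, hX0, by simp⟩
  | @insert m s hms ih =>
    have hm := hcl m (Finset.mem_insert_self m s)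
    obtain ⟨X₁, hX₁, hX₁0, hfix⟩ := exists_fx h hm hne
    obtain ⟨X₂, hX₂, hX₂0, hty⟩ := (extract h hk hex hm hX₁ hfix).resolve_right
      (hsc m (Finset.mem_insert_self m s) X₁ hX₁ hX₁0)
    have go : ∀ S : Submodule F (Module.End F (J k (t + 1) → F)), X₂ ∈ S →
        (∀ X ∈ S, ∀ A : GL (J k t) F, cj (kr m A 1) X ∈ S) →
        ∃ X ∈ V, X ≠ 0 ∧ X ∈ S ∧ ∀ l ∈ s, X ∈ G.TB l b c ∨ X ∈ G.TD l b c := by
      intro S h2 hS
      obtain ⟨X, ⟨hXV, hXS⟩, hX0, e⟩ := ih (V ⊓ S.toAddSubgroup)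
        (fun e0 => hX₂0 (by have : X₂ ∈ V ⊓ S.toAddSubgroup := ⟨hX₂, h2⟩; rwa [e0] at this))
        (fun l hl => by
          have hlm : l ≠ m := fun e => hms (e ▸ hl)
          have hc := hcl l (Finset.mem_insert_of_mem hl)
          refine ⟨fun v hv X hX => ⟨⟨(hc.1 v hv X hX.1).1, ?_⟩, ⟨(hc.1 v hv X hX.1).2, ?_⟩⟩,
            fun X hX => ⟨hc.2 X hX.1, ?_⟩⟩
          · obtain ⟨A, hA⟩ := cj_other (F := F) hlm (G.sg b v)
            rw [hA]; exact hS X hX.2 A
          · obtain ⟨A, hA⟩ := cj_other (F := F) hlm (G.sg c v)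
            rw [hA]; exact hS X hX.2 A
          · obtain ⟨A, hA⟩ := cj_other (F := F) hlm (G.tor b c (-1))
            rw [hA]; exact hS X hX.2 A)
        (fun l hl X hX => hsc l (Finset.mem_insert_of_mem hl) X hX.1)
      exact ⟨X, hXV, hX0, hXS, e⟩
    rcases hty with hty | hty
    · obtain ⟨X, hXV, hX0, hXS, e⟩ := go _ hty fun X hX A => TB.cj_rest hX A
      exact ⟨X, hXV, hX0, fun l hl => (Finset.mem_insert.1 hl).elim (fun e0 => e0 ▸ .inl hXS) (e l)⟩
    · obtain ⟨X, hXV, hX0, hXS, e⟩ := go _ hty fun X hX A => TD.cj_rest hX A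
      exact ⟨X, hXV, hX0, fun l hl => (Finset.mem_insert.1 hl).elim (fun e0 => e0 ▸ .inr hXS) (e l)⟩

end Sm

end Cfsg.Agent.C7O
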