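import Cfsg.Agent.Lib.C7O.AvgOp
import Cfsg.Agent.Lib.C7O.Types
import Cfsg.Agent.Lib.C7O.Hyps

/-!
# The skew operators of one position have no proper ideal

* `Sm.exists_aniso_perp` : an anisotropic vector of the complement orthogonal to a given one
* `Sm.ideal_top` : a non-zero space of skew operators stable under brackets contains all of them
-/

set_option autoImplicit false
set_option linter.unusedSectionVars false

namespace Cfsg.Agent.C7O

open Matrix Module Cfsg.Agent.Transvect Cfsg.Agent.C7
open scoped MatrixGroups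

attribute [-simp] app_apply

variable {F : Type*} [Field F] [Fintype F] {k : ℕ}

namespace Sm

variable {G : Sm F k}

lemma inW_singular_eq_zero (hnp : G.NoPlane) (hk : 3 ≤ k) (hk4 : k ≤ 4) {b c w : Fin k → F}
    (h : G.HB b c) (hw : G.InW b c w) (hg : G.f w w = 0) : w = 0 := by
  obtain ⟨e, he, hge, ho, hz⟩ := exists_basis h (by omega : 2 ≤ k)
  have hww : w = ∑ i, (G.f (e i) w / G.f (e i) (e i)) • e i := by
    rw [← hz]; simp [wp, hw.1, hw.2]
  by_cases hk' : k = 4
  · obtain ⟨r, hr⟩ := hnp hk' b w h.bb hg hw.1 h.ne_left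
    have : r = 0 := by
      have := hw.2
      rw [hr, map_smul, h.cb, smul_eq_mul, mul_one] at this
      exact this
    rw [hr, this, zero_smul]
  · obtain rfl : k = 3 := by omega
    rw [Fin.sum_univ_one] at hww
    rw [hww]
    rw [hww] at hg
    simp only [map_smul, LinearMap.smul_apply, smul_eq_mul] at hg
    rcases mul_eq_zero.1 hg with h0 | h0
    · rw [h0, zero_smul]
    · rcases mul_eq_zero.1 h0 with h1 | h1
      · rw [h1, zero_smul]
      · exact absurd h1 (hge 0)

/-- An anisotropic vector of the complement orthogonal to a given one. -/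
lemma exists_aniso_perp (hnp : G.NoPlane) (hk : 3 ≤ k) {b c w : Fin k → F} (h : G.HB b c)
    (hw : G.InW b c w) (hw0 : w ≠ 0) :
    ∃ v, G.InW b c v ∧ G.f v v ≠ 0 ∧ (G.f w v = 0 ∨ v = w) := by
  by_cases hg : G.f w w = 0
  swap
  · exact ⟨w, hw, hg, .inr rfl⟩
  by_cases hk4 : k ≤ 4
  · exact absurd (inW_singular_eq_zero hnp hk hk4 h hw hg) hw0
  obtain ⟨e, he, hge, ho, -⟩ := exists_basis h (by omega : 2 ≤ k)
  obtain ⟨i₀, i₁, i₂, h01, h02, h12⟩ : ∃ i₀ i₁ i₂ : Fin (k - 2), i₀ ≠ i₁ ∧ i₀ ≠ i₂ ∧ i₁ ≠ i₂ :=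
    ⟨⟨0, by omega⟩, ⟨1, by omega⟩, ⟨2, by omega⟩, by simp, by simp, by simp⟩
  by_contra! hall
  set a : Fin (k - 2) → F := fun i => G.f w (e i)
  have ha : ∀ i, a i ≠ 0 := fun i ha => (hall (e i) (he i) (hge i)).1 ha
  have hpair : ∀ i j, i ≠ j →
      a j * a j * G.f (e i) (e i) + a i * a i * G.f (e j) (e j) = 0 := fun i j hij => by
    by_contra hne
    refine (hall (a j • e i - a i • e j) ?_ ?_).1 (by simp [a]; ring)
    · rw [sub_eq_add_neg]; exact ((he i).smul _).add ((he j).smul _).neg
    · rw [show G.f (a j • e i - a i • e j) (a j • e i - a i • e j) =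
          a j * a j * G.f (e i) (e i) + a i * a i * G.f (e j) (e j) by
        simp [ho i j hij, ho j i hij.symm]; ring]
      exact hne
  have h1 := hpair i₀ i₁ h01
  have h2 := hpair i₀ i₂ h02
  have h3 := hpair i₁ i₂ h12
  have : 2 * (a i₁ * a i₁ * (a i₂ * a i₂) * G.f (e i₀) (e i₀)) = 0 := by
    linear_combination (a i₂ * a i₂) * h1 + (a i₁ * a i₁) * h2 - (a i₀ * a i₀) * h3
  rw [mul_eq_zero] at this
  have := this.resolve_left G.two
  simp [ha, hge] at this

/-- The skew operators have no proper ideal. -/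
theorem ideal_top (hnp : G.NoPlane) (hk : 3 ≤ k) {b c : Fin k → F} (h : G.HB b c)
    (I : Submodule F (Module.End F (Fin k → F))) (hI : I ≤ G.so) (h0 : I ≠ ⊥)
    (hst : ∀ D ∈ G.so, ∀ X ∈ I, D * X - X * D ∈ I) : G.so ≤ I := by
  classical
  haveI : CharP F (ringChar F) := ringChar.charP F
  haveI : Fact (ringChar F).Prime := ⟨CharP.char_is_prime F (ringChar F)⟩
  haveI : Nontrivial (Fin k → F) := ⟨⟨b, 0, h.ne_left⟩⟩
  haveI : Nontrivial (Module.End F (Fin k → F)) := inferInstance
  haveI : CharP (Module.End F (Module.End F (Fin k → F))) (ringChar F) :=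
    charP_of_injective_algebraMap
      (algebraMap F (Module.End F (Module.End F (Fin k → F)))).injective _
  have hp3 : 3 ≤ ringChar F := by
    have h2 := (Fact.out : (ringChar F).Prime).two_le
    rcases h2.lt_or_eq with h3 | h3
    · exact h3
    · exact absurd (by exact_mod_cast (h3 ▸ ringChar.Nat.cast_ringChar : ((2 : ℕ) : F) = 0)) G.two
  let ρ : {v // G.InW b c v} → Module.End F (Module.End F (Fin k → F)) := fun v =>
    1 + (LinearMap.mulLeft F (G.dd b v.1) - LinearMap.mulRight F (G.dd b v.1))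
  have hcube : ∀ v : {v // G.InW b c v}, G.dd b v.1 ^ ringChar F = 0 := fun v => by
    obtain ⟨n, hn⟩ := Nat.exists_eq_add_of_le hp3
    rw [hn, pow_add, pow_succ, pow_two, dd_mul_self h.bb v.2.1]
    rw [show ((-G.f v.1 v.1) • G.bb b * G.dd b v.1) = 0 from LinearMap.ext fun z => by
      simp [h.bb, v.2.1], zero_mul]
  have hcomm : ∀ v w : {v // G.InW b c v}, G.dd b v.1 * G.dd b w.1 = G.dd b w.1 * G.dd b v.1 :=
    fun v w => LinearMap.ext fun z => by
      simp [h.bb, v.2.1, w.2.1, v.2.left', w.2.left', G.sym w.1 v.1]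
  obtain ⟨K, hKI, hK0, hKf⟩ := exists_fix ρ (fun v w => LinearMap.ext fun X => by
      simp only [ρ, Module.End.mul_apply, LinearMap.add_apply, Module.End.one_apply,
        LinearMap.sub_apply, LinearMap.mulLeft_apply, LinearMap.mulRight_apply, map_add, map_sub]
      simp only [← mul_assoc, hcomm v w]
      simp only [mul_assoc, hcomm v w]
      abel)
    (fun v => by
      rw [add_pow_char_of_commute (ringChar F) (Commute.one_left _), one_pow,
        sub_pow_char_of_commute (R := Module.End F (Module.End F (Fin k → F))) (ringChar F)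
          (LinearMap.commute_mulLeft_right (G.dd b v.1) (G.dd b v.1)),
        LinearMap.pow_mulLeft, LinearMap.pow_mulRight, hcube]
      simp)
    I.toAddSubgroup (fun e => h0 (Submodule.toAddSubgroup_injective (by simpa using e)))
    (fun v X hX => I.add_mem hX (hst _ (G.dd_mem _ _) X hX)) Finset.univ
  have hKc : ∀ v, G.InW b c v → G.dd b v * K = K * G.dd b v := fun v hv => by
    have := hKf ⟨v, hv⟩ (Finset.mem_univ _)
    simp only [ρ, LinearMap.add_apply, Module.End.one_apply, LinearMap.sub_apply,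
      LinearMap.mulLeft_apply, LinearMap.mulRight_apply] at this
    rwa [add_eq_left, sub_eq_zero] at this
  have hKs := hI hKI
  -- `K = dd b w`
  obtain ⟨w, hw, hKw⟩ : ∃ w, G.InW b c w ∧ K = G.dd b w := by
    have hform := bil_form h hk ((G.f).compl₂ K) fun v hv a z => by
      have e := LinearMap.congr_fun (hKc v hv) z
      simp only [Module.End.mul_apply] at e
      rw [LinearMap.compl₂_apply, LinearMap.compl₂_apply, G.dd_skew, e]
      ring
    simp only [LinearMap.compl₂_apply, smul_eq_mul] at hform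
    have hskew : ∀ a z, G.f a (K z) = -G.f z (K a) := fun a z => by rw [G.sym z, hKs a z]; ring
    have hα : G.f c (K b) = 0 := by
      have e := hform b c
      simp [h.bb, h.bc, wp, h.cb, h.cc] at e
      have : (2 : F) * G.f c (K b) = 0 := by linear_combination hskew b c - e
      exact (mul_eq_zero.1 this).resolve_left G.two
    have hβ : G.f c (K c) = 0 := by
      have : (2 : F) * G.f c (K c) = 0 := by linear_combination hskew c c
      exact (mul_eq_zero.1 this).resolve_left G.two
    refine ⟨G.wp b c (-K c), wp_mem h _, LinearMap.ext fun z => G.f_ext fun a => ?_⟩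
    have hx : ∀ x, G.f (G.wp b c (-K c)) x = G.f c (K (G.wp b c x)) := fun x => by
      rw [← wp_f (wp_mem h _) x, G.sym (G.wp b c (-K c)), wp_f (wp_mem h x), map_neg,
        G.sym (G.wp b c x), hKs]
      ring
    rw [G.sym, hform, hα, hβ, dd_apply]
    simp only [map_sub, map_smul, LinearMap.sub_apply, LinearMap.smul_apply, smul_eq_mul, hx]
    ring
  subst hKw
  have hw0 : w ≠ 0 := fun e => hK0 (by rw [e, ← ddL_apply, map_zero])
  set H : (Fin k → F) → Module.End F (Fin k → F) := fun v =>
    G.dd b w * G.dd c v - G.dd c v * G.dd b w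
  have hH : ∀ v, H v ∈ I := fun v => by
    have := I.neg_mem (hst _ (G.dd_mem c v) _ hKI)
    rwa [neg_sub] at this
  have hHe : ∀ v, G.InW b c v → H v = -G.dd w v - G.f w v • G.dd b c := fun v hv => by
    refine LinearMap.ext fun z => ?_
    simp [H, h.bc, h.cb, hv.1, hv.right', hw.1, hw.2, hw.left', hw.right', hv.left',
      G.sym v w]
    module
  have hclo : ∀ v u, G.InW b c v → G.InW b c u →
      G.f w u • G.dd b v - G.f w v • G.dd b u - G.f v u • G.dd b w ∈ I := fun v u hv hu => by
    have := I.neg_mem (hst _ (G.dd_mem b u) _ (hH v))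
    rw [neg_sub, hHe v hv] at this
    convert this using 1
    refine LinearMap.ext fun z => ?_
    simp [h.bb, h.bc, h.cb, hu.1, hu.2, hu.left', hu.right', hv.1, hv.left', hw.1, hw.left',
      G.sym u v, G.sym u w]
    module
  obtain ⟨u₀, hu₀, hu₀1⟩ : ∃ u, G.InW b c u ∧ G.f w u = 1 := by
    obtain ⟨z, hz⟩ := G.exists_dual hw0
    exact ⟨G.wp b c z, wp_mem h z, by rw [wp_f hw, hz]⟩
  have hperp : ∀ v, G.InW b c v → G.f w v = 0 → G.dd b v ∈ I := fun v hv hwv => by
    have := hclo v u₀ hv hu₀
    rw [hu₀1, hwv, one_smul, zero_smul, sub_zero] at this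
    simpa using I.add_mem this (I.smul_mem (G.f v u₀) hKI)
  obtain ⟨w', hw', hg', hor⟩ := exists_aniso_perp hnp hk h hw hw0
  have hw'I : G.dd b w' ∈ I := by
    rcases hor with e | rfl
    exacts [hperp w' hw' e, hKI]
  -- bracket with `dd c v`
  have hH' : ∀ v, G.InW b c v → G.dd w' v + G.f w' v • G.dd b c ∈ I := fun v hv => by
    have := hst _ (G.dd_mem c v) _ hw'I
    convert this using 1
    refine LinearMap.ext fun z => ?_
    simp [h.bc, h.cb, hv.1, hv.right', hw'.1, hw'.2, hw'.left', hw'.right', hv.left',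
      G.sym v w']
    module
  have hbc : G.dd b c ∈ I := by
    have := hH' w' hw'
    rw [dd_self, zero_add] at this
    simpa [inv_smul_smul₀ hg'] using I.smul_mem (G.f w' w')⁻¹ this
  have hbW : ∀ v, G.InW b c v → G.dd b v ∈ I := fun v hv => by
    have h1 : G.dd w' v ∈ I := by
      simpa using I.sub_mem (hH' v hv) (I.smul_mem (G.f w' v) hbc)
    have := hst _ (G.dd_mem w' v) _ hw'I
    rw [G.dd_deriv (G.dd_mem w' v)] at this
    have e1 : G.dd w' v b = 0 := by simp [hv.left', hw'.left']
    have e2 : G.dd w' v w' = G.f v w' • w' - G.f w' w' • v := rfl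
    rw [e1, e2, show G.dd 0 w' = 0 by rw [← ddL_apply]; simp, zero_add, ← ddL_apply, map_sub,
      map_smul, map_smul, ddL_apply, ddL_apply] at this
    have := I.sub_mem (I.smul_mem (G.f v w') hw'I) this
    rw [sub_sub_cancel] at this
    simpa [inv_smul_smul₀ hg'] using I.smul_mem (G.f w' w')⁻¹ this
  have hcW : ∀ v, G.InW b c v → G.dd c v ∈ I := fun v hv => by
    have := hst _ (G.dd_mem c v) _ hbc
    rw [G.dd_deriv (G.dd_mem c v)] at this
    have e1 : G.dd c v b = -v := by simp [hv.left', h.cb]
    have e2 : G.dd c v c = 0 := by simp [h.cc, hv.right']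
    rw [e1, e2, show G.dd b 0 = 0 from LinearMap.ext (by simp), add_zero] at this
    rwa [show G.dd (-v) c = G.dd c v from LinearMap.ext fun z => by simp; module] at this
  have hWW : ∀ u v, G.InW b c u → G.InW b c v → G.dd u v ∈ I := fun u v hu hv => by
    have := hst _ (G.dd_mem c v) _ (hbW u hu)
    rw [G.dd_deriv (G.dd_mem c v)] at this
    have e1 : G.dd c v b = -v := by simp [hv.left', h.cb]
    have e2 : G.dd c v u = G.f v u • c := by simp [hu.2]
    rw [e1, e2, dd_smul_right] at this
    have := I.sub_mem this (I.smul_mem (G.f v u) hbc)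
    rwa [add_sub_cancel_right, show G.dd (-v) u = G.dd u v from
      LinearMap.ext fun z => by simp; module] at this
  refine so_le_of_dd fun x y => ?_
  rw [wp_decomp G b c x, wp_decomp G b c y]
  simp only [← ddL_apply, map_add, map_smul, LinearMap.add_apply, LinearMap.smul_apply]
  simp only [ddL_apply, dd_self, smul_zero, zero_add, G.dd_comm c b,
    G.dd_comm (G.wp b c x) b, G.dd_comm (G.wp b c x) c, add_zero]
  have hx := wp_mem h x
  have hy := wp_mem h y
  repeat' first
    | apply I.add_mem
    | apply I.smul_mem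
    | apply I.neg_mem
    | assumption
    | exact hbW _ hx
    | exact hbW _ hy
    | exact hcW _ hx
    | exact hcW _ hy
    | exact hWW _ _ hx hy

end Sm

end Cfsg.Agent.C7O
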