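import Cfsg.Agent.Lib.C7O.AvgSum

/-!
# Invariant spaces of operators

* `Sm.L0_inv` : for `k ≠ 0` in the field, the sums of skew operators of single positions are invariant
* `Sm.TS_inv` : for `k = 0` in the field, the tensor products of skew operators are invariant
-/

set_option autoImplicit false
set_option linter.unusedSectionVars false

namespace Cfsg.Agent.C7O

open Matrix Module Cfsg.Agent.Transvect Cfsg.Agent.C7
open Cfsg.Agent.C7F (pr pt pt_pr sl sl_pr pr_ne_zero)
open scoped MatrixGroups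

attribute [-simp] app_apply

variable {F : Type*} [Field F] [Fintype F] {k n t : ℕ}

lemma cj_id (C : GL (Fin k) F) : cj C (LinearMap.id : (Fin k → F) →ₗ[F] _) = LinearMap.id :=
  LinearMap.ext fun z => by simp [cj_apply]

lemma trace_cj (C : GL (Fin k) F) (A : Module.End F (Fin k → F)) :
    LinearMap.trace F _ (cj C A) = LinearMap.trace F _ A := by
  rw [show cj C A = (app C).conj A from LinearMap.ext fun z => by
    rw [cj_apply, LinearEquiv.conj_apply_apply]
    congr 2,
    LinearMap.trace_conj']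

/-- The trace part of one factor. -/
noncomputable def trn : Module.End F (Module.End F (Fin k → F)) :=
  (LinearMap.trace F (Fin k → F)).smulRight LinearMap.id

lemma trn_cj (C : GL (Fin k) F) (A : Module.End F (Fin k → F)) : trn (cj C A) = cj C (trn A) := by
  simp only [trn, LinearMap.smulRight_apply, trace_cj, map_smul, cj_id]

/-- A pure operator that is scalar outside a position. -/
lemma pt_slot (l : Fin (t + 1)) (c : Fin (t + 1) → F) (D : (Fin k → F) →ₗ[F] (Fin k → F)) :
    pt (fun m => if m = l then D else c m • LinearMap.id) =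
      (∏ j : Fin t, c (l.succAbove j)) • sl l D :=
  C7F.Fm.ext_pr fun p => by
    rw [pt_pr, LinearMap.smul_apply, sl_pr,
      show (∏ j : Fin t, c (l.succAbove j)) = ∏ m, if m = l then 1 else c m by
        rw [Fin.prod_univ_succAbove _ l]; simp, ← pr_smul']
    congr 1
    funext m
    by_cases hm : m = l
    · subst hm; simp
    · simp [hm]

namespace Sm

variable {G : Sm F k}

/-- The span of the conjugates. -/
def orbSpan (M : Subgroup (GL (J k n) F)) (S : Submodule F (Module.End F (J k n → F))) :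
    Submodule F (Module.End F (J k n → F)) :=
  Submodule.span F {X | ∃ g ∈ M, ∃ Y ∈ S, X = cj g Y}

lemma le_orbSpan {M : Subgroup (GL (J k n) F)} {S : Submodule F (Module.End F (J k n → F))} :
    S ≤ orbSpan M S := fun Y hY =>
  Submodule.subset_span ⟨1, one_mem M, Y, hY, by rw [cj_one]; rfl⟩

lemma orbSpan_inv {M : Subgroup (GL (J k n) F)} {S : Submodule F (Module.End F (J k n → F))}
    {g : GL (J k n) F} (hg : g ∈ M) {X : Module.End F (J k n → F)} (hX : X ∈ orbSpan M S) :
    cj g X ∈ orbSpan M S := by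
  induction hX using Submodule.span_induction with
  | mem X hX =>
    obtain ⟨g', hg', Y, hY, rfl⟩ := hX
    exact Submodule.subset_span ⟨g * g', mul_mem hg hg', Y, hY, by
      rw [cj_mul, Module.End.mul_apply]⟩
  | zero => rw [map_zero]; exact Submodule.zero_mem _
  | add X Y _ _ hX hY => rw [map_add]; exact Submodule.add_mem _ hX hY
  | smul r X _ hX => rw [map_smul]; exact Submodule.smul_mem _ r hX

lemma orbSpan_le {M : Subgroup (GL (J k n) F)} {S T : Submodule F (Module.End F (J k n → F))}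
    (h : ∀ g ∈ M, ∀ Y ∈ S, cj g Y ∈ T) : orbSpan M S ≤ T :=
  Submodule.span_le.2 fun X ⟨g, hg, Y, hY, e⟩ => e ▸ h g hg Y hY

lemma L0_le {T : Submodule F (Module.End F (J k (t + 1) → F))}
    (h : ∀ l, ∀ D ∈ G.so, sl l D ∈ T) : G.L0 (t + 1) ≤ T :=
  Submodule.span_le.2 fun X ⟨l, D, hD, e⟩ => by
    rw [SetLike.mem_coe, e, pt_update_id]; exact h l D hD

/-- A sign is preserved on the span of the conjugates. -/
lemma orbSpan_sgn {M : Subgroup (GL (J k n) F)} (hM : M ≤ G.isoGrp n)
    {S : Submodule F (Module.End F (J k n → F))} {ε : F} (hS : S ≤ G.Sgn n ε) :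
    orbSpan M S ≤ G.Sgn n ε :=
  orbSpan_le fun _ hg _ hY => cj_sgn (hM hg) (hS hY)

variable {M : Subgroup (GL (J k (t + 1)) F)}

/-- Elements of the kernel of a projection give fixed vectors. -/
lemma exists_fix_ker (hO : G.Ovg M) {b c : Fin k → F} (h : G.HB b c)
    {S : Submodule F (Module.End F (J k (t + 1) → F))}
    (P : Module.End F (Module.End F (J k (t + 1) → F)))
    (hP : ∀ g ∈ M, g ∈ Wr F k (t + 1) → ∀ X, P (cj g X) = cj g (P X))
    (hU : orbSpan M S ⊓ LinearMap.ker P ≠ ⊥) :
    ∃ u ∈ orbSpan M S, P u = 0 ∧ u ≠ 0 ∧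
      ∀ l v, G.InW b c v → cj (kr l 1 (G.sg b v)) u = u := by
  obtain ⟨u, ⟨hu, hu'⟩, hu0, hf⟩ := exists_common_fix h _ hU fun l v hv u hu => by
    have hg := hO.sq_gen l (sg_mem_sq1 b v h.bb hv.1)
    refine ⟨orbSpan_inv hg hu.1, ?_⟩
    have : P u = 0 := hu.2
    rw [SetLike.mem_coe, LinearMap.mem_ker, hP _ hg (kr_one_mem l _), this, map_zero]
  exact ⟨u, hu, hu', hu0, hf⟩

/-- The sums of skew operators of single positions are invariant. -/
theorem L0_inv (hnp : G.NoPlane) (hk : 3 ≤ k) (hex : ¬ (Fintype.card F = 3 ∧ k = 3)) (ht : 1 ≤ t)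
    (hk0 : (k : F) ≠ 0) (hO : G.Ovg M) (hconj : G.ConjWr M) :
    ∀ g ∈ M, ∀ X ∈ G.L0 (t + 1), cj g X ∈ G.L0 (t + 1) := by
  classical
  set φ : Fin (t + 1) → Fin (t + 1) → Module.End F (Module.End F (Fin k → F)) :=
    fun l m => if m = l then G.skp else trn with hφ
  set P : Module.End F (Module.End F (J k (t + 1) → F)) := ∑ l, tmap (φ l) with hPdef
  have hP : ∀ g ∈ M, g ∈ Wr F k (t + 1) → ∀ X, P (cj g X) = cj g (P X) := fun g hg hw X => by
    obtain ⟨π, B, e⟩ := wr_shape hw
    rw [hPdef, LinearMap.sum_apply, LinearMap.sum_apply, map_sum,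
      ← Equiv.sum_comp π fun l => cj g (tmap (φ l) X)]
    refine Finset.sum_congr rfl fun l _ => ?_
    have hl := LinearMap.congr_fun (tmap_cj e (φ l) fun m A => by
      obtain ⟨ν, hν, hB⟩ := wr_simil hk (hO.le hg) e m
      by_cases hm : m = l
      · simp [hφ, hm]; exact G.skp_cj hν (hm ▸ hB) A
      · simp [hφ, hm, trn_cj]) X
    rw [LinearMap.comp_apply, LinearMap.comp_apply] at hl
    rw [hl, show (fun m => φ l (π⁻¹ m)) = φ (π l) from funext fun m => by
      simp only [hφ, Equiv.Perm.inv_def, Equiv.symm_apply_eq]]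
  have hPmem : ∀ X, P X ∈ G.L0 (t + 1) := fun X => by
    rw [hPdef, LinearMap.sum_apply]
    refine Submodule.sum_mem _ fun l _ => tmap_apply_mem (φ l) _ (fun E => ?_) X
    rw [show (fun m => φ l m (E m)) = fun m =>
      if m = l then G.skp (E l) else LinearMap.trace F _ (E m) • LinearMap.id from funext fun m => by
        by_cases hm : m = l
        · subst hm; simp [hφ]
        · simp [hφ, hm, trn], pt_slot]
    exact Submodule.smul_mem _ _ (sl_mem_L0 l (G.skp_mem _))
  set κ : F := (k : F) ^ t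
  have hκ : κ ≠ 0 := pow_ne_zero _ hk0
  have hPid : ∀ X ∈ G.L0 (t + 1), P X = κ • X := fun X hX => by
    have hle : G.L0 (t + 1) ≤ LinearMap.ker (P - κ • 1) := L0_le fun l D hD => by
      rw [LinearMap.mem_ker, LinearMap.sub_apply, LinearMap.smul_apply, Module.End.one_apply,
        sub_eq_zero, hPdef, LinearMap.sum_apply,
        Finset.sum_eq_single l (fun j _ hj => ?_) (by simp)]
      · rw [← pt_update_id, tmap_pt, pt_update_id]
        rw [show (fun m => φ l m (Function.update (fun _ => LinearMap.id) l D m)) =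
          fun m => if m = l then D else (k : F) • LinearMap.id from funext fun m => by
            by_cases hm : m = l
            · subst hm; simp [hφ, G.skp_of_mem hD]
            · simp [hφ, hm, trn, LinearMap.trace_id], pt_slot l fun _ => (k : F)]
        simp [κ]
      · rw [← pt_update_id, tmap_pt]
        exact pt_zero' _ l (by simp [hφ, hj.symm, trn, G.trace_of_mem hD])
    simpa [sub_eq_zero] using hle hX
  obtain ⟨Φ, hΦc, hΦfix, hΦs⟩ := exists_avg hnp hk hex hO hconj P hP
  obtain ⟨b₀, c₀, h₀⟩ := G.exists_hb' hk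
  -- the generators
  have hgen : ∀ l, ∀ D ∈ G.so, Φ (sl l D) = κ • sl l D := fun l D hD => by
    have hL : ∀ D, D ∈ G.so → sl l D ∈ G.L0 (t + 1) := fun D hD => sl_mem_L0 l hD
    let L : Module.End F (Fin k → F) →ₗ[F] Module.End F (J k (t + 1) → F) :=
      { toFun := fun D => sl l D
        map_add' := fun A A' => sl_add l A A'
        map_smul' := fun r A => sl_smul l r A }
    have hle : G.so ≤ LinearMap.ker ((Φ - κ • 1).comp L) := so_le hk (fun b c h e he hg ho i => by
      obtain ⟨m, hm⟩ : ∃ m, m ≠ l := Fintype.exists_ne_of_one_lt_card (by simp; omega) l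
      rw [LinearMap.mem_ker, LinearMap.comp_apply, LinearMap.sub_apply, LinearMap.smul_apply,
        Module.End.one_apply, show L (G.dd b (e i)) = sl l (G.dd b (e i)) from rfl,
        ← hPid _ (hL _ (G.dd_mem _ _))]
      exact TB.of_both h (hΦfix m b c h _ fun v _ => cj_slot_sl_ne hm _ _)
        (hΦfix m c b h.swap _ fun v _ => cj_slot_sl_ne hm _ _)) h₀
    have := hle hD
    rwa [LinearMap.mem_ker, LinearMap.comp_apply, LinearMap.sub_apply, LinearMap.smul_apply,
      Module.End.one_apply, sub_eq_zero] at this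
  have hΦid : ∀ X ∈ orbSpan M (G.L0 (t + 1)), Φ X = κ • X := fun X hX => by
    have hle : orbSpan M (G.L0 (t + 1)) ≤ LinearMap.ker (Φ - κ • 1) := orbSpan_le fun g hg Y hY => by
      have hY' : G.L0 (t + 1) ≤ LinearMap.ker (Φ - κ • 1) := L0_le fun l D hD => by
        simp [hgen l D hD]
      have := hY' hY
      simp only [LinearMap.mem_ker, LinearMap.sub_apply, LinearMap.smul_apply, Module.End.one_apply,
        sub_eq_zero] at this ⊢
      rw [hΦc g hg, this, map_smul]
    simpa [sub_eq_zero] using hle hX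
  have hbot : orbSpan M (G.L0 (t + 1)) ⊓ LinearMap.ker P = ⊥ := by
    by_contra hU
    obtain ⟨u, hu, hPu, hu0, hf⟩ := exists_fix_ker hO h₀ P hP hU
    have hall : ∀ l, κ • u ∈ G.TB l b₀ c₀ := fun l => by
      have := hΦfix l b₀ c₀ h₀ u (hf l)
      rwa [hΦid u hu, hPu, sub_zero] at this
    have := (rank_one_of_TB (ε := -1) (fun _ => b₀) (fun _ => c₀) (fun _ => h₀) hall
      (Submodule.smul_mem _ _ (orbSpan_sgn hO.le L0_le_sgn hu))).1 rfl
    exact hu0 ((smul_eq_zero.1 this).resolve_left hκ)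
  intro g hg X hX
  set Z := cj g X
  have hZ : Z ∈ orbSpan M (G.L0 (t + 1)) := orbSpan_inv hg (le_orbSpan hX)
  have : Z - κ⁻¹ • P Z ∈ orbSpan M (G.L0 (t + 1)) ⊓ LinearMap.ker P :=
    ⟨Submodule.sub_mem _ hZ (Submodule.smul_mem _ _ (le_orbSpan (hPmem Z))), by
      rw [SetLike.mem_coe, LinearMap.mem_ker, map_sub, map_smul, hPid _ (hPmem Z), inv_smul_smul₀ hκ,
        sub_self]⟩
  rw [hbot, Submodule.mem_bot, sub_eq_zero] at this
  rw [this]
  exact Submodule.smul_mem _ _ (hPmem Z)

/-- The tensor products of skew operators are invariant. -/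
theorem TS_inv (hnp : G.NoPlane) (hk : 3 ≤ k) (hex : ¬ (Fintype.card F = 3 ∧ k = 3))
    (hk0 : (k : F) = 0) (hO : G.Ovg M) (hconj : G.ConjWr M) :
    ∀ g ∈ M, ∀ X ∈ G.TS (t + 1), cj g X ∈ G.TS (t + 1) := by
  classical
  have hq : 4 ≤ Fintype.card F ∨ 5 ≤ k := by
    by_contra! hh
    have hc : (Fintype.card F : F) = 0 := FiniteField.cast_card_eq_zero F
    have h1 : 1 < Fintype.card F := Fintype.one_lt_card
    rcases (show Fintype.card F = 2 ∨ Fintype.card F = 3 by omega) with e | e
    · rw [e] at hc; exact G.two (by exact_mod_cast hc)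
    · rw [e] at hc
      have hk4 : k = 4 := by
        have : k ≠ 3 := fun e3 => hex ⟨e, e3⟩
        omega
      rw [hk4] at hk0
      exact one_ne_zero (α := F) (by push_cast at hc hk0; linear_combination hk0 - hc)
  set P : Module.End F (Module.End F (J k (t + 1) → F)) := tmap fun _ => G.skp with hPdef
  have hP : ∀ g ∈ M, g ∈ Wr F k (t + 1) → ∀ X, P (cj g X) = cj g (P X) := fun g hg hw X => by
    obtain ⟨π, B, e⟩ := wr_shape hw
    exact LinearMap.congr_fun (tmap_cj e (fun _ => G.skp) fun m A => by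
      obtain ⟨ν, hν, hB⟩ := wr_simil hk (hO.le hg) e m
      exact G.skp_cj hν hB A) X
  have hPmem : ∀ X, P X ∈ G.TS (t + 1) := fun X =>
    tmap_apply_mem _ _ (fun E => pt_mem_TS fun l => G.skp_mem _) X
  have hPid : ∀ X ∈ G.TS (t + 1), P X = X := fun X hX => by
    have hle : G.TS (t + 1) ≤ LinearMap.ker (P - 1) := Submodule.span_le.2 fun Y ⟨E, hE, e⟩ => by
      rw [SetLike.mem_coe, LinearMap.mem_ker, LinearMap.sub_apply, Module.End.one_apply, sub_eq_zero,
        e, hPdef, tmap_pt]
      exact pt_apply_eq fun l => G.skp_of_mem (hE l)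
    simpa [sub_eq_zero] using hle hX
  obtain ⟨Φ, hΦc, hΦfix, hΦs⟩ := exists_avg hnp hk hex hO hconj P hP
  obtain ⟨b₀, c₀, h₀⟩ := G.exists_hb' hk
  have hsgn : ∀ X, P X ∈ G.Sgn (t + 1) ((-1) ^ (t + 1)) := fun X => TS_le_sgn (hPmem X)
  -- the generators
  have hgen : ∀ b v : Fin (t + 1) → Fin k → F, (∀ l, G.Gen (b l) (v l)) →
      Φ (pt fun l => G.dd (b l) (v l)) = pt fun l => G.dd (b l) (v l) := fun b v hg => by
    choose c hc hv hgv C hC μ ν eb ev hne hμ using hg
    set u := pt fun l => G.dd (b l) (v l) with hu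
    have huTS : u ∈ G.TS (t + 1) := pt_mem_TS fun l => G.dd_mem _ _
    have hR : ∀ l, Φ u - u ∈ G.TB l (b l) (c l) := fun l => by
      have := hΦfix l (b l) (c l) (hc l) u fun w hw => by
        rw [hu, cj_slot_pt, cj_dd (G.isI_sg _ _), sg_fix (hc l).bb hw.1]
        refine pt_apply_eq fun j => ?_
        by_cases hj : j = l
        · subst hj
          rw [Function.update_self, sg_apply (hc j).bb hw.1]
          exact LinearMap.ext fun z => by simp [(hv j).1, (hc j).bb]; module
        · simp [hj]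
      rwa [hPid u huTS] at this
    obtain ⟨r, hr⟩ := (rank_one_of_TB b c hc hR
      (Submodule.sub_mem _ (hΦs _ hsgn u) (TS_le_sgn huTS))).2
    set g := kr (0 : Fin (t + 1)) (1 : GL (J k t) F) (C 0)
    have hg : g ∈ M := hO.sq_gen 0 (hC 0)
    have hI : G.IsI (C 0) := sq1_isI (hC 0)
    have e1 : cj g u = (μ 0 * ν 0) • u := by
      rw [hu, cj_slot_pt, cj_dd hI, eb, ev, dd_smul_left, dd_smul_right, smul_smul, pt_update_smul,
        Function.update_eq_self]
    have e2 : cj g (pt fun l => G.bb (b l)) = (μ 0 * μ 0) • pt fun l => G.bb (b l) := by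
      rw [cj_slot_pt, cj_bb hI, eb, show G.bb (μ 0 • b 0) = (μ 0 * μ 0) • G.bb (b 0) from
        LinearMap.ext fun z => by simp [smul_smul]; ring_nf, pt_update_smul,
        Function.update_eq_self (f := fun l => G.bb (b l))]
    have e3 : (μ 0 * (μ 0 - ν 0)) • (r • pt fun l => G.bb (b l)) = 0 := by
      have h' : cj g (Φ u - u) = (μ 0 * ν 0) • (Φ u - u) := by
        rw [map_sub, ← hΦc g hg, e1, map_smul, smul_sub]
      rw [hr, map_smul, e2, smul_smul, smul_smul] at h'
      linear_combination (norm := module) h'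
    rw [← hr, smul_eq_zero, or_iff_right (mul_ne_zero (hμ 0) (sub_ne_zero.2 (hne 0))),
      sub_eq_zero] at e3
    exact e3
  have hTS : ∀ X ∈ G.TS (t + 1), Φ X = X := fun X hX => by
    have hle : G.TS (t + 1) ≤ LinearMap.ker (Φ - 1) := Submodule.span_le.2 fun Y ⟨E, hE, e⟩ => by
      rw [SetLike.mem_coe, e]
      refine pt_mem_of_span _ (fun _ => {D : Module.End F (Fin k → F) | ∃ b v, G.Gen b v ∧ D = G.dd b v})
        (fun E' hE' => ?_) E
        fun l => so_le (S := Submodule.span F
            {D : Module.End F (Fin k → F) | ∃ b v, G.Gen b v ∧ D = G.dd b v}) hk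
          (fun b c h f hf hg ho i => Submodule.subset_span
            ⟨b, f i, exists_gen hq h f hf hg ho i, rfl⟩) h₀ (hE l)
      choose b v hbv hE'' using hE'
      rw [LinearMap.mem_ker, LinearMap.sub_apply, Module.End.one_apply, sub_eq_zero,
        pt_apply_eq hE'']
      exact hgen b v hbv
    simpa [sub_eq_zero] using hle hX
  have hΦid : ∀ X ∈ orbSpan M (G.TS (t + 1)), Φ X = X := fun X hX => by
    have hle : orbSpan M (G.TS (t + 1)) ≤ LinearMap.ker (Φ - 1) := orbSpan_le fun g hg Y hY => by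
      simp [hΦc g hg, hTS Y hY]
    simpa [sub_eq_zero] using hle hX
  have hbot : orbSpan M (G.TS (t + 1)) ⊓ LinearMap.ker P = ⊥ := by
    by_contra hU
    obtain ⟨u, hu, hPu, hu0, hf⟩ := exists_fix_ker hO h₀ P hP hU
    have hall : ∀ l, u ∈ G.TB l b₀ c₀ := fun l => by
      have := hΦfix l b₀ c₀ h₀ u (hf l)
      rwa [hΦid u hu, hPu, sub_zero] at this
    obtain ⟨r, hr⟩ := (rank_one_of_TB (fun _ => b₀) (fun _ => c₀) (fun _ => h₀) hall
      (orbSpan_sgn hO.le TS_le_sgn hu)).2
    set P0 := pt fun _ : Fin (t + 1) => G.bb b₀ with hP0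
    have hr0 : r ≠ 0 := fun e => hu0 (by rw [hr, e, zero_smul])
    have hP0Λ : P0 ∈ orbSpan M (G.TS (t + 1)) := by
      have := Submodule.smul_mem _ r⁻¹ hu
      rwa [hr, inv_smul_smul₀ hr0] at this
    -- the operator with the identity in the first position
    let L : Module.End F (Fin k → F) →ₗ[F] Module.End F (J k (t + 1) → F) :=
      { toFun := fun A => pt (Function.update (fun _ => G.bb b₀) 0 A)
        map_add' := fun A A' => pt_update_add _ _ A A'
        map_smul' := fun r A => pt_update_smul _ _ r A }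
    set S := (orbSpan M (G.TS (t + 1))).comap L with hS
    have hb : ∀ C ∈ G.Sq1, G.bb (app C b₀) ∈ S := fun C hC => by
      rw [hS, Submodule.mem_comap, show L (G.bb (app C b₀)) = cj (kr 0 1 C) P0 by
        rw [hP0, cj_slot_pt, cj_bb (sq1_isI hC)]; rfl]
      exact orbSpan_inv (hO.sq_gen 0 hC) hP0Λ
    obtain ⟨e, he, hge, ho, hz⟩ := exists_basis h₀ (by omega : 2 ≤ k)
    have hbb : G.bb b₀ ∈ S := by simpa using hb 1 (one_mem _)
    have hcc : G.bb c₀ ∈ S := by
      obtain ⟨v, hv, hg⟩ := exists_aniso h₀ hk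
      have := S.smul_mem (G.f v v * G.f v v / 4) (hb _ (ww_mem_sq1 h₀ hv))
      rw [show (G.f v v * G.f v v / 4) • G.bb (app (G.ww b₀ c₀ v) b₀) = G.bb c₀ from ?_] at this
      · exact this
      · have h4 : (4 : F) ≠ 0 := by
          rw [show (4 : F) = 2 * 2 by norm_num]; exact mul_ne_zero G.two G.two
        have := G.two
        refine LinearMap.ext fun z => ?_
        rw [ww_apply h₀ hv hg]
        simp [wp, h₀.bb, h₀.bc, h₀.cb, hv.left, hv.left']
        match_scalars <;> field_simp <;> ring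
    set Q : Module.End F (Fin k → F) := (G.f c₀).smulRight b₀ + (G.f b₀).smulRight c₀
    have hW : ∀ v, G.InW b₀ c₀ v → G.bb v - (G.f v v / 2) • Q ∈ S := fun v hv => by
      have h1 := S.add_mem (hb _ (sg_mem_sq1 c₀ v h₀.cc hv.2))
        (hb _ (sg_mem_sq1 c₀ (-v) h₀.cc hv.neg.2))
      have h2 := S.smul_mem (2 : F)⁻¹ (S.sub_mem (S.sub_mem h1 (S.smul_mem 2 hbb))
        (S.smul_mem (G.f v v * G.f v v / 2) hcc))
      convert h2 using 1
      have := G.two
      refine LinearMap.ext fun z => ?_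
      simp [Q, sg_apply h₀.cc hv.2, sg_apply h₀.cc hv.neg.2, h₀.cb, h₀.cc, hv.left', hv.left]
      match_scalars <;> field_simp <;> ring
    have hid : (LinearMap.id : Module.End F (Fin k → F)) ∈ S := by
      have h1 := S.sum_mem (t := Finset.univ) fun i _ =>
        S.smul_mem (G.f (e i) (e i))⁻¹ (hW (e i) (he i))
      convert h1 using 1
      have hc : ∀ i, (G.f (e i) (e i))⁻¹ • (G.f (e i) (e i) / 2) • Q = (2 : F)⁻¹ • Q := fun i => by
        rw [smul_smul]; congr 1
        have := hge i; have := G.two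
        field_simp
      simp only [smul_sub, hc, Finset.sum_sub_distrib, Finset.sum_const, Finset.card_univ,
        Fintype.card_fin]
      rw [← Nat.cast_smul_eq_nsmul F, smul_smul, Nat.cast_sub (by omega : 2 ≤ k), hk0]
      refine LinearMap.ext fun z => ?_
      simp only [LinearMap.sub_apply, LinearMap.sum_apply, LinearMap.smul_apply, bb_apply,
        LinearMap.id_apply, smul_smul]
      have hz' : ∑ i, ((G.f (e i) (e i))⁻¹ * G.f (e i) z) • e i = G.wp b₀ c₀ z := by
        rw [hz]; simp only [div_eq_inv_mul]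
      rw [hz', show ((0 - ((2 : ℕ) : F)) * 2⁻¹) = -1 by
        have := G.two; push_cast; field_simp; ring]
      simp [Q, wp]
      abel
    -- it is killed by the average
    have hx0 : L LinearMap.id = 0 := by
      have hfix : ∀ b c : Fin k → F, G.HB b c → ∀ v, G.InW b c v →
          cj (kr (0 : Fin (t + 1)) 1 (G.sg b v)) (L LinearMap.id) = L LinearMap.id := fun b c _ v _ => by
        show cj _ (pt _) = pt _
        rw [cj_slot_pt, Function.update_self, cj_id, Function.update_idem]
      have hPx : P (L LinearMap.id) = 0 := by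
        show tmap _ (pt _) = 0
        rw [tmap_pt]
        exact pt_zero' _ 0 (by simp [G.skp_id])
      have hx := TB.of_both h₀ (hΦfix 0 b₀ c₀ h₀ _ (hfix b₀ c₀ h₀))
        (hΦfix 0 c₀ b₀ h₀.swap _ (hfix c₀ b₀ h₀.swap))
      rw [hΦid _ hid, hPx, sub_zero] at hx
      exact hx
    have hp : L LinearMap.id (pr fun _ => c₀) =
        pr (Function.update (fun _ => b₀) (0 : Fin (t + 1)) c₀) := by
      show pt _ _ = _
      rw [pt_pr]
      congr 1
      funext j
      by_cases hj : j = 0
      · subst hj; simp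
      · simp [hj, h₀.bc]
    rw [hx0, LinearMap.zero_apply] at hp
    exact pr_ne_zero (fun l => by
      by_cases hl : l = 0
      · subst hl; simpa using h₀.ne_right
      · simpa [hl] using h₀.ne_left) hp.symm
  intro g hg X hX
  set Z := cj g X
  have hZ : Z ∈ orbSpan M (G.TS (t + 1)) := orbSpan_inv hg (le_orbSpan hX)
  have : Z - P Z ∈ orbSpan M (G.TS (t + 1)) ⊓ LinearMap.ker P :=
    ⟨Submodule.sub_mem _ hZ (le_orbSpan (hPmem Z)), by
      rw [SetLike.mem_coe, LinearMap.mem_ker, map_sub, hPid _ (hPmem Z), sub_self]⟩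
  rw [hbot, Submodule.mem_bot, sub_eq_zero] at this
  rw [this]
  exact hPmem Z

end Sm

end Cfsg.Agent.C7O
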