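import Cfsg.Agent.Lib.C7O.Kernel

/-!
# Skew operators of one position

* `Sm.so` : the skew operators, `Sm.adjf` the adjoint, `Sm.skp` the skew part
* `Sm.so_le` : the skew operators are spanned by `dd b e`, `e` in an orthogonal basis of the complement
* `Sm.mul_so_top` : the products of two skew operators span all operators
* `Sm.exists_gen` : eigenvectors of the squares of isometries among the generators
-/

set_option autoImplicit false
set_option linter.unusedSectionVars false

namespace Cfsg.Agent.C7O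

open Matrix Module Cfsg.Agent.Transvect Cfsg.Agent.C7
open scoped MatrixGroups

attribute [-simp] app_apply

variable {F : Type*} [Field F] {k : ℕ}

/-- An operator commuting with all operators is a scalar. -/
lemma scal_of_comm {ι : Type} [Fintype ι] [DecidableEq ι] {X : Module.End F (ι → F)}
    (h : ∀ Y : Module.End F (ι → F), X * Y = Y * X) : ∃ r : F, X = r • LinearMap.id := by
  rcases isEmpty_or_nonempty ι with he | ⟨⟨i⟩⟩
  · exact ⟨0, LinearMap.ext fun x => Subsingleton.elim _ _⟩
  refine ⟨X (Pi.single i 1) i, LinearMap.ext fun u => ?_⟩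
  have := LinearMap.congr_fun (h ((LinearMap.proj i).smulRight u)) (Pi.single i 1)
  simpa using this

namespace Sm

variable (G : Sm F k)

/-- The skew operators. -/
def so : Submodule F (Module.End F (Fin k → F)) where
  carrier := {D | ∀ u v, G.f (D u) v = -G.f u (D v)}
  add_mem' := fun hD hE u v => by simp [hD u v, hE u v]; ring
  zero_mem' := fun u v => by simp
  smul_mem' := fun s D hD u v => by simp [hD u v]

/-- The form as an isomorphism with the dual. -/
noncomputable def fE : (Fin k → F) ≃ₗ[F] Module.Dual F (Fin k → F) :=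
  LinearMap.linearEquivOfInjective G.f G.f_inj Subspace.dual_finrank_eq.symm

@[simp] lemma fE_apply (u : Fin k → F) : G.fE u = G.f u := rfl

/-- The adjoint for the form. -/
noncomputable def adjf : Module.End F (Fin k → F) →ₗ[F] Module.End F (Fin k → F) :=
  G.fE.symm.conj.toLinearMap.comp (Module.Dual.transpose (R := F))

lemma f_adjf (A : Module.End F (Fin k → F)) (u v : Fin k → F) :
    G.f (G.adjf A u) v = G.f u (A v) := by
  have h : G.fE (G.adjf A u) = (G.fE u).comp A := by
    simp only [adjf, LinearMap.comp_apply, LinearEquiv.coe_coe, LinearEquiv.conj_apply_apply,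
      LinearEquiv.symm_symm, LinearEquiv.apply_symm_apply]
    rfl
  exact LinearMap.congr_fun h v

lemma f_adjf' (A : Module.End F (Fin k → F)) (u v : Fin k → F) :
    G.f u (G.adjf A v) = G.f (A u) v := by
  rw [G.sym, f_adjf, G.sym]

/-- The skew part. -/
noncomputable def skp : Module.End F (Fin k → F) →ₗ[F] Module.End F (Fin k → F) :=
  (2 : F)⁻¹ • (LinearMap.id - G.adjf)

lemma skp_apply (A : Module.End F (Fin k → F)) : G.skp A = (2 : F)⁻¹ • (A - G.adjf A) := rfl

lemma skp_mem (A : Module.End F (Fin k → F)) : G.skp A ∈ G.so := fun u v => by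
  simp only [skp_apply, LinearMap.smul_apply, LinearMap.sub_apply, map_smul, map_sub, smul_eq_mul,
    f_adjf, f_adjf']
  ring

lemma adjf_of_mem {D : Module.End F (Fin k → F)} (hD : D ∈ G.so) : G.adjf D = -D :=
  LinearMap.ext fun u => G.f_ext fun v => by simp [f_adjf, hD u v]

lemma skp_of_mem {D : Module.End F (Fin k → F)} (hD : D ∈ G.so) : G.skp D = D := by
  rw [skp_apply, G.adjf_of_mem hD, sub_neg_eq_add, ← two_smul F, inv_smul_smul₀ G.two]

lemma skp_id : G.skp LinearMap.id = 0 := by
  rw [skp_apply, show G.adjf LinearMap.id = LinearMap.id from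
    LinearMap.ext fun u => G.f_ext fun v => by simp [f_adjf], sub_self, smul_zero]

lemma adjf_cj {C : GL (Fin k) F} {ν : F} (hν : ν ≠ 0)
    (hC : ∀ u v, G.f (app C u) (app C v) = ν * G.f u v) (A : Module.End F (Fin k → F)) :
    G.adjf (cj C A) = cj C (G.adjf A) :=
  LinearMap.ext fun u => G.f_ext fun v => by
    rw [f_adjf, cj_apply, cj_apply]
    conv_rhs => rw [← app_app_inv C v, hC, f_adjf]
    conv_lhs => rw [← app_app_inv C u, hC]

lemma skp_cj {C : GL (Fin k) F} {ν : F} (hν : ν ≠ 0)
    (hC : ∀ u v, G.f (app C u) (app C v) = ν * G.f u v) (A : Module.End F (Fin k → F)) :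
    G.skp (cj C A) = cj C (G.skp A) := by
  rw [skp_apply, skp_apply, map_smul, map_sub, G.adjf_cj hν hC]

lemma trace_of_mem {D : Module.End F (Fin k → F)} (hD : D ∈ G.so) :
    LinearMap.trace F _ D = 0 := by
  have h : LinearMap.trace F _ (G.adjf D) = LinearMap.trace F _ D := by
    rw [adjf, LinearMap.comp_apply, LinearEquiv.coe_coe, LinearMap.trace_conj',
      LinearMap.trace_transpose']
  rw [G.adjf_of_mem hD, map_neg] at h
  exact (mul_eq_zero.1 (show (2 : F) * LinearMap.trace F _ D = 0 by linear_combination -h)).resolve_left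
    G.two

lemma dd_mem (b v : Fin k → F) : G.dd b v ∈ G.so := G.dd_skew b v

lemma comm_mem {D E : Module.End F (Fin k → F)} (hD : D ∈ G.so) (hE : E ∈ G.so) :
    D * E - E * D ∈ G.so := fun u v => by
  simp only [LinearMap.sub_apply, Module.End.mul_apply, map_sub, hD (E u) v, hE (D u) v,
    hE u (D v), hD u (E v)]
  ring

/-! ### calculus of `dd` and `bb` -/

lemma dd_self (b : Fin k → F) : G.dd b b = 0 := LinearMap.ext fun z => by simp

lemma dd_comm (b v : Fin k → F) : G.dd b v = -G.dd v b := LinearMap.ext fun z => by simp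

lemma dd_add_left (x x' y : Fin k → F) : G.dd (x + x') y = G.dd x y + G.dd x' y :=
  LinearMap.ext fun z => by simp; module

lemma dd_add_right (x y y' : Fin k → F) : G.dd x (y + y') = G.dd x y + G.dd x y' :=
  LinearMap.ext fun z => by simp; module

lemma dd_smul_left (s : F) (x y : Fin k → F) : G.dd (s • x) y = s • G.dd x y :=
  LinearMap.ext fun z => by simp; module

lemma dd_smul_right (s : F) (x y : Fin k → F) : G.dd x (s • y) = s • G.dd x y :=
  LinearMap.ext fun z => by simp; module

/-- `dd` as a bilinear map. -/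
noncomputable def ddL : (Fin k → F) →ₗ[F] (Fin k → F) →ₗ[F] Module.End F (Fin k → F) :=
  LinearMap.mk₂ F G.dd G.dd_add_left G.dd_smul_left G.dd_add_right G.dd_smul_right

@[simp] lemma ddL_apply (x y : Fin k → F) : G.ddL x y = G.dd x y := rfl

lemma dd_deriv {D : Module.End F (Fin k → F)} (hD : D ∈ G.so) (x y : Fin k → F) :
    D * G.dd x y - G.dd x y * D = G.dd (D x) y + G.dd x (D y) :=
  LinearMap.ext fun z => by
    simp only [LinearMap.sub_apply, LinearMap.add_apply, Module.End.mul_apply, dd_apply, map_sub,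
      map_smul, hD x z, hD y z]
    module

variable {G}

lemma cj_dd {C : GL (Fin k) F} (hC : G.IsI C) (x y : Fin k → F) :
    cj C (G.dd x y) = G.dd (app C x) (app C y) :=
  LinearMap.ext fun z => by
    rw [cj_apply, dd_apply, dd_apply, map_sub, map_smul, map_smul]
    rw [← hC y (app C⁻¹ z), ← hC x (app C⁻¹ z), app_app_inv]

lemma cj_bb {C : GL (Fin k) F} (hC : G.IsI C) (x : Fin k → F) :
    cj C (G.bb x) = G.bb (app C x) :=
  LinearMap.ext fun z => by
    rw [cj_apply, bb_apply, bb_apply, map_smul, ← hC x (app C⁻¹ z), app_app_inv]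

lemma dd_ne_zero {b c v : Fin k → F} (h : G.HB b c) (hv : G.InW b c v) (hg : G.f v v ≠ 0) :
    G.dd b v ≠ 0 := fun e => by
  have := LinearMap.congr_fun e c
  simp [hv.right', h.bc] at this
  exact hg (by simp [this])

lemma dd_mul_self {b v : Fin k → F} (hb : G.f b b = 0) (hv : G.f b v = 0) :
    G.dd b v * G.dd b v = (-G.f v v) • G.bb b :=
  LinearMap.ext fun z => by
    simp [hb, hv, G.sym v b, smul_smul, mul_comm]

lemma bb_mul_self {b : Fin k → F} (hb : G.f b b = 0) : G.bb b * G.bb b = 0 :=
  LinearMap.ext fun z => by simp [hb]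

/-- An orthogonal basis of the whole space. -/
lemma exists_obasis (G : Sm F k) :
    ∃ e : Fin k → Fin k → F, (∀ i, G.f (e i) (e i) ≠ 0) ∧
      (∀ i j, i ≠ j → G.f (e i) (e j) = 0) ∧
      ∀ z, z = ∑ i, (G.f (e i) z / G.f (e i) (e i)) • e i := by
  classical
  letI : Invertible (2 : F) := invertibleOfNonzero G.two
  obtain ⟨v, hv⟩ := LinearMap.BilinForm.exists_orthogonal_basis (B := G.f) ⟨fun x y => G.sym x y⟩
  have horth : ∀ i j, i ≠ j → G.f (v i) (v j) = 0 := fun i j hij => hv hij
  have hrepr : ∀ i z, G.f (v i) z = v.repr z i * G.f (v i) (v i) := fun i z => by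
    conv_lhs => rw [← v.sum_repr z]
    rw [map_sum, Finset.sum_eq_single i (fun j _ hji => by
      rw [map_smul, horth i j hji.symm, smul_zero]) (by simp), map_smul, smul_eq_mul]
  have hne : ∀ i, G.f (v i) (v i) ≠ 0 := fun i h0 => v.ne_zero i (G.nd _ fun z => by
    rw [hrepr, h0, mul_zero])
  let e : Fin k ≃ Fin (finrank F (Fin k → F)) := finCongr (Module.finrank_fin_fun F).symm
  refine ⟨fun i => v (e i), fun i => hne _, fun i j hij => horth _ _ (e.injective.ne hij),
    fun z => ?_⟩
  rw [Equiv.sum_comp e (fun i => (G.f (v i) z / G.f (v i) (v i)) • v i)]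
  conv_lhs => rw [← v.sum_repr z]
  refine Finset.sum_congr rfl fun i _ => ?_
  rw [hrepr i z, mul_div_cancel_right₀ _ (hne i)]

/-- Containing all `dd` gives all skew operators. -/
lemma so_le_of_dd {S : Submodule F (Module.End F (Fin k → F))} (h : ∀ x y, G.dd x y ∈ S) :
    G.so ≤ S := by
  intro D hD
  choose y hy using fun i : Fin k => G.exists_rep (LinearMap.proj i)
  have key : (2 : F) • D = ∑ i, G.dd (D (Pi.single i 1)) (y i) := by
    refine LinearMap.ext fun z => G.f_ext fun u => ?_
    simp only [LinearMap.smul_apply, LinearMap.sum_apply, dd_apply, map_sum, map_sub, map_smul,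
      LinearMap.sub_apply, smul_eq_mul, hy, Finset.sum_sub_distrib, LinearMap.proj_apply]
    have e1 : ∑ i, z i * G.f (D (Pi.single i 1)) u = G.f (D z) u := by
      conv_rhs => rw [pi_eq_sum_univ' z]
      simp
    have e2 : ∑ i, G.f (D (Pi.single i 1)) z * u i = G.f (D u) z := by
      conv_rhs => rw [pi_eq_sum_univ' u]
      simp [mul_comm]
    rw [e1, e2, hD u z, G.sym u]
    ring
  have := S.smul_mem (2 : F)⁻¹ (show (2 : F) • D ∈ S from key ▸ S.sum_mem fun i _ => h _ _)
  rwa [inv_smul_smul₀ G.two] at this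

/-- The skew operators are spanned by `dd b e`. -/
lemma so_le (hk : 3 ≤ k) {S : Submodule F (Module.End F (Fin k → F))}
    (hS : ∀ b c, G.HB b c → ∀ e : Fin (k - 2) → Fin k → F, (∀ i, G.InW b c (e i)) →
      (∀ i, G.f (e i) (e i) ≠ 0) → (∀ i j, i ≠ j → G.f (e i) (e j) = 0) → ∀ i, G.dd b (e i) ∈ S)
    {b c : Fin k → F} (h : G.HB b c) : G.so ≤ S := by
  have hW : ∀ b c, G.HB b c → ∀ v, G.InW b c v → G.dd b v ∈ S := fun b c h v hv => by
    obtain ⟨e, he, hg, ho, hz⟩ := exists_basis h (by omega : 2 ≤ k)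
    rw [show v = G.wp b c v by simp [wp, hv.1, hv.2], hz, ← ddL_apply, map_sum]
    exact S.sum_mem fun i _ => by
      rw [map_smul]; exact S.smul_mem _ (hS b c h e he hg ho i)
  have hbc : ∀ b c, G.HB b c → G.dd b c ∈ S := fun b c h => by
    obtain ⟨v, hv, hg⟩ := exists_aniso h hk
    set g := G.f v v
    have hb' : G.HB (b - v - (g / 2) • c) c := ⟨by
        simp [h.bb, h.cc, h.bc, h.cb, hv.left, hv.right, hv.left', hv.right']
        have := G.two; field_simp; ring, h.cc, by simp [h.cc, h.bc, hv.right']⟩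
    have hv' : G.InW (b - v - (g / 2) • c) c (v + g • c) := ⟨by
        simp [h.bc, h.cc, hv.left, hv.right, hv.right']; ring, by simp [h.cc, hv.right]⟩
    have hh := hW _ _ hb' _ hv'
    rw [show G.dd (b - v - (g / 2) • c) (v + g • c) =
        G.dd b v + g • G.dd b c + (g / 2) • G.dd c v by
      have := G.two
      exact LinearMap.ext fun z => by
        simp
        match_scalars <;> field_simp <;> ring] at hh
    have := S.sub_mem (S.sub_mem hh (hW b c h v hv)) (S.smul_mem (g / 2) (hW c b h.swap v hv.swap))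
    rw [show G.dd b v + g • G.dd b c + (g / 2) • G.dd c v - G.dd b v - (g / 2) • G.dd c v =
      g • G.dd b c by abel] at this
    have := S.smul_mem g⁻¹ this
    rwa [inv_smul_smul₀ hg] at this
  have hsing : ∀ b, G.f b b = 0 → ∀ z, G.dd b z ∈ S := fun b hb z => by
    rcases eq_or_ne b 0 with rfl | hb0
    · rw [← ddL_apply, map_zero]; exact S.zero_mem
    obtain ⟨c, h⟩ := exists_hb hb0 hb
    rw [wp_decomp G b c z, dd_add_right, dd_add_right, dd_smul_right, dd_smul_right, dd_self,
      smul_zero, zero_add]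
    exact S.add_mem (S.smul_mem _ (hbc b c h)) (hW b c h _ (wp_mem h z))
  refine so_le_of_dd fun x y => ?_
  set w := G.wp b c x
  have hw : G.InW b c w := wp_mem h x
  have hu : G.f (b - w - (G.f w w / 2) • c) (b - w - (G.f w w / 2) • c) = 0 := by
    simp [h.bb, h.cc, h.bc, h.cb, hw.left, hw.right, hw.left', hw.right']
    have := G.two; field_simp; ring
  have e : w = b - (G.f w w / 2) • c - (b - w - (G.f w w / 2) • c) := by abel
  rw [wp_decomp G b c x, dd_add_left, dd_add_left, dd_smul_left, dd_smul_left]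
  refine S.add_mem (S.add_mem (S.smul_mem _ (hsing b h.bb y)) (S.smul_mem _ (hsing c h.cc y))) ?_
  rw [show G.wp b c x = w from rfl, e, ← ddL_apply, map_sub, map_sub, LinearMap.sub_apply,
    LinearMap.sub_apply, map_smul, LinearMap.smul_apply]
  exact S.sub_mem (S.sub_mem (hsing b h.bb y) (S.smul_mem _ (hsing c h.cc y))) (hsing _ hu y)

/-- The products of two skew operators span all operators. -/
lemma mul_so_top (hk : 3 ≤ k) (S : Submodule F (Module.End F (Fin k → F)))
    (hS : ∀ D ∈ G.so, ∀ E ∈ G.so, D * E ∈ S) (A : Module.End F (Fin k → F)) : A ∈ S := by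
  obtain ⟨e, hg, ho, hz⟩ := G.exists_obasis
  set R : Fin k → Fin k → Module.End F (Fin k → F) := fun l i => (G.f (e l)).smulRight (e i)
  have hthird : ∀ i l : Fin k, ∃ j, j ≠ i ∧ j ≠ l := fun i l => by
    by_contra! hh
    have : (Finset.univ : Finset (Fin k)) ⊆ {i, l} := fun j _ => by
      by_cases hj : j = i
      · simp [hj]
      · simp [hh j hj]
    have := (Finset.card_le_card this).trans Finset.card_le_two
    simp at this; omega
  have hpair : ∀ i l j : Fin k, j ≠ i → j ≠ l →
      G.f (e j) (e j) • R l i + G.f (e i) (e l) • R j j ∈ S := fun i l j hi hl => by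
    rw [show G.f (e j) (e j) • R l i + G.f (e i) (e l) • R j j =
      G.dd (e i) (e j) * G.dd (e j) (e l) from LinearMap.ext fun z => by
        simp [R, ho j l hl, ho i j hi.symm, smul_smul, mul_comm]]
    exact hS _ (G.dd_mem _ _) _ (G.dd_mem _ _)
  have hR : ∀ i l, R l i ∈ S := fun i l => by
    rcases eq_or_ne i l with rfl | hil
    swap
    · obtain ⟨j, hi, hl⟩ := hthird i l
      have := hpair i l j hi hl
      rw [ho i l hil, zero_smul, add_zero] at this
      simpa [inv_smul_smul₀ (hg j)] using S.smul_mem (G.f (e j) (e j))⁻¹ this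
    set P : Fin k → Module.End F (Fin k → F) := fun j => (G.f (e j) (e j))⁻¹ • R j j
    have hP : ∀ a b, a ≠ b → P a + P b ∈ S := fun a b hab => by
      have := S.smul_mem (G.f (e a) (e a) * G.f (e b) (e b))⁻¹ (hpair a a b hab.symm hab.symm)
      convert this using 1
      have := hg a; have := hg b
      simp only [P]
      match_scalars <;> field_simp
    obtain ⟨j, hj, -⟩ := hthird i i
    obtain ⟨m, hmi, hmj⟩ := hthird i j
    have h2 : (2 : F) • P i ∈ S := by
      rw [show (2 : F) • P i = P i + P j + (P i + P m) - (P j + P m) by module]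
      exact S.sub_mem (S.add_mem (hP i j hj.symm) (hP i m hmi.symm)) (hP j m hmj.symm)
    have := S.smul_mem (G.f (e i) (e i) * (2 : F)⁻¹) h2
    rwa [smul_smul, mul_assoc, inv_mul_cancel₀ G.two, mul_one, smul_inv_smul₀ (hg i)] at this
  have hA : A = ∑ l, ∑ i, (G.f (e i) (A (e l)) / (G.f (e i) (e i) * G.f (e l) (e l))) • R l i :=
    LinearMap.ext fun z => by
      conv_lhs => rw [hz z, map_sum]
      simp only [LinearMap.sum_apply]
      refine Finset.sum_congr rfl fun l _ => ?_
      rw [map_smul]
      conv_lhs => rw [hz (A (e l))]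
      rw [Finset.smul_sum]
      refine Finset.sum_congr rfl fun i _ => ?_
      simp only [R, LinearMap.smul_apply, LinearMap.smulRight_apply, smul_smul]
      congr 1
      ring
  rw [hA]
  exact S.sum_mem fun l _ => S.sum_mem fun i _ => S.smul_mem _ (hR i l)

/-- An operator commuting with the skew operators is a scalar. -/
lemma scal_of_comm_so (hk : 3 ≤ k) {X : Module.End F (Fin k → F)}
    (h : ∀ D ∈ G.so, X * D = D * X) : ∃ r : F, X = r • LinearMap.id := by
  refine scal_of_comm fun Y => ?_
  have := mul_so_top (G := G) hk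
    (LinearMap.ker (LinearMap.mulLeft F X - LinearMap.mulRight F X)) (fun D hD E hE => by
      simp only [LinearMap.mem_ker, LinearMap.sub_apply, LinearMap.mulLeft_apply,
        LinearMap.mulRight_apply, sub_eq_zero]
      rw [← mul_assoc, h D hD, mul_assoc, h E hE, mul_assoc]) Y
  simpa [sub_eq_zero] using this

lemma comm_so_eq_zero (hk : 3 ≤ k) {X : Module.End F (Fin k → F)} (hX : X ∈ G.so)
    (h : ∀ D ∈ G.so, X * D = D * X) : X = 0 := by
  obtain ⟨r, rfl⟩ := scal_of_comm_so hk h
  obtain ⟨e, hg, -, -⟩ := G.exists_obasis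
  have := hX (e ⟨0, by omega⟩) (e ⟨0, by omega⟩)
  simp at this
  have : (2 : F) * (r * G.f (e ⟨0, by omega⟩) (e ⟨0, by omega⟩)) = 0 := by linear_combination this
  rw [mul_eq_zero, mul_eq_zero] at this
  rw [(this.resolve_left G.two).resolve_right (hg _), zero_smul]

/-- Generators with an element separating their two vectors. -/
def Gen (G : Sm F k) (b v : Fin k → F) : Prop :=
  ∃ c, G.HB b c ∧ G.InW b c v ∧ G.f v v ≠ 0 ∧
    ∃ C ∈ G.Sq1, ∃ μ ν : F, app C b = μ • b ∧ app C v = ν • v ∧ μ ≠ ν ∧ μ ≠ 0

lemma three_sq [Fintype F] (hq : Fintype.card F = 3) {x : F} (hx : x ≠ 0) : x * x = 1 := by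
  have := FiniteField.pow_card_sub_one_eq_one x hx
  rw [hq] at this
  rw [← this, sq]

/-- The generators exist. -/
lemma exists_gen [Fintype F] (hq : 4 ≤ Fintype.card F ∨ 5 ≤ k) {b c : Fin k → F} (h : G.HB b c)
    (e : Fin (k - 2) → Fin k → F) (he : ∀ i, G.InW b c (e i))
    (hg : ∀ i, G.f (e i) (e i) ≠ 0) (ho : ∀ i j, i ≠ j → G.f (e i) (e j) = 0) (i : Fin (k - 2)) :
    G.Gen b (e i) := by
  classical
  refine ⟨c, h, he i, hg i, ?_⟩
  by_cases hq4 : 4 ≤ Fintype.card F
  · obtain ⟨s, -, hs⟩ : ∃ s : F, s ∈ (Finset.univ : Finset F) ∧ s ∉ ({0, 1, -1} : Finset F) :=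
      Finset.exists_mem_notMem_of_card_lt_card (by
        rw [Finset.card_univ]; exact lt_of_le_of_lt Finset.card_le_three hq4)
    simp at hs
    obtain ⟨h0, h1, h1'⟩ := hs
    have hs2 : s * s ≠ 1 := fun hh => by
      rcases mul_self_eq_one_iff.1 hh with e | e
      exacts [h1 e, h1' e]
    have hgs : G.f (s • e i) (s • e i) ≠ 0 := by simp [h0, hg i]
    refine ⟨G.ww b c (s • e i) * G.ww b c (e i),
      mul_mem (ww_mem_sq1 h ((he i).smul s)) (ww_mem_sq1 h (he i)), s * s, 1, ?_, ?_, hs2,
      mul_ne_zero h0 h0⟩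
    · rw [map_mul, LinearEquiv.mul_apply, ww_apply h (he i) (hg i),
        ww_apply h ((he i).smul s) hgs]
      have := G.two; have := hg i
      simp [wp, h.bb, h.bc, h.cb, h.cc, (he i).1, (he i).2, (he i).left', (he i).right']
      match_scalars <;> field_simp <;> ring
    · rw [map_mul, LinearEquiv.mul_apply, ww_apply h (he i) (hg i),
        ww_apply h ((he i).smul s) hgs]
      have := G.two; have := hg i
      simp [wp, h.bb, h.bc, h.cb, h.cc, (he i).1, (he i).2, (he i).left', (he i).right']
      match_scalars <;> field_simp <;> ring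
  · have h3 : Fintype.card F = 3 := by
      have h1 : 1 < Fintype.card F := Fintype.one_lt_card
      rcases (show Fintype.card F = 2 ∨ Fintype.card F = 3 by omega) with h2 | h2
      · exact absurd (by exact_mod_cast (h2 ▸ Nat.cast_card_eq_zero F : ((2 : ℕ) : F) = 0)) G.two
      · exact h2
    have hk5 : 5 ≤ k := hq.resolve_left hq4
    have h30 : (3 : F) = 0 := by exact_mod_cast (h3 ▸ Nat.cast_card_eq_zero F : ((3 : ℕ) : F) = 0)
    -- a partner of the same norm
    obtain ⟨w, hw, hiw, hww⟩ : ∃ w, G.InW b c w ∧ G.f (e i) w = 0 ∧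
        G.f w w = G.f (e i) (e i) := by
      by_cases hex : ∃ j, j ≠ i ∧ G.f (e j) (e j) = G.f (e i) (e i)
      · obtain ⟨j, hji, hj⟩ := hex
        exact ⟨e j, he j, ho i j hji.symm, hj⟩
      push Not at hex
      have hneg : ∀ j, j ≠ i → G.f (e j) (e j) = -G.f (e i) (e i) := fun j hj =>
        ((mul_self_eq_mul_self_iff.1 ((three_sq h3 (hg j)).trans (three_sq h3 (hg i)).symm)).resolve_left
          (hex j hj))
      obtain ⟨j, hj⟩ : ∃ j, j ≠ i := Fintype.exists_ne_of_one_lt_card (by simp; omega) i
      obtain ⟨l, hli, hlj⟩ : ∃ l, l ≠ i ∧ l ≠ j := by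
        by_contra! hh
        have : (Finset.univ : Finset (Fin (k - 2))) ⊆ {i, j} := fun l _ => by
          by_cases hl : l = i
          · simp [hl]
          · simp [hh l hl]
        have := (Finset.card_le_card this).trans Finset.card_le_two
        simp at this; omega
      refine ⟨e j + e l, (he j).add (he l), by simp [ho i j hj.symm, ho i l hli.symm], ?_⟩
      rw [f_add_self, ho j l hlj.symm, hneg j hj, hneg l hli]
      linear_combination (-G.f (e i) (e i)) * h30
    set C := G.rf (e i) * G.rf (e i + w)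
    have hC : C * C ∈ G.Sq1 :=
      Subgroup.subset_closure ⟨C, (G.isI_rf _).mul (G.isI_rf _), rfl⟩
    have hn1 : (1 : F) ≠ -1 := fun hh => G.two (by linear_combination hh)
    have hw' : G.f w (e i) = 0 := by rw [G.sym, hiw]
    have hsum : G.f (e i + w) (e i + w) = 2 * G.f (e i) (e i) := by
      rw [f_add_self, hiw, hww]; ring
    refine ⟨C * C, hC, 1, -1, ?_, ?_, hn1, one_ne_zero⟩
    · have e1 : app C b = b := by
        rw [map_mul, LinearEquiv.mul_apply, rf_apply, rf_apply]
        simp [(he i).left', hw.left']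
      rw [map_mul, LinearEquiv.mul_apply, e1, e1, one_smul]
    · have e1 : app C (e i) = -w := by
        have := G.two; have := hg i
        rw [map_mul, LinearEquiv.mul_apply, rf_apply, rf_apply, hsum]
        simp [hiw, hw', hww]
        match_scalars <;> field_simp <;> ring
      have e2 : app C w = e i := by
        have := G.two; have := hg i
        rw [map_mul, LinearEquiv.mul_apply, rf_apply, rf_apply, hsum]
        simp [hiw, hw', hww]
        match_scalars <;> field_simp <;> ring
      rw [map_mul, LinearEquiv.mul_apply, e1, map_neg, e2, neg_smul, one_smul]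

end Sm

end Cfsg.Agent.C7O
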