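import Cfsg.Agent.Lib.C7O.AvgIdeal

/-!
# The sum over a group of Siegel elements of one position

* `sum_orbits` : a sum over regular orbits
* `Sm.exists_space` : an anisotropic space of the complement with vanishing second moments
* `Sm.orbit_mem` : the orbit sum of an operator is of type `bb`
-/

set_option autoImplicit false
set_option linter.unusedSectionVars false

namespace Cfsg.Agent.C7O

open Matrix Module Cfsg.Agent.Transvect Cfsg.Agent.C7
open Cfsg.Agent.C7F (op op_add_right op_smul_right op_one sl sl_T)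
open scoped MatrixGroups

attribute [-simp] app_apply

variable {F : Type*} [Field F] [Fintype F] {k t : ℕ}

/-- A sum over regular orbits. -/
lemma sum_orbits {A β E : Type*} [AddGroup A] [Fintype A] [AddCommGroup E] [Module F E]
    (act : A → β → β) (h0 : ∀ x, act 0 x = x) (hadd : ∀ a a' x, act (a + a') x = act a (act a' x))
    (s : Finset β) (hs : ∀ a, ∀ x ∈ s, act a x ∈ s) (hfree : ∀ a, ∀ x ∈ s, act a x = x → a = 0)
    (v : β → E) (T : Submodule F E) (hT : ∀ x ∈ s, ∑ a, v (act a x) ∈ T) : ∑ x ∈ s, v x ∈ T := by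
  classical
  let orb : β → Finset β := fun x => Finset.univ.image fun a => act a x
  have horb : ∀ x a, orb (act a x) = orb x := fun x a => by
    ext z
    simp only [orb, Finset.mem_image, Finset.mem_univ, true_and, ← hadd]
    exact ⟨fun ⟨r, h⟩ => ⟨r + a, h⟩, fun ⟨r, h⟩ => ⟨r - a, by rwa [sub_add_cancel]⟩⟩
  rw [← Finset.sum_fiberwise_of_maps_to (g := orb) (t := s.image orb)
    fun x hx => Finset.mem_image_of_mem orb hx]
  refine Submodule.sum_mem _ fun O hO => ?_
  obtain ⟨x, hx, rfl⟩ := Finset.mem_image.1 hO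
  rw [show s.filter (fun z => orb z = orb x) = orb x from ?_, Finset.sum_image]
  · exact hT x hx
  · intro a _ r _ e
    have := hfree (-r + a) x hx
      (by rw [hadd, show act a x = act r x from e, ← hadd, neg_add_cancel, h0])
    rwa [neg_add_eq_zero, eq_comm] at this
  · ext z
    simp only [Finset.mem_filter]
    refine ⟨fun ⟨_, hz⟩ => hz ▸ Finset.mem_image.2 ⟨0, Finset.mem_univ _, h0 z⟩, fun hz => ?_⟩
    obtain ⟨a, -, rfl⟩ := Finset.mem_image.1 hz
    exact ⟨hs a x hx, horb x a⟩

/-- Odd functions have sum zero. -/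
lemma sum_odd {A E : Type*} [AddCommGroup A] [Fintype A] [AddCommGroup E] [Module F E]
    (h2 : (2 : F) ≠ 0) (φ : A → E) (h : ∀ a, φ (-a) = -φ a) : ∑ a, φ a = 0 := by
  have : (2 : F) • ∑ a, φ a = 0 := by
    rw [two_smul]
    conv_lhs => arg 1; rw [← Equiv.sum_comp (Equiv.neg A) φ]
    simp [h]
  exact (smul_eq_zero.1 this).resolve_left h2

namespace Sm

variable (G : Sm F k)

/-- The span of a family as a function of the coefficients. -/
def comb {d : ℕ} (e : Fin d → Fin k → F) (s : Fin d → F) : Fin k → F := ∑ i, s i • e i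

variable {G}

lemma comb_inW {b c : Fin k → F} {d : ℕ} {e : Fin d → Fin k → F} (he : ∀ i, G.InW b c (e i))
    (s : Fin d → F) : G.InW b c (comb e s) :=
  ⟨by simp [comb, fun i => (he i).1], by simp [comb, fun i => (he i).2]⟩

/-- The conditions on the group of Siegel elements. -/
structure Space (G : Sm F k) (b c : Fin k → F) {d : ℕ} (e : Fin d → Fin k → F) : Prop where
  mem : ∀ i, G.InW b c (e i)
  aniso : ∀ s, s ≠ 0 → G.f (comb e s) (comb e s) ≠ 0
  card : (Fintype.card (Fin d → F) : F) = 0
  moment : ∀ i j, ∑ s : Fin d → F, s i * s j = 0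

lemma moment_two (h2 : (2 : F) ≠ 0) (i j : Fin 2) : ∑ s : Fin 2 → F, s i * s j = 0 := by
  rw [show ∑ s : Fin 2 → F, s i * s j = ∑ p : F × F, ![p.1, p.2] i * ![p.1, p.2] j from
    Fintype.sum_equiv (finTwoArrowEquiv F) _ _ fun s => by
      congr 1 <;> (fin_cases i <;> fin_cases j <;> simp [finTwoArrowEquiv]),
    Fintype.sum_prod_type]
  have hc : (Fintype.card F : F) = 0 := FiniteField.cast_card_eq_zero F
  have h1 : ∑ x : F, x = 0 := sum_odd h2 _ fun _ => rfl
  have hm : ∑ x : F, ∑ y : F, x * y = 0 := by rw [← Finset.sum_mul_sum, h1, zero_mul]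
  have hm' : ∑ x : F, ∑ y : F, y * x = 0 := by rw [Finset.sum_comm]; exact hm
  fin_cases i <;> fin_cases j <;> simp [← Finset.mul_sum, ← Finset.sum_mul, h1, hc, hm, hm']

lemma exists_space (hnp : G.NoPlane) (hk : 3 ≤ k) (hex : ¬ (Fintype.card F = 3 ∧ k = 3))
    {b c : Fin k → F} (h : G.HB b c) :
    ∃ (d : ℕ) (e : Fin d → Fin k → F), G.Space b c e := by
  classical
  have hc : (Fintype.card F : F) = 0 := FiniteField.cast_card_eq_zero F
  by_cases hq : 5 ≤ Fintype.card F
  · obtain ⟨v, hv, hg⟩ := exists_aniso h hk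
    refine ⟨1, fun _ => v, fun _ => hv, fun s hs => ?_, by simp [hc], fun i j => ?_⟩
    · have : s 0 ≠ 0 := fun e => hs (funext fun i => by rw [Subsingleton.elim i 0, e]; rfl)
      simp [comb, this, hg]
    · rw [Subsingleton.elim i 0, Subsingleton.elim j 0,
        ← Equiv.sum_comp (Equiv.funUnique (Fin 1) F).symm]
      simpa [sq] using FiniteField.sum_pow_lt_card_sub_one F 2 (by omega)
  have h3 : Fintype.card F = 3 := by
    have h1 : 1 < Fintype.card F := Fintype.one_lt_card
    rcases (show Fintype.card F = 2 ∨ Fintype.card F = 3 ∨ Fintype.card F = 4 by omega) with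
      h2 | h2 | h2
    · exact absurd (by exact_mod_cast (h2 ▸ hc : ((2 : ℕ) : F) = 0)) G.two
    · exact h2
    · exact absurd (mul_self_eq_zero.1
        (show (2 : F) * 2 = 0 by
          have : ((4 : ℕ) : F) = 0 := h2 ▸ hc
          push_cast at this
          linear_combination this)) G.two
  have hk4 : 4 ≤ k := by
    by_contra hh
    exact hex ⟨h3, by omega⟩
  obtain ⟨e, he, hge, ho, -⟩ := exists_basis h (by omega : 2 ≤ k)
  -- two members spanning an anisotropic plane
  obtain ⟨i, j, hij, hgij⟩ : ∃ i j, i ≠ j ∧ (k = 4 ∨ G.f (e i) (e i) = G.f (e j) (e j)) := by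
    by_cases hk' : k = 4
    · exact ⟨⟨0, by omega⟩, ⟨1, by omega⟩, by simp, .inl hk'⟩
    have hsq : ∀ a b, G.f (e a) (e a) = G.f (e b) (e b) ∨ G.f (e a) (e a) = -G.f (e b) (e b) :=
      fun a b => mul_self_eq_mul_self_iff.1
        ((three_sq h3 (hge a)).trans (three_sq h3 (hge b)).symm)
    obtain ⟨i₀, i₁, i₂, h01, h02, h12⟩ :
        ∃ i₀ i₁ i₂ : Fin (k - 2), i₀ ≠ i₁ ∧ i₀ ≠ i₂ ∧ i₁ ≠ i₂ :=
      ⟨⟨0, by omega⟩, ⟨1, by omega⟩, ⟨2, by omega⟩, by simp, by simp, by simp⟩
    rcases hsq i₀ i₁ with e1 | e1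
    · exact ⟨_, _, h01, .inr e1⟩
    rcases hsq i₀ i₂ with e2 | e2
    · exact ⟨_, _, h02, .inr e2⟩
    exact ⟨_, _, h12, .inr (neg_inj.1 (e1.symm.trans e2))⟩
  refine ⟨2, ![e i, e j], fun l => ?_, fun s hs h0 => hs ?_, by simp [hc], fun a b => moment_two G.two a b⟩
  · fin_cases l
    exacts [he i, he j]
  have hcomb : comb ![e i, e j] s = s 0 • e i + s 1 • e j := by simp [comb, Fin.sum_univ_two]
  have key : s 0 = 0 ∧ s 1 = 0 := by
    rcases hgij with hk' | hg2
    · have hw : G.InW b c (comb ![e i, e j] s) := comb_inW (fun l => by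
        fin_cases l
        exacts [he i, he j]) s
      have := inW_singular_eq_zero hnp hk hk'.le h hw h0
      rw [hcomb] at this
      constructor
      · simpa [ho i j hij, hge i] using congrArg (G.f (e i)) this
      · simpa [ho j i hij.symm, hge j] using congrArg (G.f (e j)) this
    · rw [hcomb] at h0
      simp [ho i j hij, ho j i hij.symm, ← hg2] at h0
      have h0' : (s 0 * s 0 + s 1 * s 1) * G.f (e i) (e i) = 0 := by linear_combination h0
      have h00 := (mul_eq_zero.1 h0').resolve_right (hge i)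
      by_cases a0 : s 0 = 0
      · rw [a0] at h00; simpa [a0] using h00
      by_cases a1 : s 1 = 0
      · rw [a1] at h00; simp [a0] at h00
      rw [three_sq h3 a0, three_sq h3 a1] at h00
      exact absurd (by linear_combination h00) G.two
  funext l
  fin_cases l
  exacts [key.1, key.2]

lemma sl_add (l : Fin (t + 1)) (A A' : (Fin k → F) →ₗ[F] (Fin k → F)) :
    sl l (A + A') = sl l A + sl l A' := op_add_right l _ A A'

lemma sl_smul (l : Fin (t + 1)) (r : F) (A : (Fin k → F) →ₗ[F] (Fin k → F)) :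
    sl l (r • A) = r • sl l A := op_smul_right l r _ A

lemma app_sg_eq {b c v : Fin k → F} (h : G.HB b c) (hv : G.InW b c v) (l : Fin (t + 1)) :
    (app (kr l (1 : GL (J k t) F) (G.sg b v))).toLinearMap =
      (1 : Module.End F (J k (t + 1) → F)) + sl l (G.dd b v) +
        (-(G.f v v / 2)) • sl l (G.bb b) := by
  rw [app_kr_one_sl, show (app (G.sg b v)).toLinearMap =
      LinearMap.id + G.dd b v + (-(G.f v v / 2)) • G.bb b from LinearMap.ext fun z => by
    simp [sg_apply h.bb hv.1]; module,
    sl_add, sl_add, sl_smul, show sl l (LinearMap.id : (Fin k → F) →ₗ[F] _) = 1 from op_one l]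

/-- A product with `bb` on both sides is of type `bb`. -/
lemma sandwich_mem (l : Fin (t + 1)) {b c : Fin k → F} (h : G.HB b c)
    (Z : Module.End F (J k (t + 1) → F)) :
    sl l (G.bb b) * Z * sl l (G.bb b) ∈ G.TB l b c := by
  have key : ∀ a z, G.cC l (sl l (G.bb b) * Z * sl l (G.bb b)) a z =
      (G.f b a * G.f b z) • G.cC l Z b b := fun a z => LinearMap.ext fun y => by
    rw [cC_apply, Module.End.mul_apply, Module.End.mul_apply, sl_T, LinearMap.smul_apply,
      cC_apply, bb_apply, map_smul, map_smul, map_smul, map_smul,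
      show ∀ w, ct l (G.f a) (sl l (G.bb b) w) = G.f b a • ct l (G.f b) w from fun w =>
        LinearMap.congr_fun (lin_ext l (f := (ct l (G.f a)).comp (sl l (G.bb b)))
          (g := G.f b a • ct l (G.f b)) fun y u => by
            simp [G.sym a b, smul_smul, mul_comm]) w,
      smul_smul]
    rw [mul_comm]
  intro a z
  rw [key a z, key c c]
  simp [h.bc]

/-- The orbit sum is of type `bb`. -/
theorem orbit_mem {b c : Fin k → F} (h : G.HB b c) {d : ℕ} {e : Fin d → Fin k → F}
    (hS : G.Space b c e) (l : Fin (t + 1)) (Z : Module.End F (J k (t + 1) → F)) :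
    ∑ s : Fin d → F, cj (kr l 1 (G.sg b (comb e s))) Z ∈ G.TB l b c := by
  set D : (Fin d → F) → Module.End F (J k (t + 1) → F) := fun s => sl l (G.dd b (comb e s)) with hD
  set g : (Fin d → F) → F := fun s => G.f (comb e s) (comb e s) with hg
  set Q := sl l (G.bb b) with hQ
  have hneg : ∀ s, comb e (-s) = -comb e s := fun s => by simp [comb]
  have hDneg : ∀ s, D (-s) = -D s := fun s => by
    simp only [hD]; rw [hneg]
    exact lin_ext l fun y u => by simp; module
  have hgneg : ∀ s, g (-s) = g s := fun s => by simp [hg, hneg]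
  have hexp : ∀ s, cj (kr l 1 (G.sg b (comb e s))) Z =
      Z + (D s * Z - Z * D s + (-(g s / 2)) • (D s * Z * Q - Q * Z * D s)) +
        (g s * g s / 4) • (Q * Z * Q) +
        ((-(g s / 2)) • (Q * Z + Z * Q) - D s * Z * D s) := fun s => by
    have hv := comb_inW hS.mem s
    rw [show cj (kr l 1 (G.sg b (comb e s))) Z =
      (app (kr l (1 : GL (J k t) F) (G.sg b (comb e s)))).toLinearMap * Z *
        (app (kr l (1 : GL (J k t) F) (G.sg b (comb e (-s))))).toLinearMap from
      LinearMap.ext fun x => by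
        rw [cj_apply, Module.End.mul_apply, Module.End.mul_apply, kr_inv, inv_one, sg_inv, hneg]
        rfl,
      app_sg_eq h hv, app_sg_eq h (comb_inW hS.mem (-s))]
    rw [show sl l (G.dd b (comb e (-s))) = D (-s) from rfl, hDneg,
      show G.f (comb e (-s)) (comb e (-s)) = g (-s) from rfl, hgneg]
    simp only [← hQ, hg, show sl l (G.dd b (comb e s)) = D s from rfl]
    rw [show -D s = (-1 : F) • D s from (neg_one_smul F (D s)).symm]
    simp only [add_mul, mul_add, smul_mul_assoc, mul_smul_comm, one_mul, mul_one,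
      mul_assoc, smul_add, smul_sub, mul_sub, sub_mul]
    have := G.two
    have h4 : (4 : F) ≠ 0 := by
      rw [show (4 : F) = 2 * 2 by norm_num]; exact mul_ne_zero G.two G.two
    match_scalars <;> field_simp <;> ring
  have hDsum : ∀ s, D s = ∑ i, s i • sl l (G.dd b (e i)) := fun s => by
    let L : (Fin k → F) →ₗ[F] Module.End F (J k (t + 1) → F) :=
      { toFun := fun v => sl l (G.dd b v)
        map_add' := fun v v' => by rw [G.dd_add_right, sl_add]
        map_smul' := fun r v => by rw [G.dd_smul_right, sl_smul]; rfl }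
    show L (comb e s) = _
    rw [comb, map_sum]
    simp [L]
  have hgsum : ∀ s, g s = ∑ i, ∑ j, s i * s j * G.f (e i) (e j) := fun s => by
    simp only [hg, comb, map_sum, map_smul, LinearMap.sum_apply, LinearMap.smul_apply, smul_eq_mul,
      Finset.mul_sum]
    rw [Finset.sum_comm]
    exact Finset.sum_congr rfl fun i _ => Finset.sum_congr rfl fun j _ => by ring
  have s1 : ∑ _s : Fin d → F, Z = 0 := by
    rw [Finset.sum_const, Finset.card_univ, ← Nat.cast_smul_eq_nsmul F, hS.card, zero_smul]
  have s2 : ∑ s, (D s * Z - Z * D s + (-(g s / 2)) • (D s * Z * Q - Q * Z * D s)) = 0 :=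
    sum_odd G.two _ fun s => by
      rw [hDneg, hgneg, show -D s = (-1 : F) • D s from (neg_one_smul F (D s)).symm]
      simp only [smul_mul_assoc, mul_smul_comm]
      module
  have s3 : ∑ s, g s = 0 := by
    simp only [hgsum]
    rw [Finset.sum_comm]
    refine Finset.sum_eq_zero fun i _ => ?_
    rw [Finset.sum_comm]
    refine Finset.sum_eq_zero fun j _ => ?_
    rw [← Finset.sum_mul, hS.moment, zero_mul]
  have s4 : ∑ s, D s * Z * D s = 0 := by
    simp only [hDsum, Finset.sum_mul, Finset.mul_sum, smul_mul_assoc, mul_smul_comm, Finset.smul_sum,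
      smul_smul]
    rw [Finset.sum_comm]
    refine Finset.sum_eq_zero fun i _ => ?_
    rw [Finset.sum_comm]
    refine Finset.sum_eq_zero fun j _ => ?_
    rw [← Finset.sum_smul, hS.moment, zero_smul]
  simp only [hexp, Finset.sum_add_distrib, s1, s2, zero_add, Finset.sum_sub_distrib, s4, sub_zero,
    ← Finset.sum_smul]
  rw [show ∑ s, -(g s / 2) = 0 by
    simp [Finset.sum_neg_distrib, ← Finset.sum_div, s3], zero_smul, add_zero]
  exact Submodule.smul_mem _ _ (sandwich_mem l h Z)

end Sm

end Cfsg.Agent.C7O
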