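import Cfsg.Agent.Lib.C7O.AvgTen
import Cfsg.Agent.Lib.C7O.AvgOrbit

/-!
# Averaging a map of operators over the cosets of the wreath part

* `Sm.exists_avg` : the average commutes with `M` and differs from the map, at a vector fixed by the
  Siegel elements of a position, by an operator of type `bb`
* `Sm.TB.of_both` : no non-zero operator is of type `bb` for both orders of a pair
* `Sm.rank_one_of_TB` : an operator of type `bb` in every position and of sign `ε`
* `Sm.exists_common_fix` : a non-zero common fixed vector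
-/

set_option autoImplicit false
set_option linter.unusedSectionVars false

namespace Cfsg.Agent.C7O

open Matrix Module Cfsg.Agent.Transvect Cfsg.Agent.C7
open Cfsg.Agent.C7F (pr pt pt_pr sl sl_pr)
open scoped MatrixGroups

attribute [-simp] app_apply

variable {F : Type*} [Field F] [Fintype F] {k n t : ℕ}

namespace Sm

variable {G : Sm F k}

lemma kr_one_add {b c v v' : Fin k → F} (h : G.HB b c) (hv : G.InW b c v) (hv' : G.InW b c v')
    (l : Fin (t + 1)) :
    kr l (1 : GL (J k t) F) (G.sg b (v + v')) = kr l 1 (G.sg b v) * kr l 1 (G.sg b v') := by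
  rw [kr_mul, one_mul, sg_add h.bb hv.1 hv'.1]

/-- The average. -/
theorem exists_avg (hnp : G.NoPlane) (hk : 3 ≤ k) (hex : ¬ (Fintype.card F = 3 ∧ k = 3))
    {M : Subgroup (GL (J k (t + 1)) F)} (hO : G.Ovg M) (hconj : G.ConjWr M)
    (P : Module.End F (Module.End F (J k (t + 1) → F)))
    (hP : ∀ h ∈ M, h ∈ Wr F k (t + 1) → ∀ X, P (cj h X) = cj h (P X)) :
    ∃ Φ : Module.End F (Module.End F (J k (t + 1) → F)),
      (∀ g ∈ M, ∀ X, Φ (cj g X) = cj g (Φ X)) ∧
      (∀ (l : Fin (t + 1)) (b c : Fin k → F), G.HB b c → ∀ u,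
        (∀ v, G.InW b c v → cj (kr l 1 (G.sg b v)) u = u) → Φ u - P u ∈ G.TB l b c) ∧
      ∀ ε, (∀ X, P X ∈ G.Sgn (t + 1) ε) → ∀ X, Φ X ∈ G.Sgn (t + 1) ε := by
  classical
  haveI : Finite (GL (J k (t + 1)) F) := Finite.of_injective Units.val Units.val_injective
  let H : Subgroup M := (Wr F k (t + 1)).subgroupOf M
  letI : Fintype (M ⧸ H) := Fintype.ofFinite _
  let fr : M → Module.End F (Module.End F (J k (t + 1) → F)) := fun r =>
    cj (r : GL (J k (t + 1)) F) * P * cj ((r : GL (J k (t + 1)) F)⁻¹)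
  let Fq : M ⧸ H → Module.End F (Module.End F (J k (t + 1) → F)) := fun q => fr q.out
  have hFq : ∀ r : M, Fq (r : M ⧸ H) = fr r := fun r => by
    obtain ⟨⟨h, hh⟩, e⟩ := QuotientGroup.mk_out_eq_mul H r
    show fr _ = fr r
    rw [e]
    refine LinearMap.ext fun X => ?_
    simp only [fr, Subgroup.coe_mul, _root_.mul_inv_rev, cj_mul, Module.End.mul_apply]
    rw [hP _ (inv_mem h.2) (inv_mem (show (h : GL (J k (t + 1)) F) ∈ Wr F k (t + 1) from hh)),
      ← Module.End.mul_apply (cj (h : GL (J k (t + 1)) F)) (cj ((h : GL (J k (t + 1)) F)⁻¹)),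
      ← cj_mul (h : GL (J k (t + 1)) F), mul_inv_cancel, cj_one,
      Module.End.one_apply]
  have hFsm : ∀ (g : M) (q : M ⧸ H), Fq (g • q) =
      cj (g : GL (J k (t + 1)) F) * Fq q * cj ((g : GL (J k (t + 1)) F)⁻¹) := fun g q => by
    induction q using QuotientGroup.induction_on with
    | H r =>
      rw [MulAction.Quotient.smul_coe, smul_eq_mul, hFq, hFq]
      simp only [fr, Subgroup.coe_mul, _root_.mul_inv_rev, cj_mul, mul_assoc]
  refine ⟨∑ q, Fq q, fun g hg X => ?_, fun l b c h u hu => ?_, fun ε hε X => ?_⟩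
  · have e : cj g * (∑ q, Fq q) * cj g⁻¹ = ∑ q, Fq q := by
      rw [Finset.mul_sum, Finset.sum_mul]
      refine (Finset.sum_congr rfl fun q _ => (hFsm ⟨g, hg⟩ q).symm).trans ?_
      exact Equiv.sum_comp (MulAction.toPerm (⟨g, hg⟩ : M)) Fq
    conv_lhs => rw [← e]
    rw [Module.End.mul_apply, Module.End.mul_apply, ← Module.End.mul_apply (cj g⁻¹), ← cj_mul,
      inv_mul_cancel, cj_one, Module.End.one_apply]
  · obtain ⟨d, e, hS⟩ := exists_space hnp hk hex h
    let y : (Fin d → F) → M := fun s =>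
      ⟨kr l 1 (G.sg b (comb e s)),
        hO.sq_gen l (sg_mem_sq1 b _ h.bb (comb_inW hS.mem s).1)⟩
    have hy0 : y 0 = 1 := Subtype.ext (by simp [y, comb, sg_zero, kr_one])
    have hyadd : ∀ s s', y (s + s') = y s * y s' := fun s s' => Subtype.ext (by
      show kr l 1 (G.sg b (comb e (s + s'))) = _
      rw [show comb e (s + s') = comb e s + comb e s' by
        simp [comb, add_smul, Finset.sum_add_distrib]]
      exact kr_one_add h (comb_inW hS.mem s) (comb_inW hS.mem s') l)
    let q₀ : M ⧸ H := ((1 : M) : M ⧸ H)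
    have hq₀ : Fq q₀ u = P u := by rw [hFq]; simp [fr, cj_one]
    rw [LinearMap.sum_apply, ← Finset.add_sum_erase _ _ (Finset.mem_univ q₀), hq₀, add_sub_cancel_left]
    refine sum_orbits (fun s q => y s • q) (fun q => ?_) (fun s s' q => ?_) _ (fun s q hq => ?_)
      (fun s q hq e' => ?_) _ _ fun q _ => ?_
    · rw [hy0, one_smul]
    · rw [smul_smul, hyadd]
    · refine Finset.mem_erase.2 ⟨fun e' => (Finset.mem_erase.1 hq).1 ?_, Finset.mem_univ _⟩
      have hy0' : (y s)⁻¹ • q₀ = q₀ := by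
        rw [show (y s)⁻¹ • q₀ = (((y s)⁻¹ * 1 : M) : M ⧸ H) from rfl, mul_one]
        refine QuotientGroup.eq.2 ?_
        rw [mul_one, inv_inv]
        exact kr_one_mem l _
      rw [← hy0', ← e', inv_smul_smul]
    · by_contra hne
      obtain ⟨r, rfl⟩ := QuotientGroup.mk_surjective q
      rw [MulAction.Quotient.smul_coe, smul_eq_mul, QuotientGroup.eq] at e'
      have e'' := inv_mem e'
      rw [_root_.mul_inv_rev, inv_inv, ← mul_assoc] at e''
      refine (Finset.mem_erase.1 hq).1 (QuotientGroup.eq.2 ?_)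
      rw [mul_one]
      have := hconj _ (inv_mem r.2) l b c _ h (comb_inW hS.mem s) (hS.aniso s hne)
        (by rw [inv_inv]; exact e'')
      exact this
    · have hv : ∀ s, Fq (y s • q) u = cj (kr l 1 (G.sg b (comb e s))) (Fq q u) := fun s => by
        rw [hFsm, Module.End.mul_apply, Module.End.mul_apply]
        congr 2
        conv_lhs => rw [← hu _ (comb_inW hS.mem s)]
        rw [← Module.End.mul_apply (cj _) (cj _), ← cj_mul, show (y s : GL (J k (t + 1)) F) =
          kr l 1 (G.sg b (comb e s)) from rfl, inv_mul_cancel, cj_one, Module.End.one_apply]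
      simp only [hv]
      exact orbit_mem h hS l _
  · rw [LinearMap.sum_apply]
    refine Submodule.sum_mem _ fun q _ => ?_
    exact cj_sgn (hO.le q.out.2) (hε _)

/-- No non-zero operator is of type `bb` for both orders of a pair. -/
lemma TB.of_both {l : Fin (t + 1)} {b c : Fin k → F} (h : G.HB b c)
    {X : Module.End F (J k (t + 1) → F)} (h1 : X ∈ G.TB l b c) (h2 : X ∈ G.TB l c b) : X = 0 := by
  have h0 : G.cC l X c c = 0 := by rw [h2 c c, h.cc]; simp
  exact G.cC_ext (i := l) fun a z => by rw [h1 a z, h0, smul_zero, cC_zero]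

/-- An operator of type `bb` in every position and of sign `ε`. -/
lemma rank_one_of_TB {ε : F} (b c : Fin (t + 1) → Fin k → F) (h : ∀ l, G.HB (b l) (c l))
    {X : Module.End F (J k (t + 1) → F)} (hX : ∀ l, X ∈ G.TB l (b l) (c l))
    (hs : X ∈ G.Sgn (t + 1) ε) :
    (ε = -1 → X = 0) ∧ ∃ r : F, X = r • pt fun l => G.bb (b l) := by
  obtain ⟨β, hβ, y₀, hy⟩ : ∃ β : (J k (t + 1) → F) →ₗ[F] F, β = G.B (t + 1) (pr b) ∧ ∃ y, β y = 1 :=
    ⟨_, rfl, pr c, by rw [B_pr]; exact Finset.prod_eq_one fun l _ => (h l).bc⟩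
  have hex : ∀ x, ∃ r : F, r • pr b = X x := fun x => Submodule.mem_span_singleton.1
    (mem_span_pr b (fun l => (h l).ne_left) (X x) fun l => TB.mem_Li (hX l) x)
  choose φ hφ using hex
  have key : ∀ x y, φ x * β y = ε * (β x * φ y) := fun x y => by
    have := hs x y
    rw [← hφ x, ← hφ y, map_smul, map_smul, LinearMap.smul_apply, G.B_comm (pr b) x, smul_eq_mul,
      smul_eq_mul, ← hβ] at this
    rw [this]; ring
  have hall : ∀ x, φ x = ε * φ y₀ * β x := fun x => by
    have := key x y₀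
    rw [hy, mul_one] at this
    rw [this]; ring
  have hX' : ∀ x, X x = (ε * φ y₀) • β x • pr b := fun x => by rw [← hφ, hall, smul_smul]
  constructor
  · intro hε
    subst hε
    have := key y₀ y₀
    rw [hy] at this
    have h0 : φ y₀ = 0 :=
      (mul_eq_zero.1 (show (2 : F) * φ y₀ = 0 by linear_combination this)).resolve_left G.two
    exact LinearMap.ext fun x => by simp [hX' x, h0]
  · refine ⟨ε * φ y₀, C7F.Fm.ext_pr fun p => ?_⟩
    rw [hX', LinearMap.smul_apply, pt_pr, hβ, B_pr, ← pr_smul']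
    rfl

/-- A non-zero common fixed vector. -/
lemma exists_common_fix {b c : Fin k → F} (h : G.HB b c)
    (U : Submodule F (Module.End F (J k (t + 1) → F))) (hU : U ≠ ⊥)
    (hst : ∀ l v, G.InW b c v → ∀ u ∈ U, cj (kr l 1 (G.sg b v)) u ∈ U) :
    ∃ u ∈ U, u ≠ 0 ∧ ∀ l v, G.InW b c v → cj (kr l 1 (G.sg b v)) u = u := by
  classical
  haveI : CharP F (ringChar F) := ringChar.charP F
  obtain ⟨u, hu, hu0, hf⟩ := exists_fix
    (fun x : Fin (t + 1) × {v // G.InW b c v} => cj (kr x.1 1 (G.sg b x.2.1)))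
    (fun x y => by
      show cj _ * cj _ = cj _ * cj _
      rw [← cj_mul, ← cj_mul]
      congr 1
      rcases eq_or_ne x.1 y.1 with e | e
      · rw [e, kr_mul, kr_mul, sg_add h.bb x.2.2.1 y.2.2.1, sg_add h.bb y.2.2.1 x.2.2.1, add_comm x.2.1 y.2.1]
      · obtain ⟨A, hA⟩ := cj_other e.symm (G.sg b y.2.1)
        rw [hA, kr_mul, kr_mul, one_mul, mul_one, one_mul, mul_one])
    (fun x => by
      have hp : ∀ m : ℕ, cj (kr x.1 (1 : GL (J k t) F) (G.sg b x.2.1)) ^ m =
          cj (kr x.1 (1 : GL (J k t) F) (G.sg b ((m : F) • x.2.1))) := fun m => by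
        induction m with
        | zero => rw [pow_zero, Nat.cast_zero, zero_smul, sg_zero, kr_one, cj_one]
        | succ m ih =>
          rw [pow_succ, ih, ← cj_mul, ← kr_one_add h (x.2.2.smul _) x.2.2, Nat.cast_succ, add_smul,
            one_smul]
      rw [hp, CharP.cast_eq_zero, zero_smul, sg_zero, kr_one, cj_one])
    U.toAddSubgroup (fun e => hU (Submodule.toAddSubgroup_injective (by simpa using e)))
    (fun x u hu => hst _ _ x.2.2 u hu) Finset.univ
  exact ⟨u, hu, hu0, fun l v hv => hf ⟨l, v, hv⟩ (Finset.mem_univ _)⟩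

end Sm

end Cfsg.Agent.C7O
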