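import Cfsg.Agent.Lib.C7O.Types

/-!
# Quadratic evaluations at a typed vector

* `mem_span_pr` : a vector in all the lines of a family is a multiple of the pure tensor
* `pt_update_add`, `adj_pt` : calculus of pure operators
* `Sm.EV` : the value `B(ξ, pt E ξ)` on projections is a square up to the norm
* `Sm.exists_val_ne`, `Sm.parity_false` : some available value is non-zero
-/

set_option autoImplicit false
set_option linter.unusedSectionVars false

namespace Cfsg.Agent.C7O

open Matrix Module Cfsg.Agent.Transvect Cfsg.Agent.C7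
open Cfsg.Agent.C7F (op op_T op_one op_pt pr T_pr T_pr' pt pt_pr pt_comp sl sl_T sl_pr)
open scoped MatrixGroups

attribute [-simp] app_apply

variable {F : Type*} [Field F] {k n t : ℕ}

lemma pr_congr {p q : Fin n → Fin k → F} (h : ∀ l, p l = q l) : pr p = pr q := by
  rw [funext h]

lemma pr_update_add (p : Fin n → Fin k → F) (l : Fin n) (x y : Fin k → F) :
    pr (Function.update p l (x + y)) = pr (Function.update p l x) + pr (Function.update p l y) := by
  classical
  funext g
  simp only [C7F.pr, Pi.add_apply]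
  rw [← Finset.mul_prod_erase _ _ (Finset.mem_univ l), ← Finset.mul_prod_erase _ _ (Finset.mem_univ l),
    ← Finset.mul_prod_erase _ _ (Finset.mem_univ l)]
  have e : ∀ z : Fin k → F, ∏ j ∈ Finset.univ.erase l, Function.update p l z j (g j) =
      ∏ j ∈ Finset.univ.erase l, p j (g j) := fun z =>
    Finset.prod_congr rfl fun j hj => by rw [Function.update_of_ne (Finset.ne_of_mem_erase hj)]
  simp only [e, Function.update_self, Pi.add_apply]
  ring

lemma pr_update_smul (p : Fin n → Fin k → F) (l : Fin n) (s : F) (x : Fin k → F) :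
    pr (Function.update p l (s • x)) = s • pr (Function.update p l x) := by
  classical
  funext g
  simp only [C7F.pr, Pi.smul_apply, smul_eq_mul]
  rw [← Finset.mul_prod_erase _ _ (Finset.mem_univ l), ← Finset.mul_prod_erase _ _ (Finset.mem_univ l)]
  have e : ∀ z : Fin k → F, ∏ j ∈ Finset.univ.erase l, Function.update p l z j (g j) =
      ∏ j ∈ Finset.univ.erase l, p j (g j) := fun z =>
    Finset.prod_congr rfl fun j hj => by rw [Function.update_of_ne (Finset.ne_of_mem_erase hj)]
  simp only [e, Function.update_self, Pi.smul_apply, smul_eq_mul]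
  ring

lemma pr_update_sub (p : Fin n → Fin k → F) (l : Fin n) (x y : Fin k → F) :
    pr (Function.update p l (x - y)) = pr (Function.update p l x) - pr (Function.update p l y) := by
  rw [eq_sub_iff_add_eq, ← pr_update_add, sub_add_cancel]

lemma pt_apply_eq {E E' : Fin n → (Fin k → F) →ₗ[F] (Fin k → F)} (h : ∀ l, E l = E' l) :
    pt E = pt E' := by rw [funext h]

lemma pt_id : pt (fun _ => LinearMap.id : Fin n → (Fin k → F) →ₗ[F] (Fin k → F)) = LinearMap.id :=
  C7F.Fm.ext_pr fun p => by simp [pt_pr]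

lemma pt_update_add (E : Fin n → (Fin k → F) →ₗ[F] (Fin k → F)) (l : Fin n)
    (A A' : (Fin k → F) →ₗ[F] (Fin k → F)) :
    pt (Function.update E l (A + A')) = pt (Function.update E l A) + pt (Function.update E l A') :=
  C7F.Fm.ext_pr fun p => by
    rw [LinearMap.add_apply, pt_pr, pt_pr, pt_pr]
    have e : ∀ Z : (Fin k → F) →ₗ[F] (Fin k → F), (fun j => Function.update E l Z j (p j)) =
        Function.update (fun j => E j (p j)) l (Z (p l)) := fun Z => funext fun j => by
      by_cases hj : j = l
      · subst hj; simp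
      · simp [hj]
    rw [e, e, e, LinearMap.add_apply, pr_update_add]

lemma pt_update_smul (E : Fin n → (Fin k → F) →ₗ[F] (Fin k → F)) (l : Fin n) (s : F)
    (A : (Fin k → F) →ₗ[F] (Fin k → F)) :
    pt (Function.update E l (s • A)) = s • pt (Function.update E l A) :=
  C7F.Fm.ext_pr fun p => by
    rw [LinearMap.smul_apply, pt_pr, pt_pr]
    have e : ∀ Z : (Fin k → F) →ₗ[F] (Fin k → F), (fun j => Function.update E l Z j (p j)) =
        Function.update (fun j => E j (p j)) l (Z (p l)) := fun Z => funext fun j => by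
      by_cases hj : j = l
      · subst hj; simp
      · simp [hj]
    rw [e, e, LinearMap.smul_apply, pr_update_smul]

lemma pt_update_id (i : Fin (t + 1)) (D : (Fin k → F) →ₗ[F] (Fin k → F)) :
    pt (Function.update (fun _ => LinearMap.id) i D) = sl i D :=
  C7F.Fm.ext_pr fun p => by
    rw [pt_pr, sl_pr]
    congr 1
    funext j
    by_cases hj : j = i
    · subst hj; simp
    · simp [hj]

/-- A vector in all the lines of a family is a multiple of the pure tensor. -/
lemma mem_span_pr : ∀ {t : ℕ} (p : Fin (t + 1) → Fin k → F), (∀ l, p l ≠ 0) →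
    ∀ x : J k (t + 1) → F, (∀ l, x ∈ Li l (p l)) → x ∈ F ∙ pr p := by
  intro t
  induction t with
  | zero =>
    intro p hp x hx
    obtain ⟨a, rfl⟩ := hx 0
    refine Submodule.mem_span_singleton.2 ⟨a default, ?_⟩
    funext g
    show a default • pr p g = T 0 a (p 0) g
    rw [T_apply, smul_eq_mul, Subsingleton.elim (fun j => g ((0 : Fin 1).succAbove j)) default]
    simp [C7F.pr]
  | succ s ih =>
    intro p hp x hx
    obtain ⟨a, rfl⟩ := hx 0
    obtain ⟨γ, hγ⟩ := C7.exists_dual (hp 0)
    have ha : a ∈ F ∙ pr fun j => p ((0 : Fin (s + 2)).succAbove j) := ih _ (fun j => hp _) a fun j => by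
      have := ct_mem_Li 0 j γ (hx ((0 : Fin (s + 2)).succAbove j))
      rwa [LinearMap.flip_apply, ct_T, hγ, one_smul] at this
    obtain ⟨r, rfl⟩ := Submodule.mem_span_singleton.1 ha
    refine Submodule.mem_span_singleton.2 ⟨r, ?_⟩
    rw [LinearMap.flip_apply, map_smul, LinearMap.smul_apply, T_pr]

/-- The image of a pure operator with a rank one factor. -/
lemma pt_mem_Li (E : Fin (t + 1) → (Fin k → F) →ₗ[F] (Fin k → F)) (l : Fin (t + 1))
    (φ : (Fin k → F) →ₗ[F] F) (u : Fin k → F) (h : E l = φ.smulRight u) (x : J k (t + 1) → F) :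
    pt E x ∈ Li l u := by
  have e : pt E = op l (pt fun j => E (l.succAbove j)) (φ.smulRight u) := by
    rw [op_pt, ← h]
    refine pt_apply_eq fun j => ?_
    obtain rfl | ⟨j', rfl⟩ := l.eq_self_or_eq_succAbove j <;> simp
  rw [e, op_smulRight]; exact T_mem_Li _ _ _

namespace Sm

variable (G : Sm F k)

lemma adj_pt {E E' : Fin n → (Fin k → F) →ₗ[F] (Fin k → F)}
    (h : ∀ l u v, G.f (E l u) v = G.f u (E' l v)) (x y : J k n → F) :
    G.B n (pt E x) y = G.B n x (pt E' y) :=
  LinearMap.congr_fun (LinearMap.congr_fun (ext_pr₂ (L := (G.B n).comp (pt E))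
    (L' := (G.B n).compl₂ (pt E')) fun p q => by
      simp only [LinearMap.comp_apply, LinearMap.compl₂_apply, pt_pr, B_pr]
      exact Finset.prod_congr rfl fun l _ => h l _ _) x) y

/-- `z ↦ f(c,z) b`. -/
def pb (b c : Fin k → F) : (Fin k → F) →ₗ[F] (Fin k → F) := (G.f c).smulRight b

/-- The projection on the complement of the pair. -/
def pw (b c : Fin k → F) : (Fin k → F) →ₗ[F] (Fin k → F) :=
  LinearMap.id - (G.f c).smulRight b - (G.f b).smulRight c

/-- The orthogonal projection on a vector. -/
noncomputable def pu (u : Fin k → F) : (Fin k → F) →ₗ[F] (Fin k → F) :=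
  ((G.f u u)⁻¹ • G.f u).smulRight u

@[simp] lemma pb_apply (b c z : Fin k → F) : G.pb b c z = G.f c z • b := rfl
@[simp] lemma pw_apply (b c z : Fin k → F) : G.pw b c z = G.wp b c z := rfl
lemma pu_apply (u z : Fin k → F) : G.pu u z = (G.f u z / G.f u u) • u := by
  simp [pu, div_eq_inv_mul]

/-- The support conditions on an evaluation vector. -/
def Supp (b c : Fin k → F) (S : Finset (Fin n)) (ξ : J k n → F) : Prop :=
  pt (fun l => if l ∈ S then G.pb b c else G.pw b c) ξ = ξ

variable {G} {b c : Fin k → F}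

lemma Supp.congr {S : Finset (Fin n)} {ξ : J k n → F} (hξ : G.Supp b c S ξ)
    {E E' : Fin n → (Fin k → F) →ₗ[F] (Fin k → F)} (hS : ∀ l ∈ S, E l b = E' l b)
    (hD : ∀ l ∉ S, ∀ w, G.InW b c w → E l w = E' l w) (h : G.HB b c) : pt E ξ = pt E' ξ := by
  conv_lhs => rw [← hξ]
  conv_rhs => rw [← hξ]
  rw [← LinearMap.comp_apply (pt E), ← LinearMap.comp_apply (pt E'), pt_comp, pt_comp]
  congr 1
  refine pt_apply_eq fun l => LinearMap.ext fun z => ?_
  by_cases hl : l ∈ S
  · simp [hl, hS l hl]
  · simp only [hl, if_false, LinearMap.comp_apply, pw_apply]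
    exact hD l hl _ (wp_mem h z)

/-- The index vector of a choice of basis vectors. -/
def ev (b : Fin k → F) (S : Finset (Fin n)) (ε : Fin n → Fin k → F) : Fin n → Fin k → F :=
  fun l => if l ∈ S then b else ε l

variable (G)

/-- The projections of a choice: `bb c` on `S`, `pu` elsewhere. -/
noncomputable def EV (c : Fin k → F) (S : Finset (Fin n)) (ε : Fin n → Fin k → F) :
    Fin n → (Fin k → F) →ₗ[F] (Fin k → F) := fun l => if l ∈ S then G.bb c else G.pu (ε l)

variable {G}

/-- The value on projections. -/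
lemma ev_formula {S : Finset (Fin (t + 1))} (h : G.HB b c) (ξ : J k (t + 1) → F)
    (ε : Fin (t + 1) → Fin k → F) (hε : ∀ l ∉ S, G.f (ε l) (ε l) ≠ 0) :
    G.B _ ξ (pt (G.EV c S ε) ξ) * ∏ l, (if l ∈ S then 1 else G.f (ε l) (ε l)) =
      G.B _ ξ (pr (ev c S ε)) * G.B _ ξ (pr (ev c S ε)) := by
  obtain ⟨κ, hκ⟩ := Submodule.mem_span_singleton.1 (mem_span_pr (ev c S ε) (fun l => by
      unfold ev; split_ifs with hl
      · exact h.ne_right
      · exact fun e => hε l hl (by simp [e]))
    (pt (G.EV c S ε) ξ) fun l => by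
      by_cases hl : l ∈ S
      · exact pt_mem_Li _ l (G.f c) _ (by simp [EV, ev, hl, bb]) ξ
      · exact pt_mem_Li _ l ((G.f (ε l) (ε l))⁻¹ • G.f (ε l)) _ (by simp [EV, ev, hl, pu]) ξ)
  have hE : pt (G.EV c S ε) (pr (ev b S ε)) = pr (ev c S ε) := by
    rw [pt_pr]
    refine pr_congr fun l => ?_
    by_cases hl : l ∈ S
    · simp [EV, ev, hl, h.cb]
    · simp [EV, ev, hl, pu_apply, div_self (hε l hl)]
  have hadj : G.B _ (pr (ev b S ε)) (pt (G.EV c S ε) ξ) = G.B _ ξ (pr (ev c S ε)) := by
    rw [← G.adj_pt (E := G.EV c S ε) (fun l u v => by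
      by_cases hl : l ∈ S
      · simp [EV, hl, G.sym u c, mul_comm]
      · simp [EV, hl, pu_apply, G.sym u (ε l)]; ring), hE, G.B_comm]
  rw [← hκ, map_smul, B_pr, smul_eq_mul] at hadj
  rw [← hκ, map_smul, smul_eq_mul]
  have : ∏ l, G.f (ev b S ε l) (ev c S ε l) = ∏ l, (if l ∈ S then 1 else G.f (ε l) (ε l)) :=
    Finset.prod_congr rfl fun l _ => by by_cases hl : l ∈ S <;> simp [ev, hl, h.bc]
  rw [this] at hadj
  linear_combination G.B _ ξ (pr (ev c S ε)) * hadj

/-- Some coordinate of a supported vector is non-zero. -/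
lemma exists_coord_ne {S : Finset (Fin n)} {ξ : J k n → F} (hξ : G.Supp b c S ξ) (h0 : ξ ≠ 0)
    (h : G.HB b c) {d : ℕ} (e : Fin d → Fin k → F)
    (hsum : ∀ z, G.wp b c z = ∑ i, (G.f (e i) z / G.f (e i) (e i)) • e i) :
    ∃ ε : Fin n → Fin k → F, (∀ l ∉ S, ε l ∈ Set.range e) ∧ G.B n ξ (pr (ev c S ε)) ≠ 0 := by
  classical
  by_contra! hall
  refine h0 (G.nd_B _ fun y => ?_)
  have hspan : ∀ q : Fin n → Fin k → F, G.B n ξ (pr q) = 0 := by
    suffices H : ∀ T : Finset (Fin n), ∀ q : Fin n → Fin k → F,
        (∀ l ∉ T, q l = c ∧ l ∈ S ∨ q l ∈ Set.range e ∧ l ∉ S) → G.B n ξ (pr q) = 0 from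
      fun q => H Finset.univ q fun l hl => absurd (Finset.mem_univ l) hl
    intro T
    induction T using Finset.induction_on with
    | empty =>
      intro q hq
      have hq' : ∀ l, q l = ev c S q l := fun l => by
        rcases hq l (Finset.notMem_empty l) with ⟨e1, hl⟩ | ⟨-, hl⟩ <;> simp [ev, hl, *]
      rw [pr_congr hq']
      exact hall q fun l hl => by
        rcases hq l (Finset.notMem_empty l) with ⟨-, hl'⟩ | ⟨e1, -⟩
        exacts [absurd hl' hl, e1]
    | @insert m T hmT ih =>
      intro q hq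
      have hstep : ∀ x, (x = c ∧ m ∈ S ∨ x ∈ Set.range e ∧ m ∉ S) →
          G.B n ξ (pr (Function.update q m x)) = 0 := fun x hx => ih _ fun l hl => by
        by_cases hlm : l = m
        · subst hlm; simpa using hx
        · rw [Function.update_of_ne hlm]
          exact hq l fun hh => (Finset.mem_insert.1 hh).elim hlm hl
      have hB : G.B n ξ (pr q) = G.B n ξ (pr (Function.update q m
          (if m ∈ S then G.pb c b (q m) else G.pw b c (q m)))) := by
        conv_lhs => rw [← hξ]
        conv_rhs => rw [← hξ]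
        rw [G.adj_pt (E' := fun l => if l ∈ S then G.pb c b else G.pw b c) (fun l u v => by
            by_cases hl : l ∈ S
            · simp [hl, G.sym u c]; ring
            · simp [hl, wp, G.sym u b, G.sym u c]; ring),
          G.adj_pt (E' := fun l => if l ∈ S then G.pb c b else G.pw b c) (fun l u v => by
            by_cases hl : l ∈ S
            · simp [hl, G.sym u c]; ring
            · simp [hl, wp, G.sym u b, G.sym u c]; ring), pt_pr, pt_pr]
        congr 1
        refine pr_congr fun l => ?_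
        by_cases hlm : l = m
        · subst hlm
          by_cases hl : l ∈ S
          · simp [hl, h.bc]
          · simp [hl, wp, h.bb, h.bc, h.cb, h.cc]
        · rw [Function.update_of_ne hlm]
      rw [hB]
      by_cases hm : m ∈ S
      · rw [if_pos hm, pb_apply, pr_update_smul, map_smul, hstep c (.inl ⟨rfl, hm⟩), smul_zero]
      · rw [if_neg hm, pw_apply, hsum]
        have : ∀ s : Finset (Fin d), G.B n ξ (pr (Function.update q m
            (∑ i ∈ s, (G.f (e i) (q m) / G.f (e i) (e i)) • e i))) = 0 := by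
          intro s
          induction s using Finset.induction_on with
          | empty =>
            rw [Finset.sum_empty, ← zero_smul F (0 : Fin k → F), pr_update_smul, zero_smul, map_zero]
          | @insert i s his ih' =>
            rw [Finset.sum_insert his, pr_update_add, map_add, ih', pr_update_smul, map_smul,
              hstep _ (.inr ⟨⟨i, rfl⟩, hm⟩), smul_zero, add_zero]
        exact this _
  have hy : y ∈ Submodule.span F (Set.range (pr : (Fin n → Fin k → F) → _)) := by
    rw [C7F.span_pr]; trivial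
  induction hy using Submodule.span_induction with
  | mem x hx => obtain ⟨q, rfl⟩ := hx; exact hspan q
  | zero => exact map_zero _
  | add x z _ _ h1 h2 => rw [map_add, h1, h2, add_zero]
  | smul r x _ h1 => rw [map_smul, h1, smul_zero]

/-- If the projections in the free positions are combinations of the available operators, some
available value is non-zero. -/
lemma exists_val_ne {S : Finset (Fin (t + 1))} {ξ : J k (t + 1) → F} (hξ : G.Supp b c S ξ)
    (h0 : ξ ≠ 0) (h : G.HB b c) {m : ℕ} (e : Fin m → Fin k → F) (heg : ∀ i, G.f (e i) (e i) ≠ 0)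
    (hsum : ∀ z, G.wp b c z = ∑ i, (G.f (e i) z / G.f (e i) (e i)) • e i)
    (𝒜 : Set ((Fin k → F) →ₗ[F] (Fin k → F)))
    (hcomb : ∀ i, ∃ Z ∈ Submodule.span F 𝒜, ∀ w, G.InW b c w → Z w = G.pu (e i) w) :
    ∃ E : Fin (t + 1) → (Fin k → F) →ₗ[F] (Fin k → F), (∀ l ∈ S, E l = G.bb c) ∧
      (∀ l ∉ S, E l ∈ 𝒜) ∧ G.B _ ξ (pt E ξ) ≠ 0 := by
  classical
  by_contra! hall
  obtain ⟨ε, hε, hne⟩ := exists_coord_ne hξ h0 h e hsum
  have hεg : ∀ l ∉ S, G.f (ε l) (ε l) ≠ 0 := fun l hl => by
    obtain ⟨i, hi⟩ := hε l hl; rw [← hi]; exact heg i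
  suffices H : ∀ T : Finset (Fin (t + 1)), ∀ E : Fin (t + 1) → (Fin k → F) →ₗ[F] (Fin k → F),
      (∀ l ∈ S, E l = G.bb c) → (∀ l ∈ T, l ∉ S → E l = G.pu (ε l)) →
      (∀ l ∉ T, l ∉ S → E l ∈ 𝒜) → G.B _ ξ (pt E ξ) = 0 by
    have h1 := ev_formula h ξ ε hεg
    rw [H Finset.univ (G.EV c S ε) (fun l hl => by simp [EV, hl]) (fun l _ hl => by simp [EV, hl])
      fun l hl => absurd (Finset.mem_univ l) hl, zero_mul] at h1
    exact hne (mul_self_eq_zero.1 h1.symm)
  intro T
  induction T using Finset.induction_on with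
  | empty => exact fun E h1 _ h3 => hall E h1 fun l hl => h3 l (Finset.notMem_empty l) hl
  | @insert l T hlT ih =>
    intro E h1 h2 h3
    by_cases hlS : l ∈ S
    · exact ih E h1 (fun j hj => h2 j (Finset.mem_insert_of_mem hj)) fun j hj hjS =>
        h3 j (fun hh => (Finset.mem_insert.1 hh).elim (fun e => hjS (e ▸ hlS)) hj) hjS
    obtain ⟨i, hi⟩ := hε l hlS
    obtain ⟨Z, hZ, eZ⟩ := hcomb i
    rw [hξ.congr (E' := Function.update E l Z) (fun j hj => by
        rw [Function.update_of_ne (fun e : j = l => hlS (e ▸ hj))]) (fun j hj w hw => by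
        by_cases hjl : j = l
        · subst hjl; rw [Function.update_self, eZ w hw, hi, h2 j (Finset.mem_insert_self _ _) hj]
        · rw [Function.update_of_ne hjl]) h]
    clear eZ
    induction hZ using Submodule.span_induction with
    | mem A hA =>
      refine ih _ (fun j hj => ?_) (fun j hj hjS => ?_) (fun j hj hjS => ?_)
      · rw [Function.update_of_ne (fun e : j = l => hlS (e ▸ hj))]; exact h1 j hj
      · rw [Function.update_of_ne (fun e : j = l => hlT (e ▸ hj))]
        exact h2 j (Finset.mem_insert_of_mem hj) hjS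
      · by_cases hjl : j = l
        · subst hjl; simpa using hA
        · rw [Function.update_of_ne hjl]
          exact h3 j (fun hh => (Finset.mem_insert.1 hh).elim hjl hj) hjS
    | zero =>
      rw [← zero_smul F (0 : (Fin k → F) →ₗ[F] (Fin k → F)), pt_update_smul, zero_smul]; simp
    | add A A' _ _ a1 a2 => rw [pt_update_add, LinearMap.add_apply, map_add, a1, a2, add_zero]
    | smul r A _ a1 => rw [pt_update_smul, LinearMap.smul_apply, map_smul, a1, smul_zero]

/-- All positions free, a plane: the values of an even number of reflections do not all vanish. -/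
lemma parity_false {ξ : J k (t + 1) → F} (hξ : G.Supp b c ∅ ξ) (h0 : ξ ≠ 0) (h : G.HB b c)
    (e : Fin 2 → Fin k → F) (heg : ∀ i, G.f (e i) (e i) ≠ 0)
    (hsum : ∀ z, G.wp b c z = ∑ i, (G.f (e i) z / G.f (e i) (e i)) • e i)
    (hodd : Odd (t + 1)) (hns : ∀ s : F, s * s ≠ -(G.f (e 0) (e 0) * G.f (e 1) (e 1)))
    (hall : ∀ T : Finset (Fin (t + 1)), Even T.card →
      G.B _ ξ (pt (fun l => if l ∈ T then (app (G.rf (e 0))).toLinearMap else LinearMap.id) ξ) = 0) :
    False := by
  classical
  obtain ⟨ε, hε, hne⟩ := exists_coord_ne hξ h0 h e hsum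
  have hεg : ∀ l ∉ (∅ : Finset (Fin (t + 1))), G.f (ε l) (ε l) ≠ 0 := fun l hl => by
    obtain ⟨i, hi⟩ := hε l hl; rw [← hi]; exact heg i
  choose idx hidx using fun l => hε l (Finset.notMem_empty l)
  set R := (app (G.rf (e 0))).toLinearMap with hR
  -- the two projections of a position are `(1 ± R) / 2`
  set P : Fin 2 → Fin (t + 1) → (Fin k → F) →ₗ[F] (Fin k → F) :=
    fun s l => G.pu (e (idx l + s)) with hP
  have h2 := G.two
  have hRw : ∀ w, G.InW b c w → ∀ j : Fin 2, G.pu (e j) w =
      (((2 : F)⁻¹ • LinearMap.id + ((if j = 0 then -1 else 1) * (2 : F)⁻¹) • R :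
        (Fin k → F) →ₗ[F] (Fin k → F))) w := fun w hw j => by
    have hw' : w = G.wp b c w := by simp [wp, hw.1, hw.2]
    have ew := hsum w
    rw [← hw', Fin.sum_univ_two] at ew
    rw [LinearMap.add_apply, LinearMap.smul_apply, LinearMap.smul_apply, LinearMap.id_apply, hR,
      LinearEquiv.coe_coe, rf_apply, pu_apply]
    fin_cases j
    · simp
      match_scalars <;> field_simp <;> ring
    · simp only [Fin.mk_one, one_ne_zero, if_false, one_mul]
      rw [show (G.f (e 1) w / G.f (e 1) (e 1)) • e 1 = w - (G.f (e 0) w / G.f (e 0) (e 0)) • e 0 from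
        eq_sub_iff_add_eq.2 (by rw [add_comm]; exact ew.symm)]
      match_scalars <;> field_simp <;> ring
  set Φ : (Fin (t + 1) → (Fin k → F) →ₗ[F] (Fin k → F)) → F := fun E => G.B _ ξ (pt E ξ) with hΦ
  have hcong : ∀ E E' : Fin (t + 1) → (Fin k → F) →ₗ[F] (Fin k → F),
      (∀ l w, G.InW b c w → E l w = E' l w) → Φ E = Φ E' := fun E E' hh => by
    simp only [hΦ]
    rw [hξ.congr (E' := E') (fun l hl => absurd hl (Finset.notMem_empty l)) (fun l _ => hh l) h]
  -- families: projections on `T`, reflections on `U`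
  let fam : Fin 2 → Finset (Fin (t + 1)) → Finset (Fin (t + 1)) →
      Fin (t + 1) → (Fin k → F) →ₗ[F] (Fin k → F) :=
    fun s T U l => if l ∈ T then P s l else if l ∈ U then R else LinearMap.id
  have key : ∀ T U : Finset (Fin (t + 1)), Disjoint T U →
      (Even U.card → Φ (fam 0 T U) + Φ (fam 1 T U) = 0) ∧
        (Odd U.card → Φ (fam 0 T U) - Φ (fam 1 T U) = 0) := by
    intro T
    induction T using Finset.induction_on with
    | empty =>
      intro U _
      have e1 : ∀ s, fam s ∅ U = fun l => if l ∈ U then R else LinearMap.id := fun s =>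
        funext fun l => by simp [fam]
      exact ⟨fun hU => by simp only [e1, hΦ]; rw [hall U hU, add_zero], fun _ => by rw [e1, e1, sub_self]⟩
    | @insert l T hlT ih =>
      intro U hd
      have hlU : l ∉ U := fun hh => Finset.disjoint_left.1 hd (Finset.mem_insert_self l T) hh
      have hdT : Disjoint T U := Finset.disjoint_of_subset_left (Finset.subset_insert l T) hd
      obtain ⟨ha, hb⟩ := ih U hdT
      obtain ⟨ha', hb'⟩ := ih (insert l U) (Finset.disjoint_insert_right.2 ⟨hlT, hdT⟩)
      have hcard : (insert l U).card = U.card + 1 := Finset.card_insert_of_notMem hlU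
      have step : ∀ s : Fin 2, Φ (fam s (insert l T) U) = (2 : F)⁻¹ * Φ (fam s T U) +
          ((if idx l + s = 0 then -1 else 1) * (2 : F)⁻¹) * Φ (fam s T (insert l U)) := fun s => by
        rw [hcong (fam s (insert l T) U) (Function.update (fam s T U) l
          ((2 : F)⁻¹ • LinearMap.id + ((if idx l + s = 0 then -1 else 1) * (2 : F)⁻¹) • R))
          fun j w hw => ?_]
        · simp only [hΦ, pt_update_add, pt_update_smul, LinearMap.add_apply, LinearMap.smul_apply,
            map_add, map_smul, smul_eq_mul]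
          congr 4
          · exact pt_apply_eq fun j => by
              by_cases hj : j = l
              · subst hj; simp [fam, hlT, hlU]
              · simp [fam, hj]
          · exact pt_apply_eq fun j => by
              by_cases hj : j = l
              · subst hj; simp [fam, hlT]
              · simp [fam, hj]
        · by_cases hj : j = l
          · subst hj
            rw [Function.update_self, ← hRw w hw]
            simp [fam, hP]
          · simp [fam, hj]
      have hs : (if idx l + 1 = 0 then (-1 : F) else 1) = -(if idx l + 0 = 0 then (-1 : F) else 1) := by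
        generalize idx l = j
        fin_cases j <;> simp
      rw [step 0, step 1, hs]
      rcases Nat.even_or_odd U.card with hU | hU
      · refine ⟨fun _ => ?_, fun hh => absurd hU (Nat.not_even_iff_odd.2 hh)⟩
        have h1 := ha hU
        have h2 := hb' (hcard ▸ hU.add_one)
        linear_combination (2 : F)⁻¹ * h1 + (2 : F)⁻¹ * (if idx l + 0 = 0 then (-1 : F) else 1) * h2
      · refine ⟨fun hh => absurd hh (Nat.not_even_iff_odd.2 hU), fun _ => ?_⟩
        have h1 := hb hU
        have h2 := ha' (hcard ▸ hU.add_one)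
        linear_combination (2 : F)⁻¹ * h1 + (2 : F)⁻¹ * (if idx l + 0 = 0 then (-1 : F) else 1) * h2
  have hsum0 := (key Finset.univ ∅ (Finset.disjoint_empty_right _)).1 (by simp)
  have e0 : fam 0 Finset.univ ∅ = G.EV c ∅ (fun l => e (idx l)) :=
    funext fun l => by simp [fam, hP, EV]
  have e1 : fam 1 Finset.univ ∅ = G.EV c ∅ (fun l => e (idx l + 1)) :=
    funext fun l => by simp [fam, hP, EV]
  rw [e0, e1] at hsum0
  have f0 := ev_formula (S := ∅) h ξ (fun l => e (idx l)) fun l _ => heg _
  have f1 := ev_formula (S := ∅) h ξ (fun l => e (idx l + 1)) fun l _ => heg _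
  simp only [hΦ] at hsum0
  simp only [Finset.notMem_empty, if_false] at f0 f1
  set X0 := G.B _ ξ (pr (ev c ∅ fun l => e (idx l))) with hX0
  set X1 := G.B _ ξ (pr (ev c ∅ fun l => e (idx l + 1))) with hX1
  set G0 := ∏ l, G.f (e (idx l)) (e (idx l)) with hG0
  set G1 := ∏ l, G.f (e (idx l + 1)) (e (idx l + 1)) with hG1
  have hX : X0 ≠ 0 := by
    rw [hX0]
    rwa [show ev c ∅ (fun l => e (idx l)) = ev c ∅ ε from funext fun l => by simp [ev, hidx l]]
  have hG : G0 * G1 = (G.f (e 0) (e 0) * G.f (e 1) (e 1)) ^ (t + 1) := by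
    rw [hG0, hG1, ← Finset.prod_mul_distrib]
    rw [show (G.f (e 0) (e 0) * G.f (e 1) (e 1)) ^ (t + 1) =
      ∏ _l : Fin (t + 1), G.f (e 0) (e 0) * G.f (e 1) (e 1) by simp]
    refine Finset.prod_congr rfl fun l _ => ?_
    generalize idx l = j
    fin_cases j <;> simp [mul_comm]
  obtain ⟨d, hd⟩ := hodd
  have hG00 : G0 ≠ 0 := Finset.prod_ne_zero_iff.2 fun l _ => heg _
  set g := G.f (e 0) (e 0) * G.f (e 1) (e 1) with hg
  have hg0 : g ≠ 0 := mul_ne_zero (heg 0) (heg 1)
  -- `-g` would be a square
  refine hns (X1 * G0 / (X0 * g ^ d)) ?_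
  have hsq : X1 * X1 * G0 = -(X0 * X0) * G1 := by
    linear_combination G0 * G1 * hsum0 - G1 * f0 - G0 * f1
  rw [div_mul_div_comm, div_eq_iff (mul_ne_zero (mul_ne_zero hX (pow_ne_zero _ hg0))
    (mul_ne_zero hX (pow_ne_zero _ hg0)))]
  rw [hd, show g ^ (2 * d + 1) = g ^ d * g ^ d * g by ring] at hG
  linear_combination G0 * hsq - X0 * X0 * hG

end Sm

end Cfsg.Agent.C7O
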