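import Cfsg.Agent.Lib.C7O.AvgOp
import Cfsg.Agent.Lib.C7O.Eval

/-!
# Operators of the tensor power built factor by factor

* `pt_ext`, `pt_mem_of_span` : pure operators span, multilinearity
* `tmap φ` : the tensor product of linear maps of operators of the factors
* `wr_shape` : wreath elements on pure tensors; `Sm.wr_simil` : their factors are similitudes
* `Sm.L0` : sums of skew operators of single positions; `Sm.TS` : tensor products of skew operators
* `Sm.Sgn ε` : operators of sign `ε` for the form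
-/

set_option autoImplicit false
set_option linter.unusedSectionVars false

namespace Cfsg.Agent.C7O

open Matrix Module Cfsg.Agent.Transvect Cfsg.Agent.C7
open Cfsg.Agent.C7F (pr pt pt_pr pt_comp pr_smul_fn sl sl_pr)
open scoped MatrixGroups

attribute [-simp] app_apply

variable {F : Type*} [Field F] {k n t : ℕ}

/-- A matrix unit of one factor. -/
def Em (a b : Fin k) : Module.End F (Fin k → F) := (LinearMap.proj b).smulRight (Pi.single a 1)

lemma single_eq_pr (g : J k n) :
    (Pi.single g 1 : J k n → F) = pr fun l => Pi.single (g l) 1 := funext fun h => by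
  by_cases e : h = g
  · subst e; simp [C7F.pr]
  · rw [Pi.single_eq_of_ne e]
    obtain ⟨i, hi⟩ := Function.ne_iff.1 e
    exact (Finset.prod_eq_zero (Finset.mem_univ i) (by simp [hi])).symm

lemma pt_entry (E : Fin n → (Fin k → F) →ₗ[F] (Fin k → F)) (f g : J k n) :
    pt E (Pi.single g 1) f = ∏ l, E l (Pi.single (g l) 1) (f l) := by
  rw [single_eq_pr, pt_pr]; rfl

lemma pr_smul' (c : Fin n → F) (v : Fin n → Fin k → F) :
    pr (fun l => c l • v l) = (∏ l, c l) • pr v := funext fun g => by
  simp [C7F.pr, Finset.prod_mul_distrib]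

lemma end_eq_sum (A : Module.End F (Fin k → F)) :
    A = ∑ a, ∑ b, A (Pi.single b 1) a • Em a b :=
  LinearMap.ext fun z => funext fun h => by
    conv_lhs => rw [pi_eq_sum_univ' z]
    simp [Em, Finset.sum_apply, Pi.single_apply, mul_comm, mul_ite]

lemma pt_units (f g : J k n) :
    pt (fun l => Em (f l) (g l)) =
      ((LinearMap.proj g).smulRight (Pi.single f 1) : Module.End F (J k n → F)) :=
  C7F.Fm.ext_pr fun p => by
    rw [pt_pr, LinearMap.smulRight_apply, single_eq_pr f]
    exact pr_smul' (fun l => p l (g l)) fun l => Pi.single (f l) 1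

lemma end_eq_pt_sum (X : Module.End F (J k n → F)) :
    X = ∑ f, ∑ g, X (Pi.single g 1) f • pt (fun l => Em (f l) (g l)) :=
  LinearMap.ext fun z => funext fun h => by
    conv_lhs => rw [pi_eq_sum_univ' z]
    simp [pt_units, Finset.sum_apply, Pi.single_apply, mul_comm, mul_ite]

/-- Linear maps agreeing on pure operators are equal. -/
lemma pt_ext {M : Type*} [AddCommGroup M] [Module F M] {L L' : Module.End F (J k n → F) →ₗ[F] M}
    (h : ∀ E, L (pt E) = L' (pt E)) : L = L' := LinearMap.ext fun X => by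
  rw [end_eq_pt_sum X]
  simp only [map_sum, map_smul, h]

/-- A submodule containing all pure operators is everything. -/
lemma mem_of_pt {S : Submodule F (Module.End F (J k n → F))} (h : ∀ E, pt E ∈ S)
    (X : Module.End F (J k n → F)) : X ∈ S := by
  rw [end_eq_pt_sum X]
  exact S.sum_mem fun f _ => S.sum_mem fun g _ => S.smul_mem _ (h _)

lemma pt_update_zero (E : Fin n → (Fin k → F) →ₗ[F] (Fin k → F)) (l : Fin n) :
    pt (Function.update E l 0) = 0 := by
  rw [← zero_smul F (0 : (Fin k → F) →ₗ[F] (Fin k → F)), pt_update_smul, zero_smul]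

lemma pt_zero' (E : Fin n → (Fin k → F) →ₗ[F] (Fin k → F)) (l : Fin n) (h : E l = 0) : pt E = 0 := by
  rw [← Function.update_eq_self l E, h, pt_update_zero]

lemma pt_update_sub (E : Fin n → (Fin k → F) →ₗ[F] (Fin k → F)) (l : Fin n)
    (A A' : (Fin k → F) →ₗ[F] (Fin k → F)) :
    pt (Function.update E l (A - A')) = pt (Function.update E l A) - pt (Function.update E l A') := by
  rw [eq_sub_iff_add_eq, ← pt_update_add, sub_add_cancel]

/-- Multilinearity. -/
lemma pt_mem_of_span (S : Submodule F (Module.End F (J k n → F)))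
    (𝒜 : Fin n → Set (Module.End F (Fin k → F))) (h : ∀ E, (∀ l, E l ∈ 𝒜 l) → pt E ∈ S)
    (E : Fin n → (Fin k → F) →ₗ[F] (Fin k → F)) (hE : ∀ l, E l ∈ Submodule.span F (𝒜 l)) :
    pt E ∈ S := by
  classical
  suffices H : ∀ s : Finset (Fin n), ∀ E : Fin n → (Fin k → F) →ₗ[F] (Fin k → F),
      (∀ l ∈ s, E l ∈ Submodule.span F (𝒜 l)) → (∀ l ∉ s, E l ∈ 𝒜 l) → pt E ∈ S from
    H Finset.univ E (fun l _ => hE l) fun l hl => absurd (Finset.mem_univ l) hl
  intro s
  induction s using Finset.induction_on with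
  | empty => exact fun E _ h2 => h E fun l => h2 l (Finset.notMem_empty l)
  | @insert l s hls ih =>
    intro E h1 h2
    rw [← Function.update_eq_self l E]
    have hl := h1 l (Finset.mem_insert_self l s)
    revert hl
    generalize E l = A
    intro hA
    induction hA using Submodule.span_induction with
    | mem A hA =>
      refine ih _ (fun j hj => ?_) fun j hj => ?_
      · rw [Function.update_of_ne (fun e : j = l => hls (e ▸ hj))]
        exact h1 j (Finset.mem_insert_of_mem hj)
      · by_cases hjl : j = l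
        · subst hjl; simpa using hA
        · rw [Function.update_of_ne hjl]
          exact h2 j fun hh => (Finset.mem_insert.1 hh).elim hjl hj
    | zero => rw [pt_update_zero]; exact S.zero_mem
    | add A A' _ _ a1 a2 => rw [pt_update_add]; exact S.add_mem a1 a2
    | smul r A _ a1 => rw [pt_update_smul]; exact S.smul_mem r a1

/-- The tensor product of linear maps of operators. -/
noncomputable def tmap (φ : Fin n → Module.End F (Module.End F (Fin k → F))) :
    Module.End F (Module.End F (J k n → F)) :=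
  ∑ f, ∑ g, ((LinearMap.proj f).comp (LinearMap.applyₗ (Pi.single g 1))).smulRight
    (pt fun l => φ l (Em (f l) (g l)))

lemma tmap_pt (φ : Fin n → Module.End F (Module.End F (Fin k → F)))
    (E : Fin n → (Fin k → F) →ₗ[F] (Fin k → F)) :
    tmap φ (pt E) = pt fun l => φ l (E l) :=
  C7F.Fm.ext_pr fun p => funext fun h => by
    simp only [tmap, LinearMap.sum_apply, LinearMap.smulRight_apply, LinearMap.comp_apply,
      LinearMap.applyₗ_apply_apply, LinearMap.proj_apply, LinearMap.smul_apply, pt_pr, pt_entry,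
      Finset.sum_apply, Pi.smul_apply, smul_eq_mul, C7F.pr, ← Finset.prod_mul_distrib]
    have e : ∀ l, φ l (E l) (p l) (h l) =
        ∑ a, ∑ b, E l (Pi.single b 1) a * φ l (Em a b) (p l) (h l) := fun l => by
      conv_lhs => rw [end_eq_sum (E l)]
      simp [map_sum, Finset.sum_apply]
    simp only [e]
    rw [Fintype.prod_sum]
    refine Finset.sum_congr rfl fun f _ => ?_
    rw [Fintype.prod_sum]

lemma tmap_apply_mem (φ : Fin n → Module.End F (Module.End F (Fin k → F)))
    (S : Submodule F (Module.End F (J k n → F)))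
    (h : ∀ E : Fin n → (Fin k → F) →ₗ[F] (Fin k → F), pt (fun l => φ l (E l)) ∈ S)
    (X : Module.End F (J k n → F)) : tmap φ X ∈ S := by
  refine mem_of_pt (S := S.comap (tmap φ)) (fun E => ?_) X
  rw [Submodule.mem_comap, tmap_pt]
  exact h E

/-! ### conjugation -/

lemma cj_eq {g : GL (J k n) F} {X Y : Module.End F (J k n → F)}
    (h : ∀ p, app g (X (pr p)) = Y (app g (pr p))) : cj g X = Y := LinearMap.ext fun x => by
  have := LinearMap.congr_fun (C7F.Fm.ext_pr (L := (app g).toLinearMap.comp X)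
    (L' := Y.comp (app g).toLinearMap) h) (app g⁻¹ x)
  simp only [LinearMap.comp_apply, LinearEquiv.coe_coe, app_app_inv] at this
  rw [cj_apply]; exact this

lemma cj_slot_pt (l : Fin (t + 1)) (C : GL (Fin k) F)
    (E : Fin (t + 1) → (Fin k → F) →ₗ[F] (Fin k → F)) :
    cj (kr l 1 C) (pt E) = pt (Function.update E l (cj C (E l))) := cj_eq fun p => by
  rw [pt_pr, Sm.app_kr_one_pr, Sm.app_kr_one_pr, pt_pr]
  congr 1
  funext j
  by_cases hj : j = l
  · subst hj; simp [cj_apply]
  · simp [hj]

lemma cj_slot_sl (l : Fin (t + 1)) (C : GL (Fin k) F) (D : (Fin k → F) →ₗ[F] (Fin k → F)) :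
    cj (kr l 1 C) (sl l D) = sl l (cj C D) := by
  rw [← pt_update_id, cj_slot_pt, Function.update_idem, Function.update_self, pt_update_id]

lemma cj_slot_sl_ne {m l : Fin (t + 1)} (h : m ≠ l) (C : GL (Fin k) F)
    (D : (Fin k → F) →ₗ[F] (Fin k → F)) : cj (kr m 1 C) (sl l D) = sl l D := by
  rw [← pt_update_id, cj_slot_pt, Function.update_of_ne h,
    show cj C (LinearMap.id : (Fin k → F) →ₗ[F] _) = LinearMap.id from
      LinearMap.ext fun z => by simp [cj_apply],
    show Function.update (Function.update (fun _ => LinearMap.id) l D) m LinearMap.id =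
      Function.update (fun _ => LinearMap.id) l D from by
        rw [Function.update_eq_self_iff]; simp [h]]

/-- Wreath elements on pure tensors. -/
lemma wr_shape {h : GL (J k n) F} (hh : h ∈ Wr F k n) :
    ∃ (π : Equiv.Perm (Fin n)) (B : Fin n → GL (Fin k) F),
      ∀ p, app h (pr p) = pr fun l => app (B l) (p (π l)) := by
  induction hh using Subgroup.closure_induction with
  | mem h hh =>
    rcases hh with ⟨gs, hgs⟩ | ⟨σ, hσ⟩
    · refine ⟨1, gs, fun p => funext fun f => ?_⟩
      simp only [Matrix.mulVec, dotProduct, hgs, app_apply, C7F.pr, Equiv.Perm.one_apply]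
      rw [Fintype.prod_sum]
      exact Finset.sum_congr rfl fun g _ => Finset.prod_mul_distrib.symm
    · refine ⟨σ⁻¹, fun _ => 1, fun p => ?_⟩
      rw [app_perm hσ]
      funext f
      simp only [C7F.pr, Function.comp_apply, map_one, LinearEquiv.coe_one, id_eq]
      exact Fintype.prod_equiv σ _ _ fun i => by simp
  | one => exact ⟨1, fun _ => 1, fun p => by simp⟩
  | mul g h _ _ hg hh =>
    obtain ⟨π', B', e'⟩ := hg
    obtain ⟨π, B, e⟩ := hh
    exact ⟨π * π', fun l => B' l * B (π' l), fun p => by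
      rw [map_mul, LinearEquiv.mul_apply, e, e']; simp⟩
  | inv g _ hg =>
    obtain ⟨π, B, e⟩ := hg
    refine ⟨π⁻¹, fun l => (B (π⁻¹ l))⁻¹, fun p => ?_⟩
    apply (app g).injective
    rw [app_app_inv, e]
    congr 1
    funext l
    simp [app_app_inv]

lemma cj_wr_pt {h : GL (J k n) F} {π : Equiv.Perm (Fin n)} {B : Fin n → GL (Fin k) F}
    (e : ∀ p, app h (pr p) = pr fun l => app (B l) (p (π l)))
    (E : Fin n → (Fin k → F) →ₗ[F] (Fin k → F)) :
    cj h (pt E) = pt fun l => cj (B l) (E (π l)) := cj_eq fun p => by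
  rw [pt_pr, e, e, pt_pr]
  congr 1
  funext l
  simp [cj_apply]

/-- Equivariance of a tensor product of maps. -/
lemma tmap_cj {h : GL (J k n) F} {π : Equiv.Perm (Fin n)} {B : Fin n → GL (Fin k) F}
    (e : ∀ p, app h (pr p) = pr fun l => app (B l) (p (π l)))
    (φ : Fin n → Module.End F (Module.End F (Fin k → F)))
    (hφ : ∀ l A, φ l (cj (B l) A) = cj (B l) (φ l A)) :
    (tmap φ).comp (cj h) = (cj h).comp (tmap fun m => φ (π⁻¹ m)) :=
  pt_ext fun E => by
    rw [LinearMap.comp_apply, LinearMap.comp_apply, cj_wr_pt e, tmap_pt, tmap_pt, cj_wr_pt e]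
    exact pt_apply_eq fun l => by simp [hφ]

/-! ### commutators -/

lemma mul_pt (E E' : Fin n → (Fin k → F) →ₗ[F] (Fin k → F)) :
    pt E * pt E' = pt fun l => E l * E' l := pt_comp E E'

lemma comm_slot_pt (l : Fin n) (D : (Fin k → F) →ₗ[F] (Fin k → F))
    (E : Fin n → (Fin k → F) →ₗ[F] (Fin k → F)) :
    pt (Function.update (fun _ => LinearMap.id) l D) * pt E -
        pt E * pt (Function.update (fun _ => LinearMap.id) l D) =
      pt (Function.update E l (D * E l - E l * D)) := by
  rw [mul_pt, mul_pt, pt_update_sub]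
  congr 1 <;>
  · refine pt_apply_eq fun j => ?_
    by_cases hj : j = l
    · subst hj; simp
    · simp [hj]; rfl

namespace Sm

variable (G : Sm F k)

/-- The sign of an operator for the form. -/
def Sgn (n : ℕ) (ε : F) : Submodule F (Module.End F (J k n → F)) where
  carrier := {X | ∀ x y, G.B n (X x) y = ε * G.B n x (X y)}
  add_mem' := fun hX hY x y => by simp [hX x y, hY x y]; ring
  zero_mem' := fun x y => by simp
  smul_mem' := fun s X hX x y => by simp [hX x y]; ring

/-- Tensor products of skew operators. -/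
def TS (n : ℕ) : Submodule F (Module.End F (J k n → F)) :=
  Submodule.span F {X | ∃ E : Fin n → Module.End F (Fin k → F), (∀ l, E l ∈ G.so) ∧ X = pt E}

/-- Sums of skew operators of single positions. -/
def L0 (n : ℕ) : Submodule F (Module.End F (J k n → F)) :=
  Submodule.span F {X | ∃ (l : Fin n) (D : Module.End F (Fin k → F)),
    D ∈ G.so ∧ X = pt (Function.update (fun _ => LinearMap.id) l D)}

variable {G}

lemma pt_mem_TS {E : Fin n → Module.End F (Fin k → F)} (h : ∀ l, E l ∈ G.so) : pt E ∈ G.TS n :=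
  Submodule.subset_span ⟨E, h, rfl⟩

lemma sl_mem_L0 (l : Fin (t + 1)) {D : Module.End F (Fin k → F)} (hD : D ∈ G.so) :
    sl l D ∈ G.L0 (t + 1) :=
  Submodule.subset_span ⟨l, D, hD, (pt_update_id l D).symm⟩

lemma cj_sgn {g : GL (J k n) F} (hg : g ∈ G.isoGrp n) {ε : F} {X : Module.End F (J k n → F)}
    (hX : X ∈ G.Sgn n ε) : cj g X ∈ G.Sgn n ε := fun x y => by
  rw [cj_apply, cj_apply, ← iso_inv_left hg]
  conv_lhs => rw [← app_app_inv g y, mem_isoGrp.1 hg, hX]

lemma TS_le_sgn : G.TS n ≤ G.Sgn n ((-1) ^ n) := Submodule.span_le.2 fun X hX => by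
  obtain ⟨E, hE, rfl⟩ := hX
  intro x y
  rw [G.adj_pt (E' := fun l => -E l) (fun l u v => by simp [hE l u v])]
  have : pt (fun l => -E l) = ((-1 : F) ^ n) • pt E := C7F.Fm.ext_pr fun p => by
    rw [pt_pr, LinearMap.smul_apply, pt_pr,
      show ((-1 : F) ^ n) = ∏ _l : Fin n, (-1 : F) by simp, ← pr_smul']
    congr 1
    funext l
    simp
  simp [this]

lemma L0_le_sgn : G.L0 n ≤ G.Sgn n (-1) := Submodule.span_le.2 fun X hX => by
  obtain ⟨l, D, hD, rfl⟩ := hX
  intro x y
  rw [G.adj_pt (E' := Function.update (fun _ => LinearMap.id) l ((-1 : F) • D)) (fun j u v => by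
    by_cases hj : j = l
    · subst hj; simp [hD u v]
    · simp [hj]), pt_update_smul]
  simp

lemma wr_simil (hk : 3 ≤ k) {h : GL (J k n) F} (hi : h ∈ G.isoGrp n) {π : Equiv.Perm (Fin n)}
    {B : Fin n → GL (Fin k) F} (e : ∀ p, app h (pr p) = pr fun l => app (B l) (p (π l)))
    (l : Fin n) : ∃ ν : F, ν ≠ 0 ∧ ∀ u v, G.f (app (B l) u) (app (B l) v) = ν * G.f u v := by
  classical
  obtain ⟨e₀, hg, -, -⟩ := G.exists_obasis
  set a := e₀ ⟨0, by omega⟩
  have hga : G.f a a ≠ 0 := hg _
  set P : (Fin k → F) → Fin n → Fin k → F := fun u => Function.update (fun _ => a) (π l) u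
  set c₁ := ∏ m ∈ Finset.univ.erase l, G.f (app (B m) a) (app (B m) a)
  set c₂ := ∏ _m ∈ Finset.univ.erase l, G.f a a
  have key : ∀ u v, G.f (app (B l) u) (app (B l) v) * c₁ = G.f u v * c₂ := fun u v => by
    have := mem_isoGrp.1 hi (pr (P u)) (pr (P v))
    rw [e, e, B_pr, B_pr, ← Equiv.prod_comp π fun m => G.f (P u m) (P v m)] at this
    have e1 : ∀ w, ∀ m ∈ Finset.univ.erase l, P w (π m) = a := fun w m hm => by
      simp [P, π.injective.ne (Finset.ne_of_mem_erase hm)]
    rw [← Finset.mul_prod_erase _ _ (Finset.mem_univ l),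
      ← Finset.mul_prod_erase _ _ (Finset.mem_univ l)] at this
    rw [Finset.prod_congr rfl fun m hm => by rw [e1 u m hm, e1 v m hm],
      Finset.prod_congr (f := fun m => G.f (P u (π m)) (P v (π m))) rfl
        fun m hm => by rw [e1 u m hm, e1 v m hm]] at this
    simpa [P, c₁, c₂] using this
  have hc2 : c₂ ≠ 0 := Finset.prod_ne_zero_iff.2 fun _ _ => hga
  have hc1 : c₁ ≠ 0 := fun h0 => mul_ne_zero hga hc2 (by rw [← key a a, h0, mul_zero])
  exact ⟨c₂ / c₁, div_ne_zero hc2 hc1, fun u v => by
    rw [div_mul_eq_mul_div, eq_div_iff hc1, key, mul_comm]⟩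

end Sm

end Cfsg.Agent.C7O
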