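import Cfsg.Agent.Lib.C7F.Main
import Cfsg.Agent.Lib.Orth.Eichler

/-!
# Tensor powers of a quadratic space in odd characteristic

* `Sm` : a non-degenerate symmetric form on `F^k`, `2 ≠ 0`
* `Sm.B t` : its `t`-th tensor power
* `Sm.HB b c` : a hyperbolic pair, `Sm.InW b c v` : `v` is orthogonal to it
* `Sm.sg b v` : the Siegel element, `Sm.rf v` : the reflection, `Sm.ww b c v` : a Weyl element
* `Sm.Ovg M` : `M` consists of isometries and contains the squares of the isometries in the wreath group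
-/

set_option autoImplicit false
set_option linter.unusedSectionVars false

namespace Cfsg.Agent.C7O

open Matrix Module Cfsg.Agent.Transvect Cfsg.Agent.C7
open Cfsg.Agent.C7F (op op_T op_one pr T_pr T_pr' pt pt_pr sl sl_T res mem_res_iff kr_nest)
open scoped MatrixGroups
open QuadraticMap (polar)

attribute [-simp] app_apply

variable {F : Type*} [Field F] {k t : ℕ}

/-- A non-degenerate symmetric form in odd characteristic. -/
structure Sm (F : Type*) [Field F] (k : ℕ) where
  f : (Fin k → F) →ₗ[F] (Fin k → F) →ₗ[F] F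
  sym : ∀ u v, f u v = f v u
  nd : ∀ u, (∀ v, f u v = 0) → u = 0
  two : (2 : F) ≠ 0

namespace Sm

variable (G : Sm F k)

/-! ### one position -/

lemma exists_dual {u : Fin k → F} (hu : u ≠ 0) : ∃ v, G.f u v = 1 := by
  obtain ⟨v, hv⟩ : ∃ v, G.f u v ≠ 0 := by
    by_contra! h; exact hu (G.nd u h)
  exact ⟨(G.f u v)⁻¹ • v, by simp [hv]⟩

lemma f_inj : Function.Injective G.f := LinearMap.ker_eq_bot.1 (LinearMap.ker_eq_bot'.2 fun u hu =>
  G.nd u fun v => by rw [show G.f u = 0 from hu]; rfl)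

lemma exists_rep (φ : (Fin k → F) →ₗ[F] F) : ∃ u, ∀ v, G.f u v = φ v := by
  obtain ⟨u, hu⟩ :=
    (LinearMap.linearEquivOfInjective G.f G.f_inj Subspace.dual_finrank_eq.symm).surjective φ
  exact ⟨u, fun v => LinearMap.congr_fun hu v⟩

lemma f_ext {u v : Fin k → F} (h : ∀ z, G.f u z = G.f v z) : u = v :=
  G.f_inj (LinearMap.ext h)

/-- `f(x,x)/2`. -/
noncomputable def q : QuadraticForm F (Fin k → F) :=
  LinearMap.BilinMap.toQuadraticMap ((2 : F)⁻¹ • G.f)

lemma q_apply (x : Fin k → F) : G.q x = 2⁻¹ * G.f x x := rfl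

lemma polar_q (x y : Fin k → F) : polar ⇑G.q x y = G.f x y := by
  rw [q, LinearMap.BilinMap.polar_toQuadraticMap]
  simp only [LinearMap.smul_apply, smul_eq_mul, G.sym y x]
  have := G.two
  field_simp
  ring

lemma q_nondeg : G.q.polarBilin.Nondegenerate := by
  refine ⟨fun x hx => G.nd x fun y => ?_, fun y hy => G.nd y fun x => ?_⟩
  · simpa [polar_q] using hx y
  · rw [G.sym]; simpa [polar_q] using hy x

lemma f_add_self (u v : Fin k → F) :
    G.f (u + v) (u + v) = G.f u u + 2 * G.f u v + G.f v v := by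
  simp [G.sym v u]; ring

/-- A hyperbolic pair. -/
structure HB (b c : Fin k → F) : Prop where
  bb : G.f b b = 0
  cc : G.f c c = 0
  bc : G.f b c = 1

variable {G}

namespace HB

variable {b c : Fin k → F}

lemma cb (h : G.HB b c) : G.f c b = 1 := by rw [G.sym]; exact h.bc

lemma swap (h : G.HB b c) : G.HB c b := ⟨h.cc, h.bb, h.cb⟩

lemma ne_left (h : G.HB b c) : b ≠ 0 := fun e => by simpa [e] using h.bc

lemma ne_right (h : G.HB b c) : c ≠ 0 := h.swap.ne_left

end HB

/-- `v` is orthogonal to the pair. -/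
def InW (G : Sm F k) (b c v : Fin k → F) : Prop := G.f b v = 0 ∧ G.f c v = 0

/-- The component orthogonal to the pair. -/
def wp (G : Sm F k) (b c z : Fin k → F) : Fin k → F := z - G.f c z • b - G.f b z • c

namespace InW

variable {b c v w : Fin k → F}

lemma swap (h : G.InW b c v) : G.InW c b v := ⟨h.2, h.1⟩
lemma left (h : G.InW b c v) : G.f b v = 0 := h.1
lemma right (h : G.InW b c v) : G.f c v = 0 := h.2
lemma left' (h : G.InW b c v) : G.f v b = 0 := by rw [G.sym]; exact h.1
lemma right' (h : G.InW b c v) : G.f v c = 0 := by rw [G.sym]; exact h.2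
lemma smul (h : G.InW b c v) (s : F) : G.InW b c (s • v) := ⟨by simp [h.1], by simp [h.2]⟩
lemma neg (h : G.InW b c v) : G.InW b c (-v) := ⟨by simp [h.1], by simp [h.2]⟩
lemma add (h : G.InW b c v) (h' : G.InW b c w) : G.InW b c (v + w) :=
  ⟨by simp [h.1, h'.1], by simp [h.2, h'.2]⟩

end InW

lemma wp_mem {b c : Fin k → F} (h : G.HB b c) (z : Fin k → F) : G.InW b c (G.wp b c z) :=
  ⟨by simp [wp, h.bb, h.bc], by simp [wp, h.cc, h.cb]⟩

lemma wp_decomp (G : Sm F k) (b c z : Fin k → F) :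
    z = G.f c z • b + G.f b z • c + G.wp b c z := by
  simp only [wp]; abel

lemma wp_f {b c v : Fin k → F} (hv : G.InW b c v) (z : Fin k → F) :
    G.f v (G.wp b c z) = G.f v z := by
  simp [wp, hv.left', hv.right']

/-- Completing a singular vector to a hyperbolic pair. -/
lemma exists_hb {b : Fin k → F} (h0 : b ≠ 0) (hb : G.f b b = 0) : ∃ c, G.HB b c := by
  obtain ⟨c, hc⟩ := Orth.exists_hpair_left G.q_nondeg (e := b) (by rw [q_apply, hb, mul_zero]) h0
  refine ⟨c, hb, ?_, by rw [← G.polar_q]; exact hc.pf⟩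
  have := hc.qf
  rw [q_apply] at this
  exact (mul_eq_zero.1 this).resolve_left (inv_ne_zero G.two)

lemma exists_hb' [Fintype F] (G : Sm F k) (hk : 3 ≤ k) : ∃ b c, G.HB b c := by
  obtain ⟨e, f, h⟩ := Orth.exists_hpair G.q_nondeg (by simpa using hk)
  obtain ⟨c, hc⟩ := exists_hb h.ne_zero (b := e) (by
    have := h.qe
    rw [q_apply] at this
    exact (mul_eq_zero.1 this).resolve_left (inv_ne_zero G.two))
  exact ⟨e, c, hc⟩

/-- An orthogonal basis of the complement of a pair. -/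
lemma exists_basis {b c : Fin k → F} (h : G.HB b c) (hk : 2 ≤ k) :
    ∃ e : Fin (k - 2) → Fin k → F, (∀ i, G.InW b c (e i)) ∧ (∀ i, G.f (e i) (e i) ≠ 0) ∧
      (∀ i j, i ≠ j → G.f (e i) (e j) = 0) ∧
      ∀ z, G.wp b c z = ∑ i, (G.f (e i) z / G.f (e i) (e i)) • e i := by
  classical
  letI : Invertible (2 : F) := invertibleOfNonzero G.two
  let W : Submodule F (Fin k → F) :=
    { carrier := {v | G.InW b c v}
      zero_mem' := ⟨map_zero _, map_zero _⟩
      add_mem' := fun h h' => h.add h'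
      smul_mem' := fun s _ h => h.smul s }
  let B₀ : LinearMap.BilinForm F W := (G.f.comp W.subtype).compl₂ W.subtype
  obtain ⟨v, hv⟩ := LinearMap.BilinForm.exists_orthogonal_basis (B := B₀)
    ⟨fun x y => G.sym x.1 y.1⟩
  have horth : ∀ i j, i ≠ j → G.f (v i) (v j) = 0 := fun i j hij => hv hij
  have hsum : ∀ x : W, (x : Fin k → F) = ∑ i, v.repr x i • (v i : Fin k → F) := fun x => by
    have := congrArg W.subtype (v.sum_repr x)
    rw [map_sum] at this
    simpa using this.symm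
  have hrepr : ∀ i (x : W), G.f (v i) x = v.repr x i * G.f (v i) (v i) := fun i x => by
    have e := congrArg (G.f (v i)) (hsum x)
    rw [map_sum, Finset.sum_eq_single i (fun j _ hji => by
      rw [map_smul, horth i j hji.symm, smul_zero]) (by simp), map_smul, smul_eq_mul] at e
    exact e
  have hne : ∀ i, G.f (v i) (v i) ≠ 0 := fun i h0 => v.ne_zero i (Subtype.ext (G.nd _ fun z => by
    rw [← wp_f (v i).2 z]
    have := hrepr i ⟨_, wp_mem h z⟩
    rw [h0, mul_zero] at this
    exact this))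
  have hdim : finrank F W = k - 2 := by
    have e : W = LinearMap.ker ((G.f b).prod (G.f c)) := by
      ext x
      exact ⟨fun hx => Prod.ext hx.1 hx.2, fun hx => ⟨congrArg Prod.fst hx, congrArg Prod.snd hx⟩⟩
    have h1 := ((G.f b).prod (G.f c)).finrank_range_add_finrank_ker
    rw [LinearMap.range_eq_top.2 (fun p => ⟨p.1 • c + p.2 • b, by simp [h.bb, h.bc, h.cb, h.cc]⟩),
      finrank_top, Module.finrank_fin_fun, Module.finrank_prod, Module.finrank_self] at h1
    rw [e]; omega
  let e : Fin (k - 2) ≃ Fin (finrank F W) := finCongr hdim.symm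
  refine ⟨fun i => (v (e i) : Fin k → F), fun i => (v _).2, fun i => hne _,
    fun i j hij => horth _ _ (e.injective.ne hij), fun z => ?_⟩
  rw [Equiv.sum_comp e (fun i => (G.f (v i : Fin k → F) z / G.f (v i) (v i)) • (v i : Fin k → F))]
  conv_lhs => rw [show G.wp b c z = ((⟨_, wp_mem h z⟩ : W) : Fin k → F) from rfl, hsum]
  refine Finset.sum_congr rfl fun i _ => ?_
  congr 1
  rw [eq_div_iff (hne i), ← hrepr, wp_f (v i).2]

lemma exists_aniso {b c : Fin k → F} (h : G.HB b c) (hk : 3 ≤ k) :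
    ∃ v, G.InW b c v ∧ G.f v v ≠ 0 := by
  obtain ⟨e, he, hn, -, -⟩ := exists_basis h (by omega)
  exact ⟨e ⟨0, by omega⟩, he _, hn _⟩

/-! ### elements of one position -/

variable (G) in
/-- An isometry of one position. -/
def IsI (C : GL (Fin k) F) : Prop := ∀ u v, G.f (app C u) (app C v) = G.f u v

lemma isI_coe (g : Orth.IsoGrp G.q) : G.IsI (g : GL (Fin k) F) := fun u v => by
  rw [← G.polar_q u v, ← Orth.polar_ap g, G.polar_q]; rfl

lemma IsI.mul {C D : GL (Fin k) F} (hC : G.IsI C) (hD : G.IsI D) : G.IsI (C * D) :=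
  fun u v => by simp only [map_mul, LinearEquiv.mul_apply]; rw [hC, hD]

lemma IsI.inv {C : GL (Fin k) F} (hC : G.IsI C) : G.IsI C⁻¹ := fun u v => by
  rw [← hC, app_app_inv, app_app_inv]

lemma IsI.inv_left {C : GL (Fin k) F} (hC : G.IsI C) (u v : Fin k → F) :
    G.f (app C⁻¹ u) v = G.f u (app C v) := by
  rw [← hC, app_app_inv]

lemma isI_one : G.IsI 1 := fun u v => by simp

variable (G)

/-- The Siegel element. -/
noncomputable def sg (b v : Fin k → F) : GL (Fin k) F := (Orth.eich G.q b (-v) : Orth.IsoGrp G.q)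

lemma isI_sg (b v : Fin k → F) : G.IsI (G.sg b v) := isI_coe _

variable {G}

lemma sg_apply {b v : Fin k → F} (hb : G.f b b = 0) (hv : G.f b v = 0) (z : Fin k → F) :
    app (G.sg b v) z = z + G.f v z • b - G.f b z • v - (G.f b z * G.f v v / 2) • b := by
  show Orth.ap (Orth.eich G.q b (-v)) z = _
  rw [Orth.eich_ap (by rw [q_apply, hb, mul_zero]) (by rw [polar_q]; simp [hv]), polar_q, polar_q,
    q_apply]
  simp only [map_neg, LinearMap.neg_apply]
  have := G.two
  match_scalars <;> field_simp <;> ring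

lemma sg_add {b v w : Fin k → F} (hb : G.f b b = 0) (hv : G.f b v = 0) (hw : G.f b w = 0) :
    G.sg b v * G.sg b w = G.sg b (v + w) := by
  show (↑(Orth.eich G.q b (-v)) : GL (Fin k) F) * ↑(Orth.eich G.q b (-w)) = _
  rw [← Subgroup.coe_mul, Orth.eich_add (by rw [q_apply, hb, mul_zero]) (by rw [polar_q]; simp [hv])
    (by rw [polar_q]; simp [hw])]
  rw [← neg_add]
  rfl

lemma sg_zero (b : Fin k → F) : G.sg b 0 = 1 := by
  show (↑(Orth.eich G.q b (-0)) : GL (Fin k) F) = 1
  rw [neg_zero, Orth.eich_zero]; rfl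

lemma sg_inv (b v : Fin k → F) : (G.sg b v)⁻¹ = G.sg b (-v) := by
  show (↑(Orth.eich G.q b (-v)) : GL (Fin k) F)⁻¹ = _
  rw [← Subgroup.coe_inv, Orth.eich_inv]; rfl

lemma sg_fix {b v : Fin k → F} (hb : G.f b b = 0) (hv : G.f b v = 0) : app (G.sg b v) b = b := by
  rw [sg_apply hb hv, hb, G.sym v b, hv]; simp

variable (G) in
/-- The reflection in `v`. -/
noncomputable def rf (v : Fin k → F) : GL (Fin k) F := (Orth.refl G.q v : Orth.IsoGrp G.q)

lemma isI_rf (G : Sm F k) (v : Fin k → F) : G.IsI (G.rf v) := isI_coe _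

lemma rf_apply (G : Sm F k) (v z : Fin k → F) :
    app (G.rf v) z = z - (2 * G.f v z / G.f v v) • v := by
  show Orth.ap (Orth.refl G.q v) z = _
  rw [Orth.refl_ap, q_apply, polar_q]
  congr 2
  rw [mul_inv, inv_inv]
  ring

lemma rf_inv (G : Sm F k) (v : Fin k → F) : (G.rf v)⁻¹ = G.rf v := by
  show (↑(Orth.refl G.q v) : GL (Fin k) F)⁻¹ = _
  rw [← Subgroup.coe_inv, Orth.refl_inv]; rfl

variable (G) in
/-- The Weyl element of the pair, a product of Siegel elements. -/
noncomputable def ww (b c v : Fin k → F) : GL (Fin k) F :=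
  G.sg b v * G.sg c ((2 / G.f v v) • v) * G.sg b v

lemma isI_ww (G : Sm F k) (b c v : Fin k → F) : G.IsI (G.ww b c v) :=
  ((G.isI_sg _ _).mul (G.isI_sg _ _)).mul (G.isI_sg _ _)

lemma ww_apply {b c v : Fin k → F} (h : G.HB b c) (hv : G.InW b c v) (hg : G.f v v ≠ 0)
    (z : Fin k → F) : app (G.ww b c v) z =
      -(G.f v v / 2 * G.f b z) • b - (2 / G.f v v * G.f c z) • c +
        (G.wp b c z - (2 * G.f v z / G.f v v) • v) := by
  have hcv : G.f c ((2 / G.f v v) • v) = 0 := by simp [hv.2]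
  have h2 := G.two
  rw [ww, map_mul, map_mul, LinearEquiv.mul_apply, LinearEquiv.mul_apply, sg_apply h.bb hv.1 z,
    sg_apply h.cc hcv, sg_apply h.bb hv.1]
  simp only [map_add, map_sub, map_smul, LinearMap.smul_apply, smul_eq_mul, h.bb, h.bc, h.cb,
    hv.1, hv.2, hv.left', hv.right', wp, mul_zero, mul_one, add_zero, sub_zero]
  match_scalars <;> field_simp <;> ring

/-! ### the tensor power -/

variable (G)

/-- The tensor power of the form. -/
noncomputable def B (t : ℕ) : (J k t → F) →ₗ[F] (J k t → F) →ₗ[F] F :=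
  LinearMap.mk₂ F
    (fun x y => ∑ a, ∑ b, x a * (∏ i, G.f (Pi.single (a i) 1) (Pi.single (b i) 1)) * y b)
    (fun x x' y => by simp [add_mul, Finset.sum_add_distrib])
    (fun c x y => by simp [Finset.mul_sum, mul_assoc])
    (fun x y y' => by simp [mul_add, Finset.sum_add_distrib])
    (fun c x y => by simp [Finset.mul_sum]; congr! 2; ring)

lemma f_sum (u v : Fin k → F) :
    G.f u v = ∑ a, ∑ b, u a * G.f (Pi.single a 1) (Pi.single b 1) * v b := by
  conv_lhs => rw [pi_eq_sum_univ' u, pi_eq_sum_univ' v]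
  simp only [map_sum, map_smul, LinearMap.sum_apply, LinearMap.smul_apply, smul_eq_mul,
    Finset.mul_sum]
  rw [Finset.sum_comm]
  congr! 2; ring

lemma B_pr (p q : Fin t → Fin k → F) : G.B t (pr p) (pr q) = ∏ i, G.f (p i) (q i) := by
  simp only [G.f_sum (p _)]
  rw [Fintype.prod_sum]
  show ∑ a, ∑ b, _ = _
  refine Finset.sum_congr rfl fun a _ => ?_
  rw [Fintype.prod_sum]
  refine Finset.sum_congr rfl fun b _ => ?_
  rw [C7F.pr, C7F.pr, Finset.prod_mul_distrib, Finset.prod_mul_distrib]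

omit G in
lemma ext_pr₂ {L L' : (J k t → F) →ₗ[F] (J k t → F) →ₗ[F] F}
    (h : ∀ p q, L (pr p) (pr q) = L' (pr p) (pr q)) : L = L' :=
  C7F.Fm.ext_pr fun p => C7F.Fm.ext_pr (h p)

lemma B_T (i : Fin (t + 1)) (a a' : J k t → F) (u u' : Fin k → F) :
    G.B (t + 1) (T i a u) (T i a' u') = G.B t a a' * G.f u u' := by
  have h := LinearMap.congr_fun (LinearMap.congr_fun (ext_pr₂
    (L := ((G.B (t + 1)).comp ((T i).flip u)).compl₂ ((T i).flip u'))
    (L' := G.f u u' • G.B t) fun p q => by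
      simp only [LinearMap.compl₂_apply, LinearMap.comp_apply, LinearMap.flip_apply, T_pr',
        LinearMap.smul_apply, smul_eq_mul, B_pr]
      rw [Fin.prod_univ_succAbove _ i]
      simp) a) a'
  rw [mul_comm]
  exact h

lemma B_comm (x y : J k t → F) : G.B t y x = G.B t x y :=
  LinearMap.congr_fun (LinearMap.congr_fun (ext_pr₂ (L := (G.B t).flip)
    (L' := G.B t) fun p q => by
      simp only [LinearMap.flip_apply, B_pr]
      exact Finset.prod_congr rfl fun i _ => G.sym _ _) x) y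

lemma B_ct (i : Fin (t + 1)) (y : J k t → F) (a : Fin k → F) (x : J k (t + 1) → F) :
    G.B (t + 1) (T i y a) x = G.B t y (ct i (G.f a) x) :=
  LinearMap.congr_fun (lin_ext i (f := G.B (t + 1) (T i y a))
    (g := (G.B t y).comp (ct i (G.f a))) fun z u => by simp [B_T, mul_comm]) x

/-- Contractions separate. -/
lemma ct_sep {i : Fin (t + 1)} {x y : J k (t + 1) → F}
    (h : ∀ a, ct i (G.f a) x = ct i (G.f a) y) : x = y := by
  rw [← sum_T_single i x, ← sum_T_single i y]
  refine Finset.sum_congr rfl fun c _ => ?_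
  obtain ⟨u, hu⟩ := G.exists_rep (LinearMap.proj c)
  rw [show (fun g => x (ins i c g)) = fun g => y (ins i c g) from funext fun g => by
    simpa [ct_apply, show G.f u = LinearMap.proj c from LinearMap.ext hu] using congrFun (h u) g]

lemma nd_B : ∀ {t : ℕ} (x : J k t → F), (∀ y, G.B t x y = 0) → x = 0 := by
  intro t
  induction t with
  | zero =>
    intro x h
    have := h (fun _ => 1)
    funext g
    simp [B] at this
    simpa [Subsingleton.elim g default] using this
  | succ t ih =>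
    intro x h
    refine G.ct_sep (i := 0) fun a => ?_
    rw [map_zero]
    exact ih _ fun y => by rw [G.B_comm, ← B_ct, G.B_comm, h]

lemma B_ext {x x' : J k t → F} (h : ∀ y, G.B t x y = G.B t x' y) : x = x' :=
  sub_eq_zero.1 (G.nd_B _ fun y => by rw [map_sub, LinearMap.sub_apply, h, sub_self])

lemma B_ext' {x x' : J k t → F} (h : ∀ y, G.B t y x = G.B t y x') : x = x' :=
  G.B_ext fun y => by rw [G.B_comm y x, G.B_comm y x', h]

/-- The isometry group of the tensor power. -/
def isoGrp (t : ℕ) : Subgroup (GL (J k t) F) where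
  carrier := {g | ∀ x y, G.B t (app g x) (app g y) = G.B t x y}
  one_mem' := fun x y => by simp
  mul_mem' := fun {g h} hg hh x y => by
    simp only [map_mul, LinearEquiv.mul_apply]; rw [hg, hh]
  inv_mem' := fun {g} hg x y => by
    rw [← hg (app g⁻¹ x) (app g⁻¹ y), app_app_inv, app_app_inv]

/-- The subgroup generated by the squares of the isometries. -/
def SqI (t : ℕ) : Subgroup (GL (J k t) F) := Subgroup.closure {g | ∃ h ∈ G.isoGrp t, h * h = g}

/-- The subgroup of one position generated by the squares of the isometries. -/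
def Sq1 : Subgroup (GL (Fin k) F) := Subgroup.closure {g | ∃ h, G.IsI h ∧ h * h = g}

variable {G}

lemma mem_isoGrp {g : GL (J k t) F} :
    g ∈ G.isoGrp t ↔ ∀ x y, G.B t (app g x) (app g y) = G.B t x y := Iff.rfl

lemma iso_inv_left {g : GL (J k t) F} (hg : g ∈ G.isoGrp t) (x y : J k t → F) :
    G.B t (app g⁻¹ x) y = G.B t x (app g y) := by
  conv_rhs => rw [← app_app_inv g x]
  rw [hg]

lemma kr_iso {i : Fin (t + 1)} {A : GL (J k t) F} {C : GL (Fin k) F} (hA : A ∈ G.isoGrp t)
    (hC : G.IsI C) : kr i A C ∈ G.isoGrp (t + 1) := fun x y =>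
  LinearMap.congr_fun (LinearMap.congr_fun (lin_ext i
    (f := ((G.B (t + 1)).comp (app (kr i A C)).toLinearMap).compl₂ (app (kr i A C)).toLinearMap)
    fun a u => lin_ext i fun a' u' => by simp [app_kr, B_T, hA a a', hC u u']) x) y

lemma kr_one_iso (i : Fin (t + 1)) {C : GL (Fin k) F} (hC : G.IsI C) :
    kr i 1 C ∈ G.isoGrp (t + 1) := kr_iso (one_mem _) hC

/-- Restriction of an isometry of a split form. -/
lemma iso_of_kr {i : Fin (t + 1)} {A : GL (J k t) F} (hk : 1 ≤ k)
    (hA : kr i A 1 ∈ G.isoGrp (t + 1)) : A ∈ G.isoGrp t := fun x y => by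
  have : Nonempty (Fin k) := ⟨⟨0, by omega⟩⟩
  obtain ⟨u, hu⟩ := exists_ne (0 : Fin k → F)
  obtain ⟨v, hv⟩ := G.exists_dual hu
  have := hA (T i x u) (T i y v)
  rw [app_kr, app_kr, B_T, B_T, map_one, LinearEquiv.coe_one, id_eq, id_eq, hv, mul_one,
    mul_one] at this
  exact this

lemma app_kr_one_pr (i : Fin (t + 1)) (C : GL (Fin k) F) (p : Fin (t + 1) → Fin k → F) :
    app (kr i 1 C) (pr p) = pr (Function.update p i (app C (p i))) := by
  conv_lhs => rw [← T_pr i p]
  rw [app_kr, map_one, LinearEquiv.coe_one, id_eq, T_pr']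
  congr 1
  funext l
  obtain rfl | ⟨j, rfl⟩ := i.eq_self_or_eq_succAbove l <;> simp

lemma gl_ext_pr {g h : GL (J k t) F} (H : ∀ p, app g (pr p) = app h (pr p)) : g = h :=
  gl_ext fun x => LinearMap.congr_fun
    (C7F.Fm.ext_pr (L := (app g).toLinearMap) (L' := (app h).toLinearMap) H) x

/-- A permutation of the positions. -/
lemma exists_perm (G : Sm F k) (σ : Equiv.Perm (Fin t)) :
    ∃ g, g ∈ Wr F k t ∧ g ∈ G.isoGrp t ∧ ∀ p, app g (pr p) = pr (p ∘ ⇑σ⁻¹) := by
  obtain ⟨g, hg⟩ := C7.exists_gl (F := F) (LinearMap.funLeft F F fun x : J k t => x ∘ ⇑σ)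
    (LinearMap.funLeft_injective_of_surjective F F _ fun x => ⟨x ∘ ⇑σ⁻¹, funext fun i => by simp⟩)
  have e : ∀ p, app g (pr p) = pr (p ∘ ⇑σ⁻¹) := fun p => by
    rw [hg]
    funext x
    simp only [LinearMap.funLeft_apply, C7F.pr, Function.comp_apply]
    exact Fintype.prod_equiv σ _ _ fun i => by simp
  refine ⟨g, Subgroup.subset_closure (Or.inr ⟨σ, fun x y => ?_⟩), ?_, e⟩
  · have := congrFun (hg (Pi.single y 1)) x
    simp [app_apply, Pi.single_apply] at this
    rw [this]; exact if_congr eq_comm rfl rfl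
  · exact fun x y => LinearMap.congr_fun (LinearMap.congr_fun (ext_pr₂
      (L := ((G.B t).comp (app g).toLinearMap).compl₂ (app g).toLinearMap) (L' := G.B t) fun p q => by
        simp only [LinearMap.compl₂_apply, LinearMap.comp_apply, LinearEquiv.coe_coe, e, B_pr,
          Function.comp_apply]
        exact Equiv.prod_comp σ⁻¹ fun l => G.f (p l) (q l)) x) y

/-! ### overgroups -/

variable (G) in
/-- `M` consists of isometries and contains the squares of the isometries in the wreath group. -/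
structure Ovg {t : ℕ} (M : Subgroup (GL (J k t) F)) : Prop where
  le : M ≤ G.isoGrp t
  sq : ∀ g ∈ Wr F k t, g ∈ G.isoGrp t → g * g ∈ M

variable (G) in
/-- `M` contains the squares of all isometries. -/
def Big (M : Subgroup (GL (J k t) F)) : Prop := ∀ g ∈ G.isoGrp t, g * g ∈ M

namespace Ovg

variable {M : Subgroup (GL (J k (t + 1)) F)}

lemma sq_gen (hO : G.Ovg M) (i : Fin (t + 1)) {C : GL (Fin k) F} (hC : C ∈ G.Sq1) :
    kr i 1 C ∈ M := by
  induction hC using Subgroup.closure_induction with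
  | mem C hC =>
    obtain ⟨h, hh, rfl⟩ := hC
    rw [show kr i (1 : GL (J k t) F) (h * h) = kr i 1 h * kr i 1 h by rw [kr_mul, one_mul]]
    exact hO.sq _ (kr_one_mem i h) (kr_one_iso i hh)
  | one => rw [kr_one]; exact one_mem M
  | mul C D _ _ hC hD =>
    rw [show kr i (1 : GL (J k t) F) (C * D) = kr i 1 C * kr i 1 D by rw [kr_mul, one_mul]]
    exact mul_mem hC hD
  | inv C _ hC =>
    rw [show kr i (1 : GL (J k t) F) C⁻¹ = (kr i 1 C)⁻¹ by rw [kr_inv, inv_one]]
    exact inv_mem hC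

lemma pair (hO : G.Ovg M) {i j : Fin (t + 1)} (hij : i ≠ j) {C : GL (Fin k) F} (hC : G.IsI C) :
    kr i 1 C * kr j 1 C ∈ M := by
  obtain ⟨p, hp, hpi, e⟩ := G.exists_perm (Equiv.swap i j)
  have h := hO.sq (p * kr i 1 C) (mul_mem hp (kr_one_mem i C)) (mul_mem hpi (kr_one_iso i hC))
  rwa [show p * kr i 1 C * (p * kr i 1 C) = kr i 1 C * kr j 1 C from gl_ext_pr fun q => by
    simp only [map_mul, LinearEquiv.mul_apply, app_kr_one_pr, e, Equiv.swap_inv]
    congr 1
    funext l
    rcases eq_or_ne l i with rfl | h1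
    · simp [Function.comp_apply, Equiv.swap_apply_left, hij, Ne.symm hij]
    rcases eq_or_ne l j with rfl | h2
    · simp [Function.comp_apply, Equiv.swap_apply_right, hij, Ne.symm hij]
    simp [Function.comp_apply, Equiv.swap_apply_of_ne_of_ne, h1, h2]] at h

lemma perm3 (hO : G.Ovg M) {σ : Equiv.Perm (Fin (t + 1))} (hσ : σ ^ 3 = 1) :
    ∃ g ∈ M, ∀ p, app g (pr p) = pr (p ∘ ⇑σ⁻¹) := by
  obtain ⟨g, hg, hgi, e⟩ := G.exists_perm (σ ^ 2)
  refine ⟨g * g, hO.sq g hg hgi, fun p => ?_⟩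
  rw [map_mul, LinearEquiv.mul_apply, e, e, Function.comp_assoc, ← Equiv.Perm.coe_mul,
    ← _root_.mul_inv_rev, ← pow_add, show 2 + 2 = 3 + 1 by rfl, pow_add, hσ, one_mul, pow_one]

end Ovg

lemma Ovg.res {M : Subgroup (GL (J k (t + 1)) F)} (hO : G.Ovg M) (hk : 1 ≤ k) (i : Fin (t + 1)) :
    G.Ovg (C7F.res i M) where
  le := fun A hA => iso_of_kr hk (hO.le (show kr i A 1 ∈ M from hA))
  sq := fun g hg hgi => by
    rw [mem_res_iff, show kr i (g * g) (1 : GL (Fin k) F) = kr i g 1 * kr i g 1 by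
      rw [kr_mul, mul_one]]
    exact hO.sq _ (kr_left_mem i hg) (kr_iso hgi G.isI_one)

lemma sg_mem_sq1 (b v : Fin k → F) (hb : G.f b b = 0) (hv : G.f b v = 0) : G.sg b v ∈ G.Sq1 := by
  have hh : G.f b ((2 : F)⁻¹ • v) = 0 := by simp [hv]
  refine Subgroup.subset_closure ⟨_, G.isI_sg b ((2 : F)⁻¹ • v), ?_⟩
  rw [sg_add hb hh hh, ← add_smul, show (2 : F)⁻¹ + 2⁻¹ = 1 by
    have := G.two; field_simp; norm_num, one_smul]

lemma ww_mem_sq1 {b c v : Fin k → F} (h : G.HB b c) (hv : G.InW b c v) :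
    G.ww b c v ∈ G.Sq1 :=
  mul_mem (mul_mem (sg_mem_sq1 b v h.bb hv.1)
    (sg_mem_sq1 c _ h.cc (by simp [hv.2]))) (sg_mem_sq1 b v h.bb hv.1)

lemma sq1_isI {C : GL (Fin k) F} (hC : C ∈ G.Sq1) : G.IsI C := by
  induction hC using Subgroup.closure_induction with
  | mem C hC => obtain ⟨h, hh, rfl⟩ := hC; exact hh.mul hh
  | one => exact isI_one
  | mul C D _ _ hC hD => exact hC.mul hD
  | inv C _ hC => exact hC.inv

end Sm

end Cfsg.Agent.C7O
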