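import Cfsg.Agent.Lib.C7O.ConjOrbit

/-!
# Elements conjugating a Siegel element into the wreath group

* `Sm.cent_of_line` : centralisers of anisotropic Siegel elements are in the wreath group
* `Sm.line_of_conj_all` : similitudes conjugating a root group into it map its line to a line
* `Sm.conjWr_of_lineWr` : so are elements conjugating one into the wreath group
-/

set_option autoImplicit false
set_option linter.unusedSectionVars false

namespace Cfsg.Agent.C7O

open Matrix Module Cfsg.Agent.C7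
open Cfsg.Agent.Transvect hiding pr
open Cfsg.Agent.C7F (pr T_pr T_pr' pr_ne_zero toE toE_apply)
open scoped MatrixGroups

attribute [-simp] app_apply

variable {F : Type*} [Field F] [Fintype F] {k t : ℕ}

namespace Sm

variable {G : Sm F k} {M : Subgroup (GL (J k (t + 1)) F)}

/-! ### the Siegel element -/

lemma app_y (i : Fin (t + 1)) (x : GL (Fin k) F) (a : J k t → F) (u : Fin k → F) :
    app (kr i 1 x) (T i a u) = T i a (app x u) := by
  rw [app_kr, map_one, LinearEquiv.coe_one, id_eq]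

lemma y_sq {b c v : Fin k → F} (h : G.HB b c) (hv : G.InW b c v) (i : Fin (t + 1))
    (a : J k t → F) (u : Fin k → F) :
    (toE (kr i 1 (G.sg b v)) - 1) ((toE (kr i 1 (G.sg b v)) - 1) (T i a u)) =
      T i a (-(G.f v v * G.f b u) • b) := by
  rw [toE_sub_apply, toE_sub_apply, app_y, ← map_sub, app_y, ← map_sub]
  congr 1
  simp only [sg_apply h.bb hv.left, map_add, map_sub, map_smul, smul_eq_mul,
    h.bb, hv.left, hv.left', mul_zero]
  have := G.two
  match_scalars <;> field_simp <;> ring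

lemma y_sub_le {b c v : Fin k → F} (h : G.HB b c) (hv : G.InW b c v) (i : Fin (t + 1)) :
    LinearMap.range (toE (kr i 1 (G.sg b v)) - 1) ≤ Li i b ⊔ Li i v := by
  rintro _ ⟨e, rfl⟩
  refine mem_of_T i _ _ (fun a u => ?_) e
  rw [toE_sub_apply, app_y, ← map_sub,
    show app (G.sg b v) u - u = (G.f v u - G.f b u * G.f v v / 2) • b + (-G.f b u) • v by
      rw [sg_apply h.bb hv.left]; module, map_add, map_smul, map_smul]
  exact Submodule.add_mem _ (Submodule.smul_mem _ _ (Submodule.mem_sup_left (T_mem_Li _ _ _)))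
    (Submodule.smul_mem _ _ (Submodule.mem_sup_right (T_mem_Li _ _ _)))

lemma y_ker_ge {b c v : Fin k → F} (h : G.HB b c) (hv : G.InW b c v) (i : Fin (t + 1)) :
    k ^ (t + 1) ≤ finrank F (LinearMap.ker (toE (kr i 1 (G.sg b v)) - 1)) + 2 * k ^ t := by
  have h1 := LinearMap.finrank_range_add_finrank_ker (toE (kr i 1 (G.sg b v)) - 1)
  have h2 := (Submodule.finrank_mono (y_sub_le h hv i)).trans
    (Submodule.finrank_add_le_finrank_add_finrank _ _)
  have h3 : ∀ u : Fin k → F, finrank F (Li (t := t) i u) ≤ k ^ t := fun u => by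
    refine (LinearMap.finrank_range_le _).trans ?_
    simp
  have h4 : finrank F (J k (t + 1) → F) = k ^ (t + 1) := by simp
  have := h3 b
  have := h3 v
  omega

/-- In dimension three the fixed space is the line. -/
lemma y_fix_three (hk : k = 3) {b c v : Fin k → F} (h : G.HB b c) (hv : G.InW b c v)
    (hg : G.f v v ≠ 0) (i : Fin (t + 1)) {e : J k (t + 1) → F}
    (he : app (kr i 1 (G.sg b v)) e = e) : e ∈ Li i b := by
  have key : ∀ z, ct i (G.f (app (G.sg b v) z - z)) e = 0 := fun z => by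
    have := ct_kr (G.isI_sg b v) i 1 z e
    rw [he, map_one, LinearEquiv.coe_one, id_eq] at this
    rw [map_sub, sub_eq_add_neg, ct_add, ct_neg, this, add_neg_cancel]
  have hb0 : ct i (G.f b) e = 0 := by
    have := key v
    rw [show app (G.sg b v) v - v = G.f v v • b by
      rw [sg_apply h.bb hv.left]; simp [hv.left], map_smul, ct_smul] at this
    exact (smul_eq_zero.1 this).resolve_left hg
  have hv0 : ct i (G.f v) e = 0 := by
    have := key c
    rw [show app (G.sg b v) c - c = (-1 : F) • v + (-(G.f v v / 2)) • b by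
      rw [sg_apply h.bb hv.left]; simp [hv.right', h.bc]; module, map_add, ct_add, map_smul,
      map_smul, ct_smul, ct_smul, hb0, smul_zero, add_zero, smul_eq_zero] at this
    exact this.resolve_left (neg_ne_zero.2 one_ne_zero)
  refine mem_Li_of_ct fun α hα => ?_
  obtain ⟨a, ha⟩ := G.exists_rep α
  have hfa : G.f b a = 0 := by rw [G.sym, ha, hα]
  obtain ⟨ε, hε, hεg, -, hsum⟩ := exists_basis h (by omega)
  obtain ⟨r, hr⟩ : ∃ r : F, G.wp b c a = r • v := by
    have hlt : 0 < k - 2 := by omega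
    set e0 := ε ⟨0, hlt⟩
    have hone : ∀ z, G.wp b c z = (G.f e0 z / G.f e0 e0) • e0 := fun z => by
      rw [hsum]
      exact Finset.sum_eq_single (⟨0, hlt⟩ : Fin (k - 2))
        (fun j _ hj => absurd (Fin.ext (by omega)) hj) (by simp)
    have hvv : v = (G.f e0 v / G.f e0 e0) • e0 := by
      rw [← hone]; simp [wp, hv.left, hv.right]
    set r₀ := G.f e0 v / G.f e0 e0
    have hr0 : r₀ ≠ 0 := fun e => hg (by rw [hvv, e]; simp)
    exact ⟨G.f e0 a / G.f e0 e0 / r₀, by rw [hone, hvv, smul_smul, div_mul_cancel₀ _ hr0]⟩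
  have hα' : α = G.f c a • G.f b + r • G.f v := by
    refine LinearMap.ext fun z => ?_
    rw [← ha]
    conv_lhs => rw [wp_decomp G b c a, hr, hfa]
    simp
  rw [hα', ct_add, ct_smul, ct_smul, hb0, hv0, smul_zero, smul_zero, add_zero]

/-- The elements of the root group are combinations of `1, y, y⁻¹`. -/
lemma y_smul {b c v : Fin k → F} (h : G.HB b c) (hv : G.InW b c v) (i : Fin (t + 1)) (s : F)
    (e : J k (t + 1) → F) :
    app (kr i 1 (G.sg b (s • v))) e = (1 - s * s) • e +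
      ((s * s + s) / 2) • app (kr i 1 (G.sg b v)) e +
      ((s * s - s) / 2) • app (kr i 1 (G.sg b v))⁻¹ e := by
  rw [kr_inv, inv_one, sg_inv]
  exact LinearMap.congr_fun (lin_ext i (f := (app (kr i 1 (G.sg b (s • v)))).toLinearMap)
    (g := (1 - s * s) • LinearMap.id +
      ((s * s + s) / 2) • (app (kr i 1 (G.sg b v))).toLinearMap +
      ((s * s - s) / 2) • (app (kr i 1 (G.sg b (-v)))).toLinearMap) fun a u => by
    simp only [LinearEquiv.coe_coe, LinearMap.add_apply, LinearMap.smul_apply, LinearMap.id_apply,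
      app_y, sg_apply h.bb (hv.smul s).left, sg_apply h.bb hv.left, sg_apply h.bb hv.neg.left]
    simp only [map_add, map_sub, map_smul, map_neg, LinearMap.smul_apply, LinearMap.neg_apply,
      smul_eq_mul]
    have := G.two
    match_scalars <;> field_simp <;> ring) e

/-- Centralisers of anisotropic Siegel elements. -/
lemma cent_of_line (_hk : 3 ≤ k) (_hO : G.Ovg M) (hline : G.LineWr M) : G.CentWr M := by
  intro g hg i b c v h hv hgv hcomm
  refine hline g hg i i b b h.ne_left h.bb h.ne_left h.bb fun a => ?_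
  have hc : ∀ x, app g ((toE (kr i 1 (G.sg b v)) - 1) x) =
      (toE (kr i 1 (G.sg b v)) - 1) (app g x) := fun x => by
    rw [toE_sub_apply, toE_sub_apply, map_sub]
    have := congrArg (fun w => app w x) hcomm
    simp only [map_mul, LinearEquiv.mul_apply] at this
    rw [this]
  have e : T i a b = (toE (kr i 1 (G.sg b v)) - 1) ((toE (kr i 1 (G.sg b v)) - 1)
      ((-(G.f v v)⁻¹) • T i a c)) := by
    rw [map_smul, map_smul, y_sq h hv, h.bc, mul_one, map_smul, smul_smul, neg_mul_neg,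
      inv_mul_cancel₀ hgv, one_smul]
  rw [e, hc, hc]
  exact mem_of_T i _ ((toE (kr i 1 (G.sg b v)) - 1).comp (toE (kr i 1 (G.sg b v)) - 1))
    (fun a' u => by
      rw [LinearMap.comp_apply, y_sq h hv, map_smul]
      exact Submodule.smul_mem _ _ (T_mem_Li _ _ _)) _

/-! ### the data of a conjugate -/

/-- A conjugate of an anisotropic Siegel element by a similitude of multiplier `ν`. -/
structure CData (G : Sm F k) (ν : F) (g : GL (J k (t + 1)) F)
    (i : Fin (t + 1)) (b c v : Fin k → F) (z : GL (J k (t + 1)) F) : Prop where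
  ν0 : ν ≠ 0
  sim : ∀ x y, G.B (t + 1) (app g x) (app g y) = ν * G.B (t + 1) x y
  hb : G.HB b c
  hv : G.InW b c v
  hg : G.f v v ≠ 0
  ez : z = g * kr i 1 (G.sg b v) * g⁻¹

namespace CData

variable {ν : F} {g z : GL (J k (t + 1)) F} {i : Fin (t + 1)} {b c v : Fin k → F}

lemma conj_apply (d : CData G ν g i b c v z) (e : J k (t + 1) → F) :
    (toE z - 1) (app g e) = app g ((toE (kr i 1 (G.sg b v)) - 1) e) := by
  rw [toE_sub_apply, toE_sub_apply, d.ez]
  simp [map_sub]

lemma ker_ge (d : CData G ν g i b c v z) :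
    (k - 2) * k ^ t ≤ finrank F (LinearMap.ker (toE z - 1)) := by
  have h1 : (LinearMap.ker (toE (kr i 1 (G.sg b v)) - 1)).map (app g).toLinearMap ≤
      LinearMap.ker (toE z - 1) := by
    rintro _ ⟨e, he, rfl⟩
    show (toE z - 1) (app g e) = 0
    rw [d.conj_apply, LinearMap.mem_ker.1 he, map_zero]
  have h2 := Submodule.finrank_mono h1
  rw [LinearEquiv.finrank_map_eq] at h2
  have h3 := y_ker_ge d.hb d.hv i
  rw [pow_succ, mul_comm (k ^ t) k] at h3
  rw [Nat.sub_mul]
  omega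

lemma z_iso (d : CData G ν g i b c v z) : z ∈ G.isoGrp (t + 1) := fun x y => by
  have e : ∀ x, app z x = app g (app (kr i 1 (G.sg b v)) (app g⁻¹ x)) := fun x => by
    rw [d.ez, map_mul, map_mul, LinearEquiv.mul_apply, LinearEquiv.mul_apply]
  rw [e, e, d.sim, kr_one_iso i (G.isI_sg b v), ← d.sim, app_app_inv, app_app_inv]

lemma line_sq (d : CData G ν g i b c v z) (a : J k t → F) :
    app g (T i a b) ∈ LinearMap.range ((toE z - 1) * (toE z - 1)) := by
  refine ⟨app g ((-(G.f v v)⁻¹) • T i a c), ?_⟩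
  rw [Module.End.mul_apply, d.conj_apply, d.conj_apply, map_smul, map_smul, y_sq d.hb d.hv,
    d.hb.bc, mul_one, ← map_smul (T i a), smul_smul, neg_mul_neg, inv_mul_cancel₀ d.hg, one_smul]

lemma sq_ne_zero (d : CData G ν g i b c v z) : (toE z - 1) * (toE z - 1) ≠ 0 := fun e => by
  have : Nonempty (J k t) := ⟨fun _ => ⟨0, by
    by_contra hk
    have : k = 0 := by omega
    subst this
    exact d.hb.ne_left (Subsingleton.elim _ _)⟩⟩
  obtain ⟨a, ha⟩ := exists_ne (0 : J k t → F)
  obtain ⟨w, hw⟩ := d.line_sq a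
  rw [e, LinearMap.zero_apply, eq_comm, LinearEquiv.map_eq_zero_iff] at hw
  exact (T_eq_zero hw).elim ha d.hb.ne_left

lemma cube (d : CData G ν g i b c v z) : (toE z - 1) ^ 3 = 0 := LinearMap.ext fun x => by
  rw [← app_app_inv g x]
  simp only [pow_succ, pow_zero, one_mul, Module.End.mul_apply, d.conj_apply]
  suffices h : (toE (kr i 1 (G.sg b v)) - 1) ^ 3 = 0 by
    have := LinearMap.congr_fun h (app g⁻¹ x)
    simp only [pow_succ, pow_zero, one_mul, Module.End.mul_apply, LinearMap.zero_apply] at this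
    rw [this, map_zero, LinearMap.zero_apply]
  refine lin_ext i fun a u => ?_
  simp only [pow_succ, pow_zero, one_mul, Module.End.mul_apply, toE_sub_apply,
    app_y, ← map_sub, LinearMap.zero_apply]
  have h1 := y_sq d.hb d.hv i a (app (G.sg b v) u - u)
  simp only [toE_sub_apply, app_y, ← map_sub] at h1
  rw [h1, map_sub, LinearMap.map_smul]
  simp [sg_apply d.hb.bb d.hv.left, d.hb.bb, d.hv.left]

lemma comb (d : CData G ν g i b c v z) (s : F) (x : J k (t + 1) → F) :
    app (g * kr i 1 (G.sg b (s • v)) * g⁻¹) x = (1 - s * s) • x +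
      ((s * s + s) / 2) • app z x + ((s * s - s) / 2) • app z⁻¹ x := by
  have ei : z⁻¹ = g * (kr i 1 (G.sg b v))⁻¹ * g⁻¹ := by rw [d.ez]; group
  rw [ei, d.ez]
  simp only [map_mul, LinearEquiv.mul_apply]
  rw [y_smul d.hb d.hv i s, map_add, map_add, map_smul, map_smul, map_smul, app_app_inv]

/-- An element of one position commuting with `z` puts the root group of `z` into the wreath group. -/
lemma root_mem (d : CData G ν g i b c v z) (hgM : g ∈ M) (hO : G.Ovg M) (hC : G.CentWr M) {m : Fin (t + 1)}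
    {b' c' w : Fin k → F} (h' : G.HB b' c') (hw : G.InW b' c' w) (hgw : G.f w w ≠ 0)
    (hcomm : z * kr m 1 (G.sg b' w) = kr m 1 (G.sg b' w) * z) (s : F) :
    g * kr i 1 (G.sg b (s • v)) * g⁻¹ ∈ Wr F k (t + 1) := by
  refine hC _ (mul_mem (mul_mem hgM (hO.sq_gen i (sg_mem_sq1 b _ d.hb.bb (d.hv.smul s).left)))
    (inv_mem hgM)) m b' c' w h' hw hgw (gl_ext fun x => ?_)
  have hci : z⁻¹ * kr m 1 (G.sg b' w) = kr m 1 (G.sg b' w) * z⁻¹ := by
    rw [inv_mul_eq_iff_eq_mul, ← mul_assoc, hcomm, mul_inv_cancel_right]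
  have e1 : app z (app (kr m 1 (G.sg b' w)) x) = app (kr m 1 (G.sg b' w)) (app z x) := by
    simpa only [map_mul, LinearEquiv.mul_apply] using congrArg (fun y => app y x) hcomm
  have e2 : app z⁻¹ (app (kr m 1 (G.sg b' w)) x) = app (kr m 1 (G.sg b' w)) (app z⁻¹ x) := by
    simpa only [map_mul, LinearEquiv.mul_apply] using congrArg (fun y => app y x) hci
  rw [map_mul _ (g * kr i 1 (G.sg b (s • v)) * g⁻¹), map_mul _ (kr m 1 (G.sg b' w)),
    LinearEquiv.mul_apply, LinearEquiv.mul_apply, d.comb, d.comb, e1, e2]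
  simp only [map_add, map_smul]

end CData

/-! ### all positions fixed -/

lemma mon_isI {n : ℕ} {z : GL (J k n) F} {x : Fin n → GL (Fin k) F} (h : Mon z 1 x)
    (hx : ∀ l, G.IsI (x l)) : z ∈ G.isoGrp n := fun u v =>
  LinearMap.congr_fun (LinearMap.congr_fun (ext_pr₂
    (L := ((G.B n).comp (app z).toLinearMap).compl₂ (app z).toLinearMap) (L' := G.B n) fun p q => by
      simp only [LinearMap.compl₂_apply, LinearMap.comp_apply, LinearEquiv.coe_coe, h _, B_pr]
      exact Finset.prod_congr rfl fun l _ => by simpa using hx l (p l) (q l)) u) v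

lemma mon_pow_eq_one {n p : ℕ} {z : GL (J k n) F} {x : Fin n → GL (Fin k) F} (h : Mon z 1 x)
    (hx : ∀ l, x l ^ p = 1) : z ^ p = 1 := gl_ext_pr fun q => by
  rw [h.pow_fix p q]
  simp [hx]

lemma mon_split {z : GL (J k (t + 1)) F} {x : Fin (t + 1) → GL (Fin k) F} (h : Mon z 1 x)
    (l : Fin (t + 1)) : z = kr l (Aschbacher.pureUnit fun j => x (l.succAbove j)) (x l) :=
  gl_ext_pr fun p => by
    rw [h, ← T_pr l p, app_kr, mon_pureUnit]
    rw [show (fun m => app (x m) (p ((1 : Equiv.Perm (Fin (t + 1)))⁻¹ m))) =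
      fun m => app (x m) (p m) from funext fun m => by simp, ← T_pr l]
    simp

lemma exists_card_ne (G : Sm F k) (h3 : Fintype.card F ≠ 3) :
    ∃ s : F, s ≠ 0 ∧ s ≠ 1 ∧ s ≠ -1 := by
  classical
  by_contra! hall
  refine h3 (le_antisymm ?_ ?_)
  · rw [← Finset.card_univ]
    refine (Finset.card_le_card (t := ({0, 1, -1} : Finset F)) fun s _ => ?_).trans Finset.card_le_three
    simp only [Finset.mem_insert, Finset.mem_singleton]
    by_cases h0 : s = 0
    · exact .inl h0
    by_cases h1 : s = 1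
    · exact .inr (.inl h1)
    · exact .inr (.inr (hall s h0 h1))
  · have hne : (-1 : F) ≠ 1 := fun e => G.two (by linear_combination -e)
    have h := Finset.card_le_univ ({0, 1, -1} : Finset F)
    rwa [Finset.card_eq_three.2 ⟨0, 1, -1, zero_ne_one, (neg_ne_zero.2 one_ne_zero).symm, hne.symm,
      rfl⟩] at h

section Fixed

variable {ν : F} {g z : GL (J k (t + 1)) F} {i : Fin (t + 1)} {b c v : Fin k → F}

/-- Two positions, dimension three. -/
lemma two_three_false (d : CData G ν g i b c v z)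
    (hW : ∀ s : F, g * kr i 1 (G.sg b (s • v)) * g⁻¹ ∈ Wr F k (t + 1)) (hk : k = 3)
    (hq : Fintype.card F ≠ 3) {x : Fin (t + 1) → GL (Fin k) F} (hx : Mon z 1 x)
    (hI : ∀ l, G.IsI (x l)) (hn : ∀ l, IsNilpotent (toE (x l) - 1))
    (hker : ∀ l, k ≤ finrank F (LinearMap.ker (toE (x l) - 1)) + 2)
    {l m : Fin (t + 1)} (hlm : l ≠ m) (hl : x l ≠ 1) (hm : x m ≠ 1) : False := by
  classical
  obtain ⟨s, hs0, hs1, hs2⟩ := exists_card_ne G hq
  obtain ⟨b₁, c₁, w₁, h₁, hw₁, hg₁, e₁⟩ := exists_sg hk (hI l) (hn l) hl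
  obtain ⟨b₂, c₂, w₂, h₂, hw₂, hg₂, e₂⟩ := exists_sg hk (hI m) (hn m) hm
  obtain ⟨τ, C, hτ⟩ := exists_mon (hW s)
  have hfix : ∀ j, ∃ a dd, app (x j) a = a ∧ G.f a dd = 1 := fun j => by
    have hpos : 0 < finrank F (LinearMap.ker (toE (x j) - 1)) := by have := hker j; omega
    have : Nontrivial (LinearMap.ker (toE (x j) - 1)) := Module.nontrivial_of_finrank_pos hpos
    obtain ⟨a, ha⟩ := exists_ne (0 : LinearMap.ker (toE (x j) - 1))
    obtain ⟨dd, hdd⟩ := G.exists_dual (u := (a : Fin k → F)) fun e => ha (Subtype.ext e)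
    exact ⟨a, dd, mem_fix.1 a.2, hdd⟩
  choose a dd ha hdd using hfix
  have hai : ∀ j, app (x j)⁻¹ (a j) = a j := fun j => by
    conv_lhs => rw [← ha j]
    rw [app_inv_app]
  set P := Function.update (Function.update a l c₁) m c₂
  set Q := fun e e' : Fin k → F => Function.update (Function.update dd l e) m e'
  have hQ : ∀ (X : Fin (t + 1) → Fin k → F) (e e' : Fin k → F),
      (∀ j, j ≠ l → j ≠ m → G.f (X j) (dd j) = 1) →
      G.B (t + 1) (pr X) (pr (Q e e')) = G.f (X l) e * G.f (X m) e' := fun X e e' hX => by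
    rw [B_pr, Finset.prod_eq_mul l m hlm (fun j _ hj => by simp [Q, hj.1, hj.2, hX j hj.1 hj.2])
      (by simp) (by simp)]
    simp [Q, hlm]
  have ez : app z (pr P) = pr fun j => app (x j) (P j) := by rw [hx]; simp
  have ezi : app z⁻¹ (pr P) = pr fun j => app (x j)⁻¹ (P j) := (app z).injective (by
    rw [app_app_inv, hx]; simp)
  have hv' : ∀ e e', G.B (t + 1) (app (g * kr i 1 (G.sg b (s • v)) * g⁻¹) (pr P)) (pr (Q e e')) =
      (1 - s * s) * (G.f c₁ e * G.f c₂ e') +
      ((s * s + s) / 2) * (G.f (app (x l) c₁) e * G.f (app (x m) c₂) e') +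
      ((s * s - s) / 2) * (G.f (app (x l)⁻¹ c₁) e * G.f (app (x m)⁻¹ c₂) e') := fun e e' => by
    rw [d.comb, ez, ezi]
    simp only [map_add, map_smul, LinearMap.add_apply, LinearMap.smul_apply, smul_eq_mul]
    rw [hQ P _ _ fun j h1 h2 => by simp [P, h1, h2, hdd], hQ _ _ _ fun j h1 h2 => by
      simp [P, h1, h2, ha, hdd], hQ _ _ _ fun j h1 h2 => by
      show G.f (app (x j)⁻¹ (P j)) (dd j) = 1
      rw [show P j = a j by simp [P, h1, h2], hai, hdd]]
    simp [P, hlm]
  rw [hτ] at hv'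
  have hmin := minor (G := G) (fun j => app (C j) (P (τ⁻¹ j))) (Q b₁ b₂) (Q w₁ c₂) l
  have u1 : Function.update (Q b₁ b₂) l (Q w₁ c₂ l) = Q w₁ b₂ := by
    funext j; by_cases hj : j = l
    · subst hj; simp [Q, hlm]
    · simp [Q, hj, Function.update_apply]
  have u2 : Function.update (Q w₁ c₂) l (Q b₁ b₂ l) = Q b₁ c₂ := by
    funext j; by_cases hj : j = l
    · subst hj; simp [Q, hlm]
    · simp [Q, hj, Function.update_apply]
  rw [u1, u2, hv', hv', hv', hv', e₁, e₂, sg_inv, sg_inv, sg_apply h₁.bb hw₁.left,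
    sg_apply h₂.bb hw₂.left, sg_apply h₁.bb hw₁.neg.left, sg_apply h₂.bb hw₂.neg.left] at hmin
  simp only [map_add, map_sub, map_smul, map_neg, LinearMap.add_apply, LinearMap.sub_apply,
    LinearMap.smul_apply, LinearMap.neg_apply, smul_eq_mul, h₁.bb, h₁.bc, h₁.cb, h₂.bb,
    h₂.bc, h₂.cb, h₂.cc, hw₁.left, hw₁.right, hw₁.left', hw₁.right',
    hw₂.left', hw₂.right'] at hmin
  have h2 := G.two
  have : s * (1 - s * s) * G.f w₁ w₁ * G.f w₂ w₂ = 0 := by
    field_simp at hmin
    refine (mul_eq_zero.1 (?_ : (2 : F) ^ 5 * _ = 0)).resolve_left (pow_ne_zero _ G.two)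
    linear_combination hmin
  simp only [mul_eq_zero, hg₁, hg₂, hs0, or_false, false_or] at this
  rcases mul_self_eq_one_iff.1 (sub_eq_zero.1 this).symm with h | h
  exacts [hs1 h, hs2 h]

/-- All positions fixed. -/
lemma fixed_case (p : ℕ) [Fact p.Prime] [CharP F p] (d : CData G ν g i b c v z)
    (hk : 3 ≤ k) (hex : ¬(Fintype.card F = 3 ∧ k = 3)) (hnp : G.NoPlane)
    (hW : k = 3 → ∀ s : F, g * kr i 1 (G.sg b (s • v)) * g⁻¹ ∈ Wr F k (t + 1))
    {C : Fin (t + 1) → GL (Fin k) F} (hmon : Mon z 1 C) (hzp : z ^ p = 1) :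
    ∃ (l : Fin (t + 1)) (b' : Fin k → F), b' ≠ 0 ∧ G.f b' b' = 0 ∧
      ∀ y, app g (T i y b) ∈ Li l b' := by
  classical
  obtain ⟨x, hx, hx'⟩ := exists_unip (by omega) p hmon d.z_iso hzp
  choose hI hxp using hx'
  have hn : ∀ l, IsNilpotent (toE (x l) - 1) := fun l => toE_sub_one_nilpotent p (hxp l)
  have hA : ∀ l : Fin (t + 1), (Aschbacher.pureUnit fun j => x (l.succAbove j)) ∈ G.isoGrp t ∧
      IsNilpotent (toE (Aschbacher.pureUnit fun j => x (l.succAbove j)) - 1) := fun l =>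
    ⟨mon_isI (mon_pureUnit _) fun j => hI _,
      toE_sub_one_nilpotent p (mon_pow_eq_one (mon_pureUnit _) fun j => hxp _)⟩
  have hker : ∀ l, k ≤ finrank F (LinearMap.ker (toE (x l) - 1)) + 2 := fun l => by
    have h1 := ker_kr_le_slot (hA l).1 (hA l).2 l (x l)
    rw [← mon_split hx l] at h1
    have h2 := d.ker_ge.trans h1
    rw [mul_comm] at h2
    have := Nat.le_of_mul_le_mul_left h2 (pow_pos (by omega) t)
    omega
  by_cases htwo : ∃ l m, l ≠ m ∧ x l ≠ 1 ∧ x m ≠ 1
  · obtain ⟨l, m, hlm, hl, hm⟩ := htwo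
    exfalso
    rcases Nat.lt_or_ge k 4 with hk3 | hk4
    · exact two_three_false d (hW (by omega)) (by omega) (fun e => hex ⟨e, by omega⟩) hx hI hn hker hlm hl hm
    obtain ⟨l', rfl⟩ := Fin.exists_succAbove_eq hlm
    cases t with
    | zero => exact l'.elim0
    | succ r =>
    set A := Aschbacher.pureUnit fun j => x (m.succAbove j)
    have hAmon : Mon A 1 fun j => x (m.succAbove j) := mon_pureUnit _
    have hsep : ∀ j, ∃ w, app (x j) w = w ∧ G.f w w ≠ 0 := fun j =>
      exists_fixed_aniso hk4 hnp (hker j)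
    choose w hw hww using hsep
    have hnot := fix_not_le_range (hA m).1 (w := pr fun j => w (m.succAbove j))
      (by rw [hAmon]; exact congrArg pr (funext fun j => by simp [hw]))
      (by rw [B_pr]; exact Finset.prod_ne_zero_iff.2 fun j _ => hww _)
    have h1 := ker_kr_lt (hI m) (hn m) hm m hnot
    rw [← mon_split hx m] at h1
    have h2 : finrank F (LinearMap.ker (toE A - 1)) ≤
        k ^ r * finrank F (LinearMap.ker (toE (x (m.succAbove l')) - 1)) := by
      rw [mon_split hAmon l']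
      exact ker_kr_le_slot (mon_isI (mon_pureUnit _) fun j => hI _)
        (toE_sub_one_nilpotent p (mon_pow_eq_one (mon_pureUnit _) fun j => hxp _)) l' _
    have h3 := ker_le_of_ne_one (hI _) (hn (m.succAbove l')) hl
    have h4 : finrank F (LinearMap.ker (toE A - 1)) ≤ k ^ r * (k - 2) :=
      h2.trans (Nat.mul_le_mul_left _ (by omega))
    have h5 := d.ker_ge.trans_lt (h1.trans_le (Nat.mul_le_mul_left k h4))
    rw [pow_succ] at h5
    ring_nf at h5
    omega
  push Not at htwo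
  by_cases hone : ∃ m, x m ≠ 1
  swap
  · push Not at hone
    exfalso
    refine d.sq_ne_zero ?_
    have : z = 1 := gl_ext_pr fun q => by rw [hx]; simp [hone]
    rw [this, map_one, sub_self, mul_zero]
  obtain ⟨m, hm⟩ := hone
  have hothers : ∀ j, x (m.succAbove j) = 1 := fun j => htwo m _ (Fin.succAbove_ne m j).symm hm
  have hz : z = kr m 1 (x m) := by
    conv_lhs => rw [mon_split hx m]
    congr 1
    refine gl_ext_pr fun q => ?_
    rw [mon_pureUnit]; simp [hothers]
  set n := toE (x m) - 1 with hnd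
  have hzn : ∀ a u, (toE z - 1) (T m a u) = T m a (n u) := fun a u => by
    rw [toE_sub_apply, hz, app_y, ← map_sub]; rfl
  have hzn2 : ∀ a u, ((toE z - 1) * (toE z - 1)) (T m a u) = T m a (n (n u)) := fun a u => by
    rw [Module.End.mul_apply, hzn, hzn]
  obtain ⟨a₀, ha₀⟩ : ∃ a₀, n (n a₀) ≠ 0 := by
    by_contra! hall
    exact d.sq_ne_zero (lin_ext m fun a u => by rw [hzn2, hall]; simp)
  have hr := n.finrank_range_add_finrank_ker
  rw [Module.finrank_fin_fun] at hr
  have hrn : finrank F (LinearMap.range n) ≤ 2 := by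
    have := hker m
    rw [← hnd] at this
    omega
  have hlt : LinearMap.range (n * n) < LinearMap.range n := by
    refine lt_of_le_of_ne (LinearMap.range_comp_le_range n n) fun e => ?_
    obtain ⟨N, hN⟩ := hn m
    have key : ∀ j u, ∃ w, (n ^ (j + 1)) w = n u := by
      intro j
      induction j with
      | zero => exact fun u => ⟨u, by simp⟩
      | succ j ih =>
        intro u
        obtain ⟨w, hw⟩ := (LinearMap.mem_range.1 (e.ge (LinearMap.mem_range_self n u)))
        obtain ⟨w', hw'⟩ := ih w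
        exact ⟨w', by rw [pow_succ', Module.End.mul_apply, hw', ← Module.End.mul_apply, hw]⟩
    obtain ⟨w, hw⟩ := key N a₀
    rw [pow_succ, hnd, hN, zero_mul, LinearMap.zero_apply] at hw
    exact ha₀ (by rw [hnd, ← hw, map_zero])
  have h1 : finrank F (LinearMap.range (n * n)) ≤ 1 := by
    have := Submodule.finrank_lt_finrank_of_lt hlt
    omega
  set b' := n (n a₀)
  have hb' : F ∙ b' = LinearMap.range (n * n) := Submodule.eq_of_le_of_finrank_le
    ((Submodule.span_singleton_le_iff_mem _ _).2 ⟨a₀, rfl⟩) (by rw [finrank_span_singleton ha₀]; omega)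
  have hfix : app (x m) b' = b' := by
    have h3 := LinearMap.congr_fun d.cube (T m (fun _ => 1) a₀)
    simp only [pow_succ, pow_zero, one_mul, Module.End.mul_apply, hzn, LinearMap.zero_apply] at h3
    have hone' : (fun _ => 1 : J k t → F) ≠ 0 := fun e => one_ne_zero
      (congrFun e fun _ => ⟨0, by omega⟩)
    exact sub_eq_zero.1 ((T_eq_zero h3).resolve_left hone')
  refine ⟨m, b', ha₀, fix_perp (hI m) hfix (n a₀), fun a => ?_⟩
  obtain ⟨e, he⟩ := d.line_sq a
  rw [← he]
  refine mem_of_T m _ _ (fun a' u => ?_) e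
  rw [hzn2]
  obtain ⟨r, hr'⟩ := Submodule.mem_span_singleton.1 (hb'.ge (⟨u, rfl⟩ : n (n u) ∈ LinearMap.range (n * n)))
  rw [← hr', map_smul]
  exact Submodule.smul_mem _ _ (T_mem_Li _ _ _)

lemma mon_pow_at {n : ℕ} {z : GL (J k n) F} {σ : Equiv.Perm (Fin n)} {C : Fin n → GL (Fin k) F}
    (h : Mon z σ C) {m : Fin n} (hm : σ⁻¹ m = m) : ∀ j : ℕ, ∃ D, Mon (z ^ j) (σ ^ j) D ∧ D m = C m ^ j
  | 0 => ⟨fun _ => 1, by rw [pow_zero, pow_zero]; exact mon_one, (pow_zero _).symm⟩
  | j + 1 => by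
    obtain ⟨D, hD, e⟩ := mon_pow_at h hm j
    exact ⟨_, by rw [pow_succ', pow_succ']; exact h.mul hD, by rw [hm, e, pow_succ']⟩

/-- In dimension three an element with a fixed position commutes with a Siegel element. -/
lemma exists_comm (p : ℕ) [Fact p.Prime] [CharP F p] (d : CData G ν g i b c v z) (hk : k = 3)
    {σ : Equiv.Perm (Fin (t + 1))} {C : Fin (t + 1) → GL (Fin k) F} (hmon : Mon z σ C)
    (hzp : z ^ p = 1) {m : Fin (t + 1)} (hm : σ m = m) :
    ∃ b' c' w, G.HB b' c' ∧ G.InW b' c' w ∧ G.f w w ≠ 0 ∧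
      z * kr m 1 (G.sg b' w) = kr m 1 (G.sg b' w) * z := by
  classical
  have hmi : σ⁻¹ m = m := by rw [Equiv.Perm.inv_eq_iff_eq, hm]
  obtain ⟨D, hD, eD⟩ := mon_pow_at hmon hmi p
  rw [hzp] at hD
  obtain ⟨ρ, hρ0, hρ⟩ := (G.mon_id (by omega) hD).2 m
  rw [eD] at hρ
  obtain ⟨e, he⟩ := Finite.surjective_of_injective (frobenius_inj F p) ρ⁻¹
  rw [frobenius_def] at he
  have he0 : e ≠ 0 := fun e0 => inv_ne_zero hρ0 (by
    rw [← he, e0, zero_pow (Fact.out : p.Prime).ne_zero])
  obtain ⟨X, hX⟩ := exists_gl_smul (C m) he0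
  have hXp : X ^ p = 1 := gl_ext fun u => by
    rw [app_pow_smul hX, hρ, smul_smul, he, inv_mul_cancel₀ hρ0]
    simp
  obtain ⟨μ, -, hμ⟩ := mon_sim hmon d.z_iso (by omega) m
  have hXI : G.IsI X := by
    obtain ⟨u₀, v₀, huv⟩ := G.exists_ne_f (by omega : 1 ≤ k)
    have hX' : ∀ u v, G.f (app X u) (app X v) = (e * e * μ) * G.f u v := fun u v => by
      simp only [hX, map_smul, LinearMap.smul_apply, smul_eq_mul, hμ]; ring
    have hpow : ∀ (j : ℕ) u v, G.f (app (X ^ j) u) (app (X ^ j) v) = (e * e * μ) ^ j * G.f u v := by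
      intro j
      induction j with
      | zero => intro u v; simp
      | succ j ih =>
        intro u v
        rw [pow_succ X, map_mul, LinearEquiv.mul_apply, LinearEquiv.mul_apply, ih, hX', pow_succ]
        ring
    have : e * e * μ = 1 := frobenius_inj F p (by
      have h := hpow p u₀ v₀
      rw [hXp, huv, mul_one] at h
      simpa [frobenius_def, huv] using h.symm)
    intro u v
    rw [hX', this, one_mul]
  have hCm : ∀ u, app (C m) u = e⁻¹ • app X u := fun u => by rw [hX, inv_smul_smul₀ he0]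
  obtain ⟨b', c', w, h', hw, hgw, hcom⟩ : ∃ b' c' w, G.HB b' c' ∧ G.InW b' c' w ∧
      G.f w w ≠ 0 ∧ ∀ u, app X (app (G.sg b' w) u) = app (G.sg b' w) (app X u) := by
    by_cases hX1 : X = 1
    · exact ⟨b, c, v, d.hb, d.hv, d.hg, fun u => by simp [hX1]⟩
    · obtain ⟨b', c', w, h', hw, hgw, e'⟩ :=
        exists_sg hk hXI (toE_sub_one_nilpotent p hXp) hX1
      exact ⟨b', c', w, h', hw, hgw, fun u => by rw [e']⟩
  refine ⟨b', c', w, h', hw, hgw, gl_ext_pr fun q => ?_⟩
  rw [map_mul, map_mul, LinearEquiv.mul_apply, LinearEquiv.mul_apply, app_kr_one_pr, hmon,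
    hmon, app_kr_one_pr]
  refine congrArg pr (funext fun j => ?_)
  by_cases hj : j = m
  · subst hj; simp only [hmi, Function.update_self, hCm, hcom, map_smul]
  · have : σ⁻¹ j ≠ m := fun e0 => hj (by rw [← hm, ← e0]; simp)
    simp only [Function.update_of_ne hj, Function.update_of_ne this]

/-- An orbit of length three and the whole root group in the wreath group. -/
lemma moved_false (d : CData G ν g i b c v z)
    (hW : ∀ s : F, g * kr i 1 (G.sg b (s • v)) * g⁻¹ ∈ Wr F k (t + 1))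
    (hk : k = 3) (hq : Fintype.card F ≠ 3) {σ : Equiv.Perm (Fin (t + 1))}
    {C : Fin (t + 1) → GL (Fin k) F} (hz3 : z ^ 3 = 1)
    {a b₁ c₁ : Fin (t + 1)} {r : F} (horb : Orb z σ C a b₁ c₁ r) : False := by
  classical
  obtain ⟨s, hs0, hs1, hs2⟩ := exists_card_ne G hq
  obtain ⟨τ, D, hτ⟩ := exists_mon (hW s)
  have hzi : z⁻¹ = z * z :=
    inv_eq_of_mul_eq_one_right (by rw [← mul_assoc]; simpa [pow_succ] using hz3)
  refine orbit_comb_false horb d.z_iso (by omega) (α := 1 - s * s)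
    (β := (s * s + s) / 2) (γ := (s * s - s) / 2) ?_ ?_
    fun p => ⟨fun j => app (D j) (p (τ⁻¹ j)), ?_⟩
  · intro h
    rcases mul_self_eq_one_iff.1 (sub_eq_zero.1 h).symm with h | h
    exacts [hs1 h, hs2 h]
  · refine div_ne_zero (fun h => ?_) G.two
    have : s * (s + 1) = 0 := by linear_combination h
    rcases mul_eq_zero.1 this with h | h
    exacts [hs0 h, hs2 (eq_neg_of_add_eq_zero_left h)]
  · have := d.comb s (pr p)
    rw [hτ, hzi, map_mul, LinearEquiv.mul_apply] at this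
    exact this.symm

/-- The three-power data of a moving element. -/
lemma ret_three {n : ℕ} (G : Sm F k) (hk : 2 ≤ k) {z : GL (J k n) F} {σ : Equiv.Perm (Fin n)}
    {C : Fin n → GL (Fin k) F} (hmon : Mon z σ C) (hz3 : z ^ 3 = 1) (l : Fin n) :
    σ (σ (σ l)) = l ∧ ∃ r : F, r ≠ 0 ∧
      ∀ u, app (C l) (app (C (σ⁻¹ l)) (app (C (σ⁻¹ (σ⁻¹ l))) u)) = r • u := by
  have h3 := hmon.mul (hmon.mul hmon)
  rw [show z * (z * z) = 1 by rw [← mul_assoc, ← hz3]; simp [pow_succ]] at h3
  obtain ⟨hσ, hr⟩ := G.mon_id hk h3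
  obtain ⟨r, hr0, e⟩ := hr l
  exact ⟨by simpa using congrArg (fun τ : Equiv.Perm (Fin n) => τ l) hσ, r, hr0,
    fun u => by simpa using e u⟩

/-- In dimension three some position is fixed. -/
lemma exists_fixed_pos [CharP F 3] (d : CData G ν g i b c v z) (hk : k = 3)
    {σ : Equiv.Perm (Fin (t + 1))} {C : Fin (t + 1) → GL (Fin k) F} (hmon : Mon z σ C)
    (hz3 : z ^ 3 = 1) : ∃ m, σ m = m := by
  by_contra! hfp
  obtain ⟨P, hP, hPP⟩ := exists_fixed_pr (G := G) (by omega) hmon d.z_iso hz3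
    (fun l => (ret_three G (by omega) hmon hz3 l).1) hfp
    (fun l => (ret_three G (by omega) hmon hz3 l).2) d.hg
  have hy : app (kr i 1 (G.sg b v)) (app g⁻¹ P) = app g⁻¹ P := by
    have := congrArg (app g⁻¹) hP
    rw [d.ez] at this
    simpa using this
  obtain ⟨a', ha'⟩ := y_fix_three hk d.hb d.hv d.hg i hy
  have := d.sim (app g⁻¹ P) (app g⁻¹ P)
  rw [app_app_inv] at this
  rw [this, ← ha', LinearMap.flip_apply, B_T, d.hb.bb, mul_zero, mul_zero] at hPP
  exact hPP rfl

end Fixed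

lemma pow_char_eq_one (p : ℕ) [CharP F p] {g z : GL (J k (t + 1)) F} {ν : F} {i : Fin (t + 1)}
    {b c v : Fin k → F} (d : CData G ν g i b c v z) : z ^ p = 1 := by
  have hy : kr i (1 : GL (J k t) F) (G.sg b v) ^ p = 1 := by
    have e : ∀ n : ℕ, kr i (1 : GL (J k t) F) (G.sg b v) ^ n = kr i 1 (G.sg b v ^ n) := fun n => by
      induction n with
      | zero => simp [kr_one]
      | succ n ih => rw [pow_succ, pow_succ, ih, kr_mul, one_mul]
    rw [e, sg_pow d.hb d.hv, CharP.cast_eq_zero, zero_smul, sg_zero, kr_one]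
  rw [d.ez, conj_pow, hy, mul_one, mul_inv_cancel]

lemma eq_three_of_moved (p : ℕ) [Fact p.Prime] [CharP F p] (hk : 2 ≤ k)
    {g z : GL (J k (t + 1)) F} {ν : F} {i : Fin (t + 1)} {b c v : Fin k → F}
    (d : CData G ν g i b c v z) {σ : Equiv.Perm (Fin (t + 1))} {C : Fin (t + 1) → GL (Fin k) F}
    (hmon : Mon z σ C) (hσ1 : σ ≠ 1) : p = 3 := by
  have hpp : p.Prime := Fact.out
  have hσp : σ ^ p = 1 := by
    obtain ⟨D, hD⟩ := hmon.pow p
    rw [pow_char_eq_one p d] at hD
    exact (G.mon_id hk hD).1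
  obtain ⟨a, ha⟩ : ∃ a, σ a ≠ a := by
    by_contra! hall
    exact hσ1 (Equiv.ext hall)
  have hp2 : p ≠ 2 := fun e => by
    subst e
    exact G.two (by exact_mod_cast CharP.cast_eq_zero F 2)
  by_contra hp3
  have hp5 : 4 ≤ p := by have := hpp.two_le; omega
  exact cube_false hk hmon (fun j h1 h2 => orbit_len hpp hσp ha h1 (by omega)) d.cube G

/-- A conjugate in the wreath group: the image of the line is a line. -/
lemma line_core (hk : 3 ≤ k) (hex : ¬(Fintype.card F = 3 ∧ k = 3)) (hnp : G.NoPlane)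
    {g z : GL (J k (t + 1)) F} {ν : F} {i : Fin (t + 1)} {b c v : Fin k → F}
    (d : CData G ν g i b c v z) (hzW : z ∈ Wr F k (t + 1))
    (hW : k = 3 → ∀ s : F, g * kr i 1 (G.sg b (s • v)) * g⁻¹ ∈ Wr F k (t + 1)) :
    ∃ (l : Fin (t + 1)) (b' : Fin k → F), b' ≠ 0 ∧ G.f b' b' = 0 ∧
      ∀ y, app g (T i y b) ∈ Li l b' := by
  classical
  obtain ⟨p, hp⟩ := CharP.exists F
  haveI := hp
  haveI : Fact p.Prime := ⟨(CharP.char_is_prime_or_zero F p).resolve_right
    (CharP.char_ne_zero_of_finite F p)⟩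
  obtain ⟨σ, C, hmon⟩ := exists_mon hzW
  have hzp := pow_char_eq_one p d
  by_cases hσ1 : σ = 1
  · subst hσ1
    exact fixed_case p d hk hex hnp hW hmon hzp
  exfalso
  obtain rfl := eq_three_of_moved p (by omega) d hmon hσ1
  obtain ⟨a, ha⟩ : ∃ a, σ a ≠ a := by
    by_contra! hall
    exact hσ1 (Equiv.ext hall)
  have hσ3 : ∀ l, σ (σ (σ l)) = l := fun l => (ret_three G (by omega) hmon hzp l).1
  obtain ⟨r, hr, hrr⟩ := (ret_three G (by omega) hmon hzp a).2
  have i1 : σ⁻¹ a = σ (σ a) := by rw [Equiv.Perm.inv_eq_iff_eq, hσ3]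
  have i2 : σ⁻¹ (σ (σ a)) = σ a := by simp
  rw [i1, i2] at hrr
  have horb : Orb z σ C a (σ a) (σ (σ a)) r :=
    ⟨hmon, ha.symm, fun e => ha (σ.injective e).symm,
      fun e => ha (by have := congrArg σ e; rw [hσ3] at this; exact this.symm), rfl, rfl, hσ3 a,
      hr, hrr⟩
  rcases Nat.lt_or_ge k 4 with hk3 | hk4
  · exact moved_false d (hW (by omega)) (by omega) (fun e => hex ⟨e, by omega⟩) hzp horb
  · exact orbit_ker_false horb d.z_iso hk4 d.ker_ge

/-- A similitude conjugating the root group of a Siegel element into the wreath group. -/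
theorem line_of_conj_all (hk : 3 ≤ k) (hex : ¬(Fintype.card F = 3 ∧ k = 3)) (hnp : G.NoPlane)
    (g : GL (J k (t + 1)) F) (ν : F) (hν : ν ≠ 0)
    (hg : ∀ x y, G.B (t + 1) (app g x) (app g y) = ν * G.B (t + 1) x y) (i : Fin (t + 1))
    (b c v : Fin k → F) (hb : G.HB b c) (hv : G.InW b c v) (hgv : G.f v v ≠ 0)
    (hW : ∀ s : F, g * kr i 1 (G.sg b (s • v)) * g⁻¹ ∈ Wr F k (t + 1)) :
    ∃ (l : Fin (t + 1)) (b' : Fin k → F), b' ≠ 0 ∧ G.f b' b' = 0 ∧
      ∀ y, app g (T i y b) ∈ Li l b' :=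
  line_core hk hex hnp (z := g * kr i 1 (G.sg b v) * g⁻¹) ⟨hν, hg, hb, hv, hgv, rfl⟩
    (by simpa using hW 1) fun _ => hW

/-- Elements conjugating an anisotropic Siegel element into the wreath group. -/
theorem conjWr_of_lineWr (_ht : 1 ≤ t) (hk : 3 ≤ k) (hex : ¬(Fintype.card F = 3 ∧ k = 3))
    (hnp : G.NoPlane) (hO : G.Ovg M) (hline : G.LineWr M) : G.ConjWr M := by
  classical
  intro g hgM i b c v hb hv hgv hzW
  have hC := cent_of_line hk hO hline
  have d : CData G 1 g i b c v (g * kr i 1 (G.sg b v) * g⁻¹) :=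
    ⟨one_ne_zero, fun x y => by rw [hO.le hgM x y, one_mul], hb, hv, hgv, rfl⟩
  obtain ⟨l, b', hb0, hbb, hmap⟩ := line_core hk hex hnp d hzW fun hk3 s => by
    obtain ⟨p, hp⟩ := CharP.exists F
    haveI := hp
    haveI : Fact p.Prime := ⟨(CharP.char_is_prime_or_zero F p).resolve_right
      (CharP.char_ne_zero_of_finite F p)⟩
    obtain ⟨σ, C, hmon⟩ := exists_mon hzW
    have hzp := pow_char_eq_one p d
    obtain ⟨m, hm⟩ : ∃ m, σ m = m := by
      by_cases hσ1 : σ = 1
      · exact ⟨i, by rw [hσ1]; rfl⟩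
      · obtain rfl := eq_three_of_moved p (by omega) d hmon hσ1
        exact exists_fixed_pos d hk3 hmon hzp
    obtain ⟨b', c', w, h', hw, hgw, hcomm⟩ := exists_comm p d hk3 hmon hzp hm
    exact d.root_mem hgM hO hC h' hw hgw hcomm s
  exact hline g hgM i l b b' hb.ne_left hb.bb hb0 hbb hmap

end Sm

end Cfsg.Agent.C7O
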