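import Cfsg.Agent.Lib.C7O.ConjMono
import Cfsg.Agent.Lib.C7O.Hyps

/-!
# Fixed spaces of unipotent isometries and of their tensor products

* `fix_le`, `fix_lt` : the fixed space of a product is at most the product of the dimensions
* `Sm.ker_kr_le_rest`, `Sm.ker_kr_le_slot`, `Sm.ker_kr_lt` : the same for `kr l A x`
* `Sm.ker_le_of_ne_one`, `Sm.exists_fixed_aniso` : one position
* `Sm.exists_sg` : unipotent isometries in dimension three are Siegel elements
-/

set_option autoImplicit false
set_option linter.unusedSectionVars false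

namespace Cfsg.Agent.C7O

open Matrix Module Cfsg.Agent.Transvect Cfsg.Agent.C7
open Cfsg.Agent.C7F (pr T_pr T_pr' pr_ne_zero toE toE_apply)
open scoped MatrixGroups

attribute [-simp] app_apply

section Abstract

variable {F : Type*} [Field F] {U E V : Type*} [AddCommGroup U] [Module F U] [FiniteDimensional F U]
  [AddCommGroup E] [Module F E] [FiniteDimensional F E]
  [AddCommGroup V] [Module F V] [FiniteDimensional F V]

lemma finrank_le_map_inf (S : Submodule F E) (f : E →ₗ[F] V) :
    finrank F S ≤ finrank F (S.map f) + finrank F (S ⊓ LinearMap.ker f : Submodule F E) := by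
  have h := (f.domRestrict S).finrank_range_add_finrank_ker
  rw [LinearMap.range_domRestrict, LinearMap.ker_domRestrict] at h
  rw [← h, ← Submodule.map_comap_subtype, Submodule.finrank_map_subtype_eq]

lemma exists_ker_range {n : U →ₗ[F] U} (hn : IsNilpotent n) (h0 : n ≠ 0) :
    ∃ w, n w ≠ 0 ∧ n (n w) = 0 := by
  classical
  have hex : ∃ j, ∀ u, (n ^ j) u = 0 := hn.elim fun j hj => ⟨j, fun u => by rw [hj]; rfl⟩
  have hj := Nat.find_spec hex
  set j := Nat.find hex with hjd
  have h2 : 2 ≤ j := by
    by_contra hlt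
    refine h0 (LinearMap.ext fun u => ?_)
    interval_cases j
    · rw [show u = 0 by simpa using hj u]; simp
    · simpa using hj u
  obtain ⟨a, ha⟩ := not_forall.1 (Nat.find_min hex (show j - 1 < j by omega))
  refine ⟨(n ^ (j - 2)) a, ?_, ?_⟩
  · rw [← Module.End.mul_apply, ← pow_succ', show j - 2 + 1 = j - 1 by omega]; exact ha
  · rw [← Module.End.mul_apply n ((n ^ (j - 2))), ← pow_succ', ← Module.End.mul_apply, ← pow_succ',
      show j - 2 + 1 + 1 = j by omega]
    exact hj a

variable (Z : E →ₗ[F] E) (A : V →ₗ[F] V) (c : U →ₗ[F] E →ₗ[F] V)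

/-- Fixed vectors killed by the contractions along `W`. -/
def fixK (W : Submodule F U) : Submodule F E :=
  LinearMap.ker (Z - 1) ⊓ ⨅ u : W, LinearMap.ker (c u)

variable {Z A c}

lemma mem_fixK {W : Submodule F U} {e : E} : e ∈ fixK Z c W ↔ Z e = e ∧ ∀ u ∈ W, c u e = 0 := by
  simp [fixK, Submodule.mem_iInf, sub_eq_zero]

variable {n : U →ₗ[F] U}

lemma fix_le_aux (hn : IsNilpotent n) (hc : ∀ u e, c (u + n u) (Z e) = A (c u e))
    (hsep : ∀ e, (∀ u, c u e = 0) → e = 0) (j : ℕ) : ∀ W : Submodule F U, (∀ u ∈ W, n u ∈ W) →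
      finrank F U ≤ finrank F W + j →
      finrank F (fixK Z c W) ≤ j * finrank F (LinearMap.ker (A - 1)) := by
  classical
  induction j with
  | zero =>
    intro W _ hd
    have hW : W = ⊤ := Submodule.eq_top_of_finrank_eq (le_antisymm (Submodule.finrank_le W) (by omega))
    have : fixK Z c W = ⊥ := eq_bot_iff.2 fun e he =>
      hsep e fun u => (mem_fixK.1 he).2 u (hW ▸ Submodule.mem_top)
    simp [this]
  | succ j ih =>
    intro W hW hd
    by_cases htop : W = ⊤
    · have : fixK Z c W = ⊥ := eq_bot_iff.2 fun e he =>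
        hsep e fun u => (mem_fixK.1 he).2 u (htop ▸ Submodule.mem_top)
      rw [this, finrank_bot]
      exact Nat.zero_le _
    obtain ⟨v, hv⟩ : ∃ v, v ∉ W := by
      by_contra! hall; exact htop (eq_top_iff.2 fun x _ => hall x)
    obtain ⟨N, hN⟩ := hn
    have hex : ∃ i, (n ^ i) v ∈ W := ⟨N, by rw [hN]; exact zero_mem _⟩
    have hi0 : Nat.find hex ≠ 0 := fun e => hv (by simpa [e] using Nat.find_spec hex)
    set u := (n ^ (Nat.find hex - 1)) v
    have hu : u ∉ W := Nat.find_min hex (by omega)
    have hnu : n u ∈ W := by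
      have := Nat.find_spec hex
      rw [show Nat.find hex = Nat.find hex - 1 + 1 by omega, pow_succ', Module.End.mul_apply] at this
      exact this
    have hW' : ∀ x ∈ W ⊔ F ∙ u, n x ∈ W ⊔ F ∙ u := fun x hx => by
      obtain ⟨y, hy, z, hz, rfl⟩ := Submodule.mem_sup.1 hx
      obtain ⟨r, rfl⟩ := Submodule.mem_span_singleton.1 hz
      rw [map_add, map_smul]
      exact Submodule.mem_sup_left (add_mem (hW y hy) (W.smul_mem r hnu))
    have hlt : finrank F W < finrank F (W ⊔ F ∙ u : Submodule F U) :=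
      Submodule.finrank_lt_finrank_of_lt (left_lt_sup.2 fun h => hu
        (h (Submodule.mem_span_singleton_self u)))
    refine (finrank_le_map_inf (fixK Z c W) (c u)).trans ?_
    rw [add_mul, one_mul, add_comm]
    refine add_le_add ((Submodule.finrank_mono fun e he => ?_).trans (ih _ hW' (by omega)))
      (Submodule.finrank_mono ?_)
    · obtain ⟨h1, h2⟩ := mem_fixK.1 he.1
      refine mem_fixK.2 ⟨h1, fun x hx => ?_⟩
      obtain ⟨y, hy, z, hz, rfl⟩ := Submodule.mem_sup.1 hx
      obtain ⟨r, rfl⟩ := Submodule.mem_span_singleton.1 hz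
      simp [h2 y hy, show c u e = 0 from he.2]
    · rintro _ ⟨e, he, rfl⟩
      obtain ⟨h1, h2⟩ := mem_fixK.1 he
      have := hc u e
      rw [h1, map_add, LinearMap.add_apply, h2 _ hnu, add_zero] at this
      simpa [sub_eq_zero] using this.symm

theorem fix_le (hn : IsNilpotent n) (hc : ∀ u e, c (u + n u) (Z e) = A (c u e))
    (hsep : ∀ e, (∀ u, c u e = 0) → e = 0) :
    finrank F (LinearMap.ker (Z - 1)) ≤ finrank F U * finrank F (LinearMap.ker (A - 1)) := by
  refine (Submodule.finrank_mono fun e he => ?_).trans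
    (fix_le_aux hn hc hsep (finrank F U) ⊥ (fun u hu => by simp [(Submodule.mem_bot _).1 hu]) (by simp))
  refine mem_fixK.2 ⟨by simpa [sub_eq_zero] using he, fun u hu => by simp [(Submodule.mem_bot _).1 hu]⟩

/-- Strict bound. -/
theorem fix_lt (hn : IsNilpotent n) (h0 : n ≠ 0) (hc : ∀ u e, c (u + n u) (Z e) = A (c u e))
    (hsep : ∀ e, (∀ u, c u e = 0) → e = 0)
    (hA : ¬ LinearMap.ker (A - 1) ≤ LinearMap.range (A - 1)) :
    finrank F (LinearMap.ker (Z - 1)) < finrank F U * finrank F (LinearMap.ker (A - 1)) := by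
  obtain ⟨w, hw, hw2⟩ := exists_ker_range hn h0
  set u := n w
  have hd1 : finrank F (F ∙ u) = 1 := finrank_span_singleton hw
  have hU : 1 ≤ finrank F U := hd1 ▸ Submodule.finrank_le _
  have h1 := fix_le_aux hn hc hsep (finrank F U - 1) (F ∙ u) (fun x hx => by
    obtain ⟨r, rfl⟩ := Submodule.mem_span_singleton.1 hx
    rw [map_smul, hw2, smul_zero]; exact zero_mem _) (by rw [hd1]; omega)
  have h2 : finrank F ((LinearMap.ker (Z - 1)).map (c u)) ≤
      finrank F (LinearMap.ker (A - 1) ⊓ LinearMap.range (A - 1) : Submodule F V) := by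
    refine Submodule.finrank_mono ?_
    rintro _ ⟨e, he, rfl⟩
    have he' : Z e = e := by simpa [sub_eq_zero] using he
    refine ⟨?_, c w e, ?_⟩
    · have := hc u e
      rw [he', hw2, add_zero] at this
      simpa [sub_eq_zero] using this.symm
    · have := hc w e
      rw [he', map_add, LinearMap.add_apply] at this
      rw [LinearMap.sub_apply, Module.End.one_apply, ← this, add_sub_cancel_left]
  have h3 : (LinearMap.ker (Z - 1) ⊓ LinearMap.ker (c u)) ≤ fixK Z c (F ∙ u) := fun e he =>
    mem_fixK.2 ⟨by simpa [sub_eq_zero] using he.1, fun x hx => by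
      obtain ⟨r, rfl⟩ := Submodule.mem_span_singleton.1 hx
      simp [show c u e = 0 from he.2]⟩
  have h4 : finrank F (LinearMap.ker (A - 1) ⊓ LinearMap.range (A - 1) : Submodule F V) <
      finrank F (LinearMap.ker (A - 1)) :=
    Submodule.finrank_lt_finrank_of_lt (inf_lt_left.2 hA)
  refine lt_of_le_of_lt ((finrank_le_map_inf _ (c u)).trans
    (add_le_add h2 ((Submodule.finrank_mono h3).trans h1))) ?_
  obtain ⟨U', hU'⟩ : ∃ U', finrank F U = U' + 1 := ⟨finrank F U - 1, by omega⟩
  rw [hU', Nat.add_sub_cancel, add_mul, one_mul, add_comm]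
  exact Nat.add_lt_add_left h4 _

end Abstract

variable {F : Type*} [Field F] [Fintype F] {k n t : ℕ}

lemma toE_sub_apply {ι : Type} [Fintype ι] [DecidableEq ι] (x : GL ι F) (u : ι → F) :
    (toE x - 1) u = app x u - u := rfl

lemma mem_fix {ι : Type} [Fintype ι] [DecidableEq ι] {x : GL ι F} {u : ι → F} :
    u ∈ LinearMap.ker (toE x - 1) ↔ app x u = u := by
  rw [LinearMap.mem_ker, toE_sub_apply, sub_eq_zero]

lemma toE_sub_ne_zero {ι : Type} [Fintype ι] [DecidableEq ι] {x : GL ι F} (h : x ≠ 1) :
    toE x - 1 ≠ 0 := fun e => h (gl_ext fun u => by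
  have := LinearMap.congr_fun e u
  rw [toE_sub_apply, LinearMap.zero_apply, sub_eq_zero] at this
  simpa using this)

namespace Sm

variable {G : Sm F k}

/-! ### products -/

lemma ct_kr {x : GL (Fin k) F} (hx : G.IsI x) (l : Fin (t + 1)) (A : GL (J k t) F) (u : Fin k → F)
    (e : J k (t + 1) → F) :
    ct l (G.f (app x u)) (app (kr l A x) e) = app A (ct l (G.f u) e) :=
  LinearMap.congr_fun (lin_ext l
    (f := (ct l (G.f (app x u))).comp (app (kr l A x)).toLinearMap)
    (g := (app A).toLinearMap.comp (ct l (G.f u))) fun a v => by simp [app_kr, hx u v]) e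

lemma lc_kr {A : GL (J k t) F} (hA : A ∈ G.isoGrp t) (l : Fin (t + 1)) (x : GL (Fin k) F)
    (u : J k t → F) (e : J k (t + 1) → F) :
    lc l (G.B t (app A u)) (app (kr l A x) e) = app x (lc l (G.B t u) e) :=
  LinearMap.congr_fun (lin_ext l
    (f := (lc l (G.B t (app A u))).comp (app (kr l A x)).toLinearMap)
    (g := (app x).toLinearMap.comp (lc l (G.B t u))) fun a v => by simp [app_kr, hA u a]) e

variable (G) in
/-- The contraction of a position, linear in the vector. -/
noncomputable def ctf (l : Fin (t + 1)) :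
    (Fin k → F) →ₗ[F] (J k (t + 1) → F) →ₗ[F] (J k t → F) where
  toFun u := ct l (G.f u)
  map_add' u v := LinearMap.ext fun e => by simp [ct_add]
  map_smul' r u := LinearMap.ext fun e => by simp [ct_smul]

variable (G) in
/-- The contraction of the other positions, linear in the vector. -/
noncomputable def lcf (l : Fin (t + 1)) :
    (J k t → F) →ₗ[F] (J k (t + 1) → F) →ₗ[F] (Fin k → F) where
  toFun u := lc l (G.B t u)
  map_add' u v := lin_ext l fun a w => by simp [add_smul]
  map_smul' r u := lin_ext l fun a w => by simp [smul_smul]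

lemma ker_kr_le_rest {x : GL (Fin k) F} (hx : G.IsI x) (hn : IsNilpotent (toE x - 1))
    (l : Fin (t + 1)) (A : GL (J k t) F) :
    finrank F (LinearMap.ker (toE (kr l A x) - 1)) ≤
      k * finrank F (LinearMap.ker (toE A - 1)) := by
  have := fix_le (Z := toE (kr l A x)) (A := toE A) (c := G.ctf l) hn
    (fun u e => by
      rw [toE_sub_apply, add_sub_cancel]
      exact ct_kr hx l A u e)
    (fun e he => G.ct_sep (i := l) (y := 0) fun a => (he a).trans (map_zero _).symm)
  simpa using this

lemma ker_kr_le_slot {A : GL (J k t) F} (hA : A ∈ G.isoGrp t) (hn : IsNilpotent (toE A - 1))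
    (l : Fin (t + 1)) (x : GL (Fin k) F) :
    finrank F (LinearMap.ker (toE (kr l A x) - 1)) ≤
      k ^ t * finrank F (LinearMap.ker (toE x - 1)) := by
  have := fix_le (Z := toE (kr l A x)) (A := toE x) (c := G.lcf l) hn
    (fun u e => by
      rw [toE_sub_apply, add_sub_cancel]
      exact lc_kr hA l x u e)
    (fun e he => G.ct_sep (i := l) (y := 0) fun a => by
      rw [map_zero]
      refine G.nd_B _ fun y => ?_
      rw [G.B_comm, ← lc_ct, show lc l (G.B t y) e = 0 from he y, map_zero])
  simpa using this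

lemma ker_kr_lt {x : GL (Fin k) F} (hx : G.IsI x) (hn : IsNilpotent (toE x - 1)) (h1 : x ≠ 1)
    (l : Fin (t + 1)) {A : GL (J k t) F}
    (hA : ¬ LinearMap.ker (toE A - 1) ≤ LinearMap.range (toE A - 1)) :
    finrank F (LinearMap.ker (toE (kr l A x) - 1)) <
      k * finrank F (LinearMap.ker (toE A - 1)) := by
  have := fix_lt (Z := toE (kr l A x)) (A := toE A) (c := G.ctf l) hn (toE_sub_ne_zero h1)
    (fun u e => by
      rw [toE_sub_apply, add_sub_cancel]
      exact ct_kr hx l A u e)
    (fun e he => G.ct_sep (i := l) (y := 0) fun a => (he a).trans (map_zero _).symm) hA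
  simpa using this

lemma fix_not_le_range {A : GL (J k t) F} (hA : A ∈ G.isoGrp t) {w : J k t → F}
    (hw : app A w = w) (hww : G.B t w w ≠ 0) :
    ¬ LinearMap.ker (toE A - 1) ≤ LinearMap.range (toE A - 1) := fun h => by
  obtain ⟨e, he⟩ := h (mem_fix.2 hw)
  rw [toE_sub_apply] at he
  refine hww ?_
  conv_lhs => arg 2; rw [← he]
  rw [map_sub]
  have := hA w e
  rw [hw] at this
  rw [this, sub_self]

/-! ### one position -/

lemma fix_perp {x : GL (Fin k) F} (hx : G.IsI x) {w : Fin k → F} (hw : app x w = w) (a : Fin k → F) :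
    G.f ((toE x - 1) a) w = 0 := by
  rw [toE_sub_apply, map_sub, LinearMap.sub_apply]
  conv_lhs => arg 1; rw [← hw]
  rw [hx, sub_self]

/-- The fixed space of a non-trivial unipotent isometry has codimension at least two. -/
lemma ker_le_of_ne_one {x : GL (Fin k) F} (hx : G.IsI x) (hn : IsNilpotent (toE x - 1)) (h1 : x ≠ 1) :
    finrank F (LinearMap.ker (toE x - 1)) + 2 ≤ k := by
  set n := toE x - 1 with hnd
  by_contra hlt
  have hr := n.finrank_range_add_finrank_ker
  rw [Module.finrank_fin_fun] at hr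
  obtain ⟨a₀, ha₀, ha₂⟩ := exists_ker_range hn (toE_sub_ne_zero h1)
  set u := n a₀
  have hrange : F ∙ u = LinearMap.range n :=
    Submodule.eq_of_le_of_finrank_le
      ((Submodule.span_singleton_le_iff_mem _ _).2 (LinearMap.mem_range_self _ _))
      (by rw [finrank_span_singleton ha₀]; omega)
  have hufix : app x u = u := mem_fix.1 ha₂
  have huu : G.f u u = 0 := fix_perp hx hufix a₀
  have key : ∀ a, n a = 0 ∨ G.f u a = 0 := fun a => by
    obtain ⟨r, hr⟩ : ∃ r : F, r • u = n a :=
      Submodule.mem_span_singleton.1 (hrange ▸ LinearMap.mem_range_self n a)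
    have e := hx a a
    have hxa : app x a = a + r • u := by rw [hr, hnd, toE_sub_apply, add_sub_cancel]
    rw [hxa] at e
    simp only [map_add, map_smul, LinearMap.add_apply, LinearMap.smul_apply, smul_eq_mul, huu,
      G.sym a u, mul_zero, add_zero] at e
    have e2 : r * G.f u a = 0 := by
      have := G.two
      refine (mul_eq_zero.1 (?_ : (2 : F) * (r * G.f u a) = 0)).resolve_left this
      linear_combination e
    rcases mul_eq_zero.1 e2 with h | h
    · exact .inl (by rw [← hr, h, zero_smul])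
    · exact .inr h
  obtain ⟨a₁, ha₁⟩ := G.exists_dual ha₀
  have ha₁' : n a₁ = 0 := (key a₁).resolve_right (by rw [ha₁]; exact one_ne_zero)
  have ha₀' : G.f u a₀ = 0 := (key a₀).resolve_left ha₀
  rcases key (a₀ + a₁) with h | h
  · exact ha₀ (by rwa [map_add, ha₁', add_zero] at h)
  · rw [map_add, ha₀', ha₁, zero_add] at h
    exact one_ne_zero h

/-- A fixed anisotropic vector. -/
lemma exists_fixed_aniso {x : GL (Fin k) F} (hk : 4 ≤ k) (hnp : G.NoPlane)
    (hker : k ≤ finrank F (LinearMap.ker (toE x - 1)) + 2) :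
    ∃ w, app x w = w ∧ G.f w w ≠ 0 := by
  classical
  by_contra! hall
  set S := LinearMap.ker (toE x - 1)
  have hS : ∀ u ∈ S, ∀ v ∈ S, G.f u v = 0 := fun u hu v hv => by
    have := hall (u + v) (mem_fix.1 (S.add_mem hu hv))
    rw [G.f_add_self, hall u (mem_fix.1 hu), hall v (mem_fix.1 hv), zero_add, add_zero] at this
    exact (mul_eq_zero.1 this).resolve_left G.two
  have hle : S.map G.f ≤ S.dualAnnihilator := by
    rintro _ ⟨u, hu, rfl⟩
    exact (Submodule.mem_dualAnnihilator _).2 fun v hv => hS u hu v hv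
  have h1 := Submodule.finrank_mono hle
  rw [← (Submodule.equivMapOfInjective G.f G.f_inj S).finrank_eq] at h1
  have h2 := Subspace.finrank_add_finrank_dualAnnihilator_eq S
  rw [Module.finrank_fin_fun] at h2
  have h3 : finrank F S + finrank F S ≤ k := (Nat.add_le_add_left h1 _).trans_eq h2
  have hk4 : k = 4 := by omega
  let bS := Module.finBasis F S
  have hd : finrank F S = 2 := by omega
  obtain ⟨r, hr⟩ := hnp hk4 (bS ⟨0, by omega⟩ : Fin k → F) (bS ⟨1, by omega⟩ : Fin k → F)
    (hS _ (Subtype.mem _) _ (Subtype.mem _)) (hS _ (Subtype.mem _) _ (Subtype.mem _))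
    (hS _ (Subtype.mem _) _ (Subtype.mem _))
    (fun e => bS.ne_zero _ (Subtype.ext e))
  have e : bS ⟨1, by omega⟩ = r • bS ⟨0, by omega⟩ := Subtype.ext hr
  have := congrArg (fun v => bS.repr v ⟨1, by omega⟩) e
  simp at this

/-- Unipotent isometries in dimension three. -/
lemma exists_sg {x : GL (Fin k) F} (hk : k = 3) (hx : G.IsI x) (hn : IsNilpotent (toE x - 1))
    (h1 : x ≠ 1) :
    ∃ b c w, G.HB b c ∧ G.InW b c w ∧ G.f w w ≠ 0 ∧ x = G.sg b w := by
  obtain ⟨a₀, ha₀, ha₂⟩ := exists_ker_range hn (toE_sub_ne_zero h1)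
  set b := (toE x - 1) a₀
  have hb : app x b = b := mem_fix.1 ha₂
  obtain ⟨c, h⟩ := exists_hb ha₀ (fix_perp hx hb a₀)
  obtain ⟨e, he, heg, -, hsum⟩ := exists_basis h (by omega)
  have hlt : 0 < k - 2 := by omega
  set v := e ⟨0, hlt⟩
  have hv : G.InW b c v := he _
  have hgv : G.f v v ≠ 0 := heg _
  have hdec : ∀ z, z = G.f c z • b + G.f b z • c + (G.f v z / G.f v v) • v := fun z => by
    conv_lhs => rw [wp_decomp G b c z, hsum]
    rw [Finset.sum_eq_single (⟨0, hlt⟩ : Fin (k - 2)) (fun j _ hj => absurd (Fin.ext (by omega)) hj)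
      (by simp)]
  have hfb : ∀ z, G.f b (app x z) = G.f b z := fun z => by conv_lhs => rw [← hb]; rw [hx]
  set r := G.f v (app x c) / G.f v v
  set α := G.f c (app x c)
  have hxc : app x c = α • b + c + r • v := by
    conv_lhs => rw [hdec (app x c)]
    rw [hfb, h.bc, one_smul]
  have h2 := G.two
  have hα : 2 * α + r * r * G.f v v = 0 := by
    have := hx c c
    rw [hxc] at this
    simp only [map_add, map_smul, LinearMap.add_apply, LinearMap.smul_apply, smul_eq_mul, h.bb,
      h.bc, h.cb, h.cc, hv.left, hv.right, hv.left', hv.right'] at this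
    linear_combination this
  set s := G.f c (app x v)
  set ε := G.f v (app x v) / G.f v v
  have hxv : app x v = s • b + ε • v := by
    conv_lhs => rw [hdec (app x v)]
    rw [hfb, hv.left, zero_smul, add_zero]
  have hnb : (toE x - 1) b = 0 := ha₂
  have hpow : ∀ j : ℕ, ∃ a : F, ((toE x - 1) ^ j) v = a • b + (ε - 1) ^ j • v := by
    intro j
    induction j with
    | zero => exact ⟨0, by simp⟩
    | succ j ih =>
      obtain ⟨a, ha⟩ := ih
      refine ⟨(ε - 1) ^ j * s, ?_⟩
      rw [pow_succ' (toE x - 1), Module.End.mul_apply, ha, map_add, map_smul, map_smul, hnb,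
        toE_sub_apply, hxv]
      match_scalars <;> ring
  have hε : ε = 1 := by
    obtain ⟨N, hN⟩ := hn
    obtain ⟨a, ha⟩ := hpow N
    have := congrArg (G.f v) ha
    rw [hN, LinearMap.zero_apply, map_zero, map_add, map_smul, map_smul, hv.left', smul_zero,
      zero_add, smul_eq_mul, eq_comm, mul_eq_zero] at this
    exact sub_eq_zero.1 (eq_zero_of_pow_eq_zero (this.resolve_right hgv))
  have hs : s = -(r * G.f v v) := by
    have := hx c v
    rw [hxc, hxv, hε] at this
    simp only [map_add, map_smul, LinearMap.add_apply, LinearMap.smul_apply, smul_eq_mul, h.bb,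
      h.cb, hv.left, hv.right, hv.left'] at this
    linear_combination this
  clear_value r α s ε
  have heq : ∀ z, app x z = app (G.sg b (-r • v)) z := fun z => by
    rw [hdec z]
    simp only [map_add, map_smul]
    rw [hb, hxc, hxv, sg_apply h.bb (hv.smul _).1, sg_apply h.bb (hv.smul _).1,
      sg_apply h.bb (hv.smul _).1, hε, hs]
    simp only [map_smul, LinearMap.smul_apply, smul_eq_mul, h.bb, h.bc, hv.left, hv.left',
      hv.right']
    match_scalars <;> field_simp
    all_goals first
      | linear_combination G.f b z * hα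
      | linear_combination (0 : F) * hα
  refine ⟨b, c, -r • v, h, hv.smul _, ?_, gl_ext heq⟩
  simp only [map_smul, LinearMap.smul_apply, smul_eq_mul]
  refine mul_ne_zero ?_ (mul_ne_zero ?_ hgv) <;>
  · refine neg_ne_zero.2 fun hr0 => h1 (gl_ext fun z => ?_)
    rw [heq, hr0, neg_zero, zero_smul, sg_zero]

end Sm

end Cfsg.Agent.C7O
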