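import Cfsg.Agent.Lib.C7O.Types

/-!
# Monomial form of wreath elements

* `Mon z σ C` : `z` sends `pr p` to `pr (l ↦ C l (p (σ⁻¹ l)))`
* `exists_mon`, `mon_id` : existence and rigidity
* `Sm.mon_sim` : components of an isometry are similitudes
* `Sm.exists_unip` : normalised components of an element of order `p` fixing all positions
-/

set_option autoImplicit false
set_option linter.unusedSectionVars false

namespace Cfsg.Agent.C7O

open Matrix Module Cfsg.Agent.Transvect Cfsg.Agent.C7
open Cfsg.Agent.C7F (pr T_pr T_pr' pr_ne_zero toE toE_apply)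
open scoped MatrixGroups

attribute [-simp] app_apply

variable {F : Type*} [Field F] [Fintype F] {k n t : ℕ}

lemma pr_smul (r : Fin n → F) (p : Fin n → Fin k → F) :
    pr (fun l => r l • p l) = (∏ l, r l) • pr p := by
  funext g
  simp [C7F.pr, Finset.prod_mul_distrib]

lemma exists_gl_smul {ι : Type} [Fintype ι] [DecidableEq ι] (C : GL ι F) {r : F} (hr : r ≠ 0) :
    ∃ X : GL ι F, ∀ u, app X u = r • app C u :=
  exists_gl (r • (app C).toLinearMap) fun _ _ e =>
    (app C).injective (smul_right_injective _ hr e)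

lemma app_pow_smul {ι : Type} [Fintype ι] [DecidableEq ι] {C X : GL ι F} {r : F}
    (h : ∀ u, app X u = r • app C u) (m : ℕ) (u : ι → F) :
    app (X ^ m) u = r ^ m • app (C ^ m) u := by
  induction m generalizing u with
  | zero => simp
  | succ m ih =>
    rw [pow_succ, pow_succ C, map_mul, map_mul, LinearEquiv.mul_apply, LinearEquiv.mul_apply, h,
      map_smul, ih, smul_smul, pow_succ, mul_comm r]

/-- `z` is monomial with permutation `σ` and components `C`. -/
def Mon (z : GL (J k n) F) (σ : Equiv.Perm (Fin n)) (C : Fin n → GL (Fin k) F) : Prop :=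
  ∀ p, app z (pr p) = pr fun l => app (C l) (p (σ⁻¹ l))

lemma Mon.mul {z z' : GL (J k n) F} {σ σ' : Equiv.Perm (Fin n)} {C C' : Fin n → GL (Fin k) F}
    (h : Mon z σ C) (h' : Mon z' σ' C') : Mon (z * z') (σ * σ') fun l => C l * C' (σ⁻¹ l) :=
  fun p => by
    rw [map_mul, LinearEquiv.mul_apply, h', h]
    simp [_root_.mul_inv_rev, Equiv.Perm.mul_apply]

lemma mon_one : Mon (1 : GL (J k n) F) 1 fun _ => 1 := fun p => by simp

lemma Mon.pow {z : GL (J k n) F} {σ : Equiv.Perm (Fin n)} {C : Fin n → GL (Fin k) F}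
    (h : Mon z σ C) : ∀ m : ℕ, ∃ D, Mon (z ^ m) (σ ^ m) D
  | 0 => ⟨fun _ => 1, by rw [pow_zero, pow_zero]; exact mon_one⟩
  | m + 1 => by
    obtain ⟨D, hD⟩ := h.pow m
    exact ⟨_, by rw [pow_succ', pow_succ']; exact h.mul hD⟩

lemma Mon.pow_fix {z : GL (J k n) F} {C : Fin n → GL (Fin k) F}
    (h : Mon z 1 C) : ∀ m : ℕ, Mon (z ^ m) 1 fun l => C l ^ m
  | 0 => by simpa using mon_one (F := F) (k := k) (n := n)
  | m + 1 => by simpa [pow_succ'] using h.mul (h.pow_fix m)

lemma mon_pureUnit (C : Fin n → GL (Fin k) F) : Mon (Aschbacher.pureUnit C) 1 C := fun p => by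
  funext f
  simp only [app_apply, Matrix.mulVec, dotProduct, C7F.pr, inv_one, Equiv.Perm.coe_one, id_eq]
  rw [Fintype.prod_sum]
  exact Finset.sum_congr rfl fun g _ => by
    show (∏ i, (C i : Matrix (Fin k) (Fin k) F) (f i) (g i)) * _ = _
    rw [← Finset.prod_mul_distrib]

/-- Wreath elements are monomial. -/
lemma exists_mon {z : GL (J k n) F} (hz : z ∈ Wr F k n) : ∃ σ C, Mon z σ C := by
  have : Finite (GL (J k n) F) := Finite.of_injective Units.val Units.val_injective
  rw [← Subgroup.mem_toSubmonoid, Wr, Cfsg.Geo.tensorWreathStandard,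
    Subgroup.closure_toSubmonoid_of_finite] at hz
  induction hz using Submonoid.closure_induction with
  | mem z hz =>
    rcases hz with ⟨gs, hgs⟩ | ⟨σ, hσ⟩
    · refine ⟨1, gs, fun p => ?_⟩
      rw [show z = Aschbacher.pureUnit gs from Units.ext (Matrix.ext fun f g => hgs f g)]
      exact mon_pureUnit gs p
    · refine ⟨σ, fun _ => 1, fun p => ?_⟩
      rw [app_perm hσ]
      funext f
      simp only [C7F.pr, map_one, LinearEquiv.coe_one, id_eq, Function.comp_apply]
      exact Fintype.prod_equiv σ _ _ fun l => by simp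
  | one => exact ⟨1, fun _ => 1, mon_one⟩
  | mul g h _ _ hg hh =>
    obtain ⟨σ, C, hC⟩ := hg
    obtain ⟨σ', C', hC'⟩ := hh
    exact ⟨_, _, hC.mul hC'⟩

namespace Sm

variable {G : Sm F k}

lemma exists_ne_f (G : Sm F k) (hk : 1 ≤ k) : ∃ a b, G.f a b = 1 := by
  have : Nonempty (Fin k) := ⟨⟨0, by omega⟩⟩
  obtain ⟨a, ha⟩ := exists_ne (0 : Fin k → F)
  exact ⟨a, G.exists_dual ha⟩

/-- A vector separating two lines. -/
lemma exists_sep (G : Sm F k) {a x : Fin k → F} (hx : x ∉ F ∙ a) :
    ∃ w, G.f a w = 0 ∧ G.f x w ≠ 0 := by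
  obtain ⟨φ, h1, h2⟩ := Submodule.exists_le_ker_of_notMem hx
  obtain ⟨w, hw⟩ := G.exists_rep φ
  exact ⟨w, by rw [G.sym, hw]; exact h2 (Submodule.mem_span_singleton_self a),
    by rw [G.sym, hw]; exact h1⟩

lemma line_of_pr (G : Sm F k) {p q : Fin n → Fin k → F} (h : pr p = pr q) (hp : ∀ l, p l ≠ 0)
    (l : Fin n) : q l ∈ F ∙ p l := by
  classical
  by_contra hc
  have hq : ∀ j, q j ≠ 0 := fun j e => pr_ne_zero hp (h.trans (C7F.pr_eq_zero j e))
  obtain ⟨w, h1, h2⟩ := G.exists_sep hc
  choose v hv using fun j => G.exists_dual (hq j)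
  have e := congrArg (fun x => G.B n x (pr (Function.update v l w))) h
  simp only [B_pr] at e
  rw [Finset.prod_eq_zero (Finset.mem_univ l) (by simpa using h1)] at e
  refine Finset.prod_ne_zero_iff.2 (fun j _ => ?_) e.symm
  rcases eq_or_ne j l with rfl | hj
  · simpa using h2
  · simp [hj, hv j]

/-- Rigidity. -/
lemma mon_id (G : Sm F k) (hk : 2 ≤ k) {τ : Equiv.Perm (Fin n)} {D : Fin n → GL (Fin k) F}
    (h : Mon (1 : GL (J k n) F) τ D) :
    τ = 1 ∧ ∀ l, ∃ c : F, c ≠ 0 ∧ ∀ u, app (D l) u = c • u := by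
  classical
  have h' : ∀ p : Fin n → Fin k → F, (∀ l, p l ≠ 0) → ∀ l, app (D l) (p (τ⁻¹ l)) ∈ F ∙ p l := fun p hp =>
    G.line_of_pr (by rw [← h p]; simp) hp
  have : Nonempty (Fin k) := ⟨⟨0, by omega⟩⟩
  obtain ⟨u, hu⟩ := exists_ne (0 : Fin k → F)
  have hτ : τ = 1 := inv_eq_one.1 (Equiv.ext fun l => by
    by_contra hl
    obtain ⟨v, hv⟩ : ∃ v, v ∉ F ∙ u := by
      by_contra! hall
      have h1 := Submodule.finrank_mono (show (⊤ : Submodule F (Fin k → F)) ≤ F ∙ u from
        fun x _ => hall x)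
      rw [finrank_top, Module.finrank_fin_fun, finrank_span_singleton hu] at h1
      omega
    have hv0 : v ≠ 0 := fun e => hv (e ▸ Submodule.zero_mem _)
    have := h' (Function.update (fun _ => u) (τ⁻¹ l) (app (D l)⁻¹ v)) (fun j => by
      rcases eq_or_ne j (τ⁻¹ l) with rfl | hj
      · rw [Function.update_self]
        exact fun e => hv0 ((app (D l)⁻¹).map_eq_zero_iff.1 e)
      · rw [Function.update_of_ne hj]; exact hu) l
    have hl' : l ≠ τ⁻¹ l := fun e => hl e.symm
    rw [Function.update_self, app_app_inv, Function.update_of_ne hl'] at this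
    exact hv this)
  subst hτ
  refine ⟨rfl, fun l => ?_⟩
  obtain ⟨c, hc⟩ := C4.scalar_of_lines (app (D l)).toLinearMap fun q => by
    rcases eq_or_ne q 0 with rfl | hq
    · simp
    · simpa using h' (fun _ => q) (fun _ => hq) l
  have e : ∀ v, app (D l) v = c • v := fun v => by simpa using LinearMap.congr_fun hc v
  exact ⟨c, fun e0 => hu ((app (D l)).map_eq_zero_iff.1 (by rw [e, e0, zero_smul])), e⟩

lemma mon_sim {z : GL (J k n) F} {σ : Equiv.Perm (Fin n)} {C : Fin n → GL (Fin k) F}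
    (h : Mon z σ C) (hiso : z ∈ G.isoGrp n) (hk : 1 ≤ k) (l : Fin n) :
    ∃ μ : F, μ ≠ 0 ∧ ∀ u v, G.f (app (C l) u) (app (C l) v) = μ * G.f u v := by
  classical
  obtain ⟨a, b, hab⟩ := G.exists_ne_f hk
  set P := ∏ j ∈ Finset.univ.erase l, G.f (app (C j) a) (app (C j) b)
  have key : ∀ u v, G.f (app (C l) u) (app (C l) v) * P = G.f u v := fun u v => by
    have e := hiso (pr (Function.update (fun _ => a) (σ⁻¹ l) u))
      (pr (Function.update (fun _ => b) (σ⁻¹ l) v))
    rw [h, h, B_pr, B_pr] at e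
    have e' : ∏ i, G.f (Function.update (fun _ => a) (σ⁻¹ l) u i)
        (Function.update (fun _ => b) (σ⁻¹ l) v i) = G.f u v := by
      rw [Finset.prod_eq_single (σ⁻¹ l) (fun j _ hj => by
        rw [Function.update_of_ne hj, Function.update_of_ne hj, hab]) (by simp)]
      simp only [Function.update_self]
    rw [e', ← Finset.mul_prod_erase _ _ (Finset.mem_univ l)] at e
    simp only [Function.update_self] at e
    rw [← e]
    congr 1
    refine Finset.prod_congr rfl fun j hj => ?_
    have hne : σ⁻¹ j ≠ σ⁻¹ l := (Equiv.injective _).ne (Finset.ne_of_mem_erase hj)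
    rw [Function.update_of_ne hne, Function.update_of_ne hne]
  have hP : P ≠ 0 := fun e => by simpa [e, hab] using key a b
  exact ⟨P⁻¹, inv_ne_zero hP, fun u v => by rw [← key u v]; field_simp⟩

/-- An element whose `p`-th power is one, fixing all positions. -/
lemma exists_unip {z : GL (J k n) F} {C : Fin n → GL (Fin k) F} (hk : 2 ≤ k)
    (p : ℕ) [Fact p.Prime] [CharP F p]
    (h : Mon z 1 C) (hiso : z ∈ G.isoGrp n) (hzp : z ^ p = 1) :
    ∃ x : Fin n → GL (Fin k) F, Mon z 1 x ∧ ∀ l, G.IsI (x l) ∧ x l ^ p = 1 := by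
  classical
  have hp0 : p ≠ 0 := (Fact.out : p.Prime).ne_zero
  have hD : Mon (1 : GL (J k n) F) 1 fun l => C l ^ p := hzp ▸ h.pow_fix p
  obtain ⟨-, hD'⟩ := G.mon_id hk hD
  choose e he0 he using hD'
  have hsurj : Function.Surjective (fun r : F => r ^ p) :=
    Finite.surjective_of_injective (frobenius_inj F p)
  choose r hr using fun l => hsurj (e l)⁻¹
  replace hr : ∀ l, r l ^ p = (e l)⁻¹ := hr
  have hr0 : ∀ l, r l ≠ 0 := fun l e0 => inv_ne_zero (he0 l) (by rw [← hr l, e0, zero_pow hp0])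
  choose x hx using fun l => exists_gl_smul (C l) (hr0 l)
  obtain ⟨a, b, hab⟩ := G.exists_ne_f (by omega : 1 ≤ k)
  have hprod : ∏ l, e l = 1 := by
    have ha : a ≠ 0 := fun e0 => by simp [e0] at hab
    have e1 := hD (fun _ => a)
    simp only [map_one, LinearEquiv.coe_one, id_eq, he, pr_smul] at e1
    refine smul_left_injective F (pr_ne_zero (p := fun _ : Fin n => a) fun _ => ha) ?_
    simpa using e1.symm
  have hρ : ∏ l, r l = 1 := frobenius_inj F p (by
    simp only [frobenius_def, one_pow]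
    rw [← Finset.prod_pow]
    simp [hr, Finset.prod_inv_distrib, hprod])
  have hxm : Mon z 1 x := fun q => by
    simp only [hx, pr_smul, hρ, one_smul]
    exact h q
  have hxp : ∀ l, x l ^ p = 1 := fun l => gl_ext fun u => by
    rw [app_pow_smul (hx l), he, smul_smul, hr, inv_mul_cancel₀ (he0 l)]
    simp
  refine ⟨x, hxm, fun l => ⟨?_, hxp l⟩⟩
  obtain ⟨μ, -, hμ⟩ := mon_sim hxm hiso (by omega) l
  have hpow : ∀ m u v, G.f (app (x l ^ m) u) (app (x l ^ m) v) = μ ^ m * G.f u v := by
    intro m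
    induction m with
    | zero => intro u v; simp
    | succ m ih =>
      intro u v
      rw [pow_succ (x l), map_mul, LinearEquiv.mul_apply, LinearEquiv.mul_apply, ih, hμ, pow_succ]
      ring
  have hμ1 : μ = 1 := frobenius_inj F p (by
    have := hpow p a b
    rw [hxp, hab, mul_one] at this
    simpa [frobenius_def, hab] using this.symm)
  intro u v
  rw [hμ, hμ1, one_mul]

end Sm

lemma toE_sub_one_nilpotent {ι : Type} [Fintype ι] [DecidableEq ι] (p : ℕ) [Fact p.Prime]
    [CharP F p] {x : GL ι F} (hx : x ^ p = 1) : IsNilpotent (toE x - 1) := by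
  rcases subsingleton_or_nontrivial (Module.End F (ι → F)) with h | h
  · exact ⟨0, Subsingleton.elim _ _⟩
  haveI : CharP (Module.End F (ι → F)) p :=
    charP_of_injective_algebraMap (algebraMap F (Module.End F (ι → F))).injective p
  refine ⟨p, ?_⟩
  rw [sub_pow_char_of_commute p (Commute.one_right _), one_pow, ← map_pow, hx, map_one, sub_self]

end Cfsg.Agent.C7O
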