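import Cfsg.Agent.Lib.C7O.ConjFix

/-!
# Monomial elements moving positions

* `Sm.cube_false` : four distinct images of a position contradict `(z - 1)³ = 0`
* `Sm.orbit_ker_false` : an orbit of length three has too few fixed vectors when `4 ≤ k`
* `Sm.orbit_comb_false` : no combination of `1, z, z²` keeps all pure tensors pure
* `Sm.exists_fixed_pr` : no fixed positions: a fixed anisotropic pure tensor
-/

set_option autoImplicit false
set_option linter.unusedSectionVars false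

namespace Cfsg.Agent.C7O

open Matrix Module Cfsg.Agent.C7
open Cfsg.Agent.Transvect hiding pr
open Cfsg.Agent.C7F (pr pt pt_pr T_pr T_pr' pr_ne_zero toE toE_apply)
open scoped MatrixGroups

attribute [-simp] app_apply

variable {F : Type*} [Field F] [Fintype F] {k n t : ℕ}

lemma exists_notMem_span (hk : 2 ≤ k) (x : Fin k → F) : ∃ w, w ∉ F ∙ x := by
  by_contra! hall
  have h1 := Submodule.finrank_mono (show (⊤ : Submodule F (Fin k → F)) ≤ F ∙ x from
    fun y _ => hall y)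
  have h3 := finrank_span_le_card (R := F) ({x} : Set (Fin k → F))
  rw [finrank_top, Module.finrank_fin_fun] at h1
  simp at h3
  omega

lemma orbit_len {σ : Equiv.Perm (Fin n)} {p : ℕ} (hp : p.Prime) (hσ : σ ^ p = 1) {a : Fin n}
    (ha : σ a ≠ a) {j : ℕ} (hj : 0 < j) (hjp : j < p) : (σ ^ j) a ≠ a := fun e => by
  have h1 : Function.IsPeriodicPt σ p a := by
    show σ^[p] a = a
    rw [← Equiv.Perm.coe_pow, hσ]; rfl
  have h2 : Function.IsPeriodicPt σ j a := by
    show σ^[j] a = a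
    rw [← Equiv.Perm.coe_pow]; exact e
  have h3 := h1.gcd h2
  have hc : Nat.gcd p j = 1 :=
    (hp.coprime_iff_not_dvd.2 fun hd => by have := Nat.le_of_dvd hj hd; omega)
  rw [hc] at h3
  exact ha h3

/-- Frames along an orbit. -/
def fr (b c : Fin n) (C : Fin n → GL (Fin k) F) (l : Fin n) : GL (Fin k) F :=
  if l = b then C b else if l = c then C c * C b else 1

/-- An orbit of length three. -/
structure Orb (z : GL (J k n) F) (σ : Equiv.Perm (Fin n)) (C : Fin n → GL (Fin k) F)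
    (a b c : Fin n) (r : F) : Prop where
  mon : Mon z σ C
  ab : a ≠ b
  bc : b ≠ c
  ca : c ≠ a
  sa : σ a = b
  sb : σ b = c
  sc : σ c = a
  r0 : r ≠ 0
  ret : ∀ u, app (C a) (app (C c) (app (C b) u)) = r • u

/-- The labels of the image. -/
def sh (σ : Equiv.Perm (Fin n)) (C : Fin n → GL (Fin k) F) (a b c : Fin n) (r : F)
    (u : Fin n → Fin k → F) (l : Fin n) : Fin k → F :=
  if l = a then r • u c else if l = b then u a else if l = c then u b
  else app (C l) (app (fr b c C (σ⁻¹ l)) (u (σ⁻¹ l)))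

namespace Orb

variable {z : GL (J k n) F} {σ : Equiv.Perm (Fin n)} {C : Fin n → GL (Fin k) F} {a b c : Fin n}
  {r : F}

lemma sh_a (_ : Orb z σ C a b c r) (u : Fin n → Fin k → F) : sh σ C a b c r u a = r • u c := by
  simp [sh]

lemma sh_b (h : Orb z σ C a b c r) (u : Fin n → Fin k → F) : sh σ C a b c r u b = u a := by
  simp [sh, h.ab.symm]

lemma sh_c (h : Orb z σ C a b c r) (u : Fin n → Fin k → F) : sh σ C a b c r u c = u b := by
  simp [sh, h.ca, h.bc.symm]

lemma shift (h : Orb z σ C a b c r) (u : Fin n → Fin k → F) :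
    app z (pr fun l => app (fr b c C l) (u l)) =
      pr fun l => app (fr b c C l) (sh σ C a b c r u l) := by
  rw [h.mon]
  refine congrArg pr (funext fun l => ?_)
  by_cases hla : l = a
  · subst hla
    rw [h.sh_a, show σ⁻¹ l = c by rw [Equiv.Perm.inv_eq_iff_eq]; exact h.sc.symm]
    simp [fr, h.bc.symm, h.ab, h.ca.symm, h.ret]
  by_cases hlb : l = b
  · subst hlb
    rw [h.sh_b, show σ⁻¹ l = a by rw [Equiv.Perm.inv_eq_iff_eq]; exact h.sa.symm]
    simp [fr, h.ab, h.ca.symm]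
  by_cases hlc : l = c
  · subst hlc
    rw [h.sh_c, show σ⁻¹ l = b by rw [Equiv.Perm.inv_eq_iff_eq]; exact h.sb.symm]
    simp [fr, h.bc.symm]
  · simp [fr, sh, hla, hlb, hlc]

end Orb

namespace Sm

variable {G : Sm F k}

lemma B_pr_eq_zero {p q : Fin n → Fin k → F} (l : Fin n) (h : G.f (p l) (q l) = 0) :
    G.B n (pr p) (pr q) = 0 := by
  rw [B_pr]; exact Finset.prod_eq_zero (Finset.mem_univ l) h

lemma cube_false (hk : 2 ≤ k) {z : GL (J k n) F} {σ : Equiv.Perm (Fin n)}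
    {C : Fin n → GL (Fin k) F} (h : Mon z σ C) {a : Fin n}
    (hd : ∀ j, 1 ≤ j → j ≤ 3 → (σ ^ j) a ≠ a) (h3 : (toE z - 1) ^ 3 = 0) (G : Sm F k) : False := by
  classical
  obtain ⟨D₁, h₁⟩ := h.pow 1
  obtain ⟨D₂, h₂⟩ := h.pow 2
  obtain ⟨D₃, h₃⟩ := h.pow 3
  have : Nonempty (Fin k) := ⟨⟨0, by omega⟩⟩
  obtain ⟨u, hu⟩ := exists_ne (0 : Fin k → F)
  set a₁ := (σ ^ 1) a
  set a₂ := (σ ^ 2) a
  set a₃ := (σ ^ 3) a
  have n₁ : a₁ ≠ a := hd 1 le_rfl (by omega)
  have n₂ : a₂ ≠ a := hd 2 (by omega) (by omega)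
  have n₃ : a₃ ≠ a := hd 3 (by omega) le_rfl
  have e₂ : a₂ = (σ ^ 1) a₁ := by simp [a₁, a₂, pow_two]
  have e₃ : a₃ = (σ ^ 1) a₂ := by simp [a₂, a₃, pow_succ']
  have n₂₁ : a₂ ≠ a₁ := fun e => n₁ ((σ ^ 1).injective (e₂.symm.trans e))
  have n₃₂ : a₃ ≠ a₂ := fun e => n₂₁ ((σ ^ 1).injective ((e₃.symm.trans e).trans e₂))
  have n₃₁ : a₃ ≠ a₁ := fun e => n₂ ((σ ^ 1).injective (e₃.symm.trans e))
  have aux : ∀ x : Fin k → F, ∃ q w, G.f x w = 0 ∧ G.f q w = 1 := fun x => by
    obtain ⟨q, hq⟩ := exists_notMem_span hk x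
    obtain ⟨w, h1, h2⟩ := G.exists_sep hq
    exact ⟨(G.f q w)⁻¹ • q, w, h1, by simp [h2]⟩
  obtain ⟨q₁, w₁, z₁, o₁⟩ := aux (app (D₁ a₁) u)
  obtain ⟨q₂, w₂, z₂, o₂⟩ := aux (app (D₂ a₂) u)
  obtain ⟨q₃, w₃, z₃, o₃⟩ := aux (app (D₃ a₃) u)
  obtain ⟨v, hv⟩ := G.exists_dual hu
  set q := fun l => if l = a₁ then q₁ else if l = a₂ then q₂ else if l = a₃ then q₃ else u
  set w := fun l => if l = a₁ then w₁ else if l = a₂ then w₂ else if l = a₃ then w₃ else v
  have hqa : q a = u := by simp [q, n₁.symm, n₂.symm, n₃.symm]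
  have hqw : G.B n (pr q) (pr w) = 1 := by
    rw [B_pr]
    refine Finset.prod_eq_one fun l _ => ?_
    simp only [q, w]
    split_ifs <;> assumption
  have kill : ∀ (j : ℕ) (D : Fin n → GL (Fin k) F), Mon (z ^ j) (σ ^ j) D →
      G.f (app (D ((σ ^ j) a)) u) (w ((σ ^ j) a)) = 0 →
      G.B n (app (z ^ j) (pr q)) (pr w) = 0 := fun j D hD h0 => by
    rw [hD]
    refine B_pr_eq_zero ((σ ^ j) a) ?_
    rwa [Equiv.Perm.inv_def, Equiv.symm_apply_apply, hqa]
  have k₁ := kill 1 D₁ h₁ (by simpa [w, a₁] using z₁)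
  have k₂ := kill 2 D₂ h₂ (by
    show G.f (app (D₂ a₂) u) (w a₂) = 0
    simp [w, n₂₁, z₂])
  have k₃ := kill 3 D₃ h₃ (by
    show G.f (app (D₃ a₃) u) (w a₃) = 0
    simp [w, n₃₁, n₃₂, z₃])
  have e := congrArg (fun x => G.B n x (pr w)) (LinearMap.congr_fun h3 (pr q))
  simp only [pow_succ, pow_zero, one_mul, Module.End.mul_apply, toE_apply, map_sub,
    Module.End.one_apply, LinearMap.sub_apply, LinearMap.zero_apply, map_zero, map_mul, LinearEquiv.mul_apply] at e k₁ k₂ k₃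
  rw [k₁, k₂, k₃, hqw] at e
  norm_num at e

/-! ### three positions -/

lemma card_triples (k : ℕ) :
    6 * Nat.card {x : Fin k × Fin k × Fin k // x.1 ≤ x.2.1 ∧ x.1 ≤ x.2.2} =
      k * (k + 1) * (2 * k + 1) := by
  have e : Nat.card {x : Fin k × Fin k × Fin k // x.1 ≤ x.2.1 ∧ x.1 ≤ x.2.2} =
      ∑ i : Fin k, (k - (i : ℕ)) * (k - (i : ℕ)) := by
    rw [Nat.card_congr (show {x : Fin k × Fin k × Fin k // x.1 ≤ x.2.1 ∧ x.1 ≤ x.2.2} ≃
      Σ i : Fin k, (↥(Finset.Ici i) × ↥(Finset.Ici i)) from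
      { toFun := fun x => ⟨x.1.1, ⟨x.1.2.1, Finset.mem_Ici.2 x.2.1⟩, ⟨x.1.2.2, Finset.mem_Ici.2 x.2.2⟩⟩
        invFun := fun y => ⟨(y.1, y.2.1.1, y.2.2.1),
          Finset.mem_Ici.1 y.2.1.2, Finset.mem_Ici.1 y.2.2.2⟩
        left_inv := fun _ => rfl
        right_inv := fun _ => rfl })]
    rw [Nat.card_eq_fintype_card, Fintype.card_sigma]
    refine Finset.sum_congr rfl fun i _ => ?_
    rw [Fintype.card_prod, Fintype.card_coe, Fin.card_Ici]
  rw [e]
  clear e
  induction k with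
  | zero => simp
  | succ k ih =>
    rw [Fin.sum_univ_succ]
    simp only [Fin.val_zero, Fin.val_succ, Nat.sub_zero, Nat.add_sub_add_right]
    rw [mul_add, ih]
    ring

/-- An orbit of length three has few fixed vectors. -/
lemma orbit_ker_le {z : GL (J k n) F} {σ : Equiv.Perm (Fin n)} {C : Fin n → GL (Fin k) F}
    {a b c : Fin n} {r : F} (h : Orb z σ C a b c r) (hiso : z ∈ G.isoGrp n) :
    finrank F (LinearMap.ker (toE z - 1)) ≤
      Nat.card {g : J k n // g a ≤ g b ∧ g a ≤ g c} := by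
  classical
  set P : Fin n → (Fin k → F) →ₗ[F] (Fin k → F) := fun l => (app (fr b c C l)).toLinearMap
  set Φ : (J k n → F) →ₗ[F] ({g : J k n // g a ≤ g b ∧ g a ≤ g c} → F) :=
    LinearMap.pi fun g => (G.B n).flip (pt P (Pi.single g.1 1))
  rw [Nat.card_eq_fintype_card, ← Module.finrank_fintype_fun_eq_card F]
  refine LinearMap.finrank_le_finrank_of_injective
    (f := Φ.comp (LinearMap.ker (toE z - 1)).subtype) (LinearMap.ker_eq_bot.1
      (LinearMap.ker_eq_bot'.2 fun x hx => ?_))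
  obtain ⟨x, hxk⟩ := x
  refine Subtype.ext ?_
  have hfix : app z x = x := mem_fix.1 hxk
  set ψ := (G.B n x).comp (pt P)
  have hS : ∀ g : J k n, g a ≤ g b → g a ≤ g c → ψ (Pi.single g 1) = 0 := fun g h1 h2 =>
    congrFun hx ⟨g, h1, h2⟩
  have hinv : ∀ u, ψ (pr u) = ψ (pr (sh σ C a b c r u)) := fun u => by
    simp only [ψ, P, LinearMap.comp_apply, pt_pr, LinearEquiv.coe_coe]
    rw [← h.shift u]
    conv_rhs => arg 1; arg 2; rw [← hfix]
    rw [hiso]
  let H : Fin k → Fin k → Fin k → Prop := fun i j l => ∀ u : Fin n → Fin k → F,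
    u a ∈ F ∙ (Pi.single i 1 : Fin k → F) → u b ∈ F ∙ (Pi.single j 1 : Fin k → F) →
    u c ∈ F ∙ (Pi.single l 1 : Fin k → F) → ψ (pr u) = 0
  have hH0 : ∀ i j l, i ≤ j → i ≤ l → H i j l := by
    intro i j l hij hil u ha hb hc
    rw [pi_eq_sum_univ' (pr u), map_sum]
    refine Finset.sum_eq_zero fun g _ => ?_
    rw [map_smul, smul_eq_mul]
    by_cases hg : g a = i ∧ g b = j ∧ g c = l
    · rw [hS g (by rw [hg.1, hg.2.1]; exact hij) (by rw [hg.1, hg.2.2]; exact hil), mul_zero]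
    · refine mul_eq_zero_of_left ?_ _
      simp only [C7F.pr]
      obtain ⟨sa, ea⟩ := Submodule.mem_span_singleton.1 ha
      obtain ⟨sb, eb⟩ := Submodule.mem_span_singleton.1 hb
      obtain ⟨sc, ec⟩ := Submodule.mem_span_singleton.1 hc
      rcases not_and_or.1 hg with h1 | h1
      · exact Finset.prod_eq_zero (Finset.mem_univ a) (by rw [← ea]; simp [h1])
      rcases not_and_or.1 h1 with h1 | h1
      · exact Finset.prod_eq_zero (Finset.mem_univ b) (by rw [← eb]; simp [h1])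
      · exact Finset.prod_eq_zero (Finset.mem_univ c) (by rw [← ec]; simp [h1])
  have hstep : ∀ i j l, H l i j → H i j l := fun i j l hH u ha hb hc => by
    rw [hinv u]
    exact hH _ (by rw [h.sh_a]; exact Submodule.smul_mem _ _ hc) (by rwa [h.sh_b])
      (by rwa [h.sh_c])
  have hall : ∀ i j l, H i j l := fun i j l => by
    by_cases h1 : i ≤ j ∧ i ≤ l
    · exact hH0 i j l h1.1 h1.2
    by_cases h2 : l ≤ i ∧ l ≤ j
    · exact hstep i j l (hH0 l i j h2.1 h2.2)
    · exact hstep i j l (hstep l i j (hH0 j l i (by omega) (by omega)))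
  refine G.nd_B x fun y => ?_
  have : G.B n x = 0 := C7F.Fm.ext_pr fun p => by
    have e := hall
    set u := fun l => app (fr b c C l)⁻¹ (p l) with hu
    have hp : pr p = pt P (pr u) := by
      rw [pt_pr]
      exact congrArg pr (funext fun l => (app_app_inv _ _).symm)
    rw [hp, LinearMap.zero_apply, ← LinearMap.comp_apply (G.B n x), pi_eq_sum_univ' (pr u),
      map_sum]
    refine Finset.sum_eq_zero fun g _ => ?_
    rw [map_smul, show ((G.B n x).comp (pt P)) (Pi.single g 1) = 0 from ?_, smul_zero]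
    rw [show (Pi.single g (1 : F) : J k n → F) = pr fun l => Pi.single (g l) 1 from funext fun f => by
      by_cases ef : f = g
      · subst ef; simp [C7F.pr]
      · rw [Pi.single_eq_of_ne ef]
        obtain ⟨m, hm⟩ := Function.ne_iff.1 ef
        exact (Finset.prod_eq_zero (Finset.mem_univ m) (by simp [hm])).symm]
    exact e _ _ _ _ (Submodule.mem_span_singleton_self _) (Submodule.mem_span_singleton_self _)
      (Submodule.mem_span_singleton_self _)
  rw [this]; rfl

lemma orbit_ker_false {z : GL (J k (t + 1)) F} {σ : Equiv.Perm (Fin (t + 1))}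
    {C : Fin (t + 1) → GL (Fin k) F} {a b c : Fin (t + 1)} {r : F} (h : Orb z σ C a b c r)
    (hiso : z ∈ G.isoGrp (t + 1)) (hk : 4 ≤ k)
    (hker : (k - 2) * k ^ t ≤ finrank F (LinearMap.ker (toE z - 1))) : False := by
  classical
  have hle := hker.trans (orbit_ker_le h hiso)
  let S : Finset (Fin (t + 1)) := {a, b, c}
  have hS : S.card = 3 := Finset.card_eq_three.2 ⟨a, b, c, h.ab, h.ca.symm, h.bc, rfl⟩
  have hT : 3 ≤ t + 1 := by
    have := Finset.card_le_univ S
    simpa [hS] using this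
  set N := Nat.card {x : Fin k × Fin k × Fin k // x.1 ≤ x.2.1 ∧ x.1 ≤ x.2.2}
  have hcard : Nat.card {g : J k (t + 1) // g a ≤ g b ∧ g a ≤ g c} ≤ N * k ^ (t - 2) := by
    have e : Nat.card ({l // l ∉ S} → Fin k) = k ^ (t - 2) := by
      simp [Fintype.card_subtype_compl, hS]
    rw [← e, ← Nat.card_prod]
    refine Nat.card_le_card_of_injective
      (fun g => (⟨(g.1 a, g.1 b, g.1 c), g.2⟩, fun l : {l // l ∉ S} => g.1 l)) fun g g' e => ?_
    simp only [Prod.mk.injEq, Subtype.mk.injEq] at e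
    refine Subtype.ext (funext fun l => ?_)
    by_cases hl : l ∈ S
    · simp only [S, Finset.mem_insert, Finset.mem_singleton] at hl
      rcases hl with rfl | rfl | rfl
      exacts [e.1.1, e.1.2.1, e.1.2.2]
    · exact congrFun e.2 ⟨l, hl⟩
  have hN : 6 * N = k * (k + 1) * (2 * k + 1) := card_triples k
  obtain ⟨d, rfl⟩ : ∃ d, t = d + 2 := ⟨t - 2, by omega⟩
  rw [Nat.add_sub_cancel] at hcard
  have h1 := hle.trans hcard
  rw [pow_add, mul_comm (k ^ d), ← mul_assoc] at h1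
  have h2 : (k - 2) * k ^ 2 ≤ N := Nat.le_of_mul_le_mul_right h1 (pow_pos (by omega) d)
  obtain ⟨j, rfl⟩ : ∃ j, k = j + 4 := ⟨k - 4, by omega⟩
  rw [show j + 4 - 2 = j + 2 by omega] at h2
  nlinarith

lemma minor (s q q' : Fin n → Fin k → F) (a : Fin n) :
    G.B n (pr s) (pr q) * G.B n (pr s) (pr q') =
      G.B n (pr s) (pr (Function.update q a (q' a))) *
        G.B n (pr s) (pr (Function.update q' a (q a))) := by
  classical
  simp only [B_pr]
  rw [← Finset.prod_mul_distrib, ← Finset.prod_mul_distrib]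
  refine Finset.prod_congr rfl fun l _ => ?_
  by_cases hl : l = a
  · subst hl; simp [mul_comm]
  · simp [Function.update_of_ne hl]

lemma orbit_comb_false {z : GL (J k n) F} {σ : Equiv.Perm (Fin n)} {C : Fin n → GL (Fin k) F}
    {a b c : Fin n} {r : F} (h : Orb z σ C a b c r) (hiso : z ∈ G.isoGrp n) (hk : 3 ≤ k)
    {α β γ : F} (hα : α ≠ 0) (hβ : β ≠ 0)
    (hcomb : ∀ p, ∃ s, α • pr p + β • app z (pr p) + γ • app z (app z (pr p)) = pr s) : False := by
  classical
  choose μ hμ0 hμ using fun l => mon_sim h.mon hiso (by omega) l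
  let i₀ : Fin k := ⟨0, by omega⟩
  let i₁ : Fin k := ⟨1, by omega⟩
  let i₂ : Fin k := ⟨2, by omega⟩
  choose δ hδ using fun i : Fin k => G.exists_rep (LinearMap.proj i)
  have he : ∀ i j, G.f (Pi.single i 1) (δ j) = if i = j then 1 else 0 := fun i j => by
    rw [G.sym, hδ]; simp [Pi.single_apply, eq_comm]
  let lb : Fin n → Fin k := fun l => if l = b then i₁ else if l = c then i₂ else i₀
  set u : Fin n → Fin k → F := fun l => Pi.single (lb l) 1
  set d : Fin n → Fin k → F := fun l => δ (lb l)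
  set P : Fin n → GL (Fin k) F := fr b c C
  have hP : ∀ l, ∃ ν : F, ν ≠ 0 ∧ ∀ x y, G.f (app (P l) x) (app (P l) y) = ν * G.f x y := fun l => by
    simp only [P, fr]
    split_ifs
    · exact ⟨μ b, hμ0 b, hμ b⟩
    · refine ⟨μ c * μ b, mul_ne_zero (hμ0 c) (hμ0 b), fun x y => ?_⟩
      rw [map_mul, LinearEquiv.mul_apply, LinearEquiv.mul_apply, hμ, hμ, mul_assoc]
    · exact ⟨1, one_ne_zero, fun x y => by simp⟩
  choose ν hν0 hν using hP
  set x := fun l => app (P l) (u l)
  set x₁ := fun l => app (P l) (sh σ C a b c r u l)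
  set x₂ := fun l => app (P l) (sh σ C a b c r (sh σ C a b c r u) l)
  set q := fun l => app (P l) (d l)
  set q' := fun l => app (P l) (sh σ C a b c r d l)
  have e₁ : app z (pr x) = pr x₁ := h.shift u
  have e₂ : app z (pr x₁) = pr x₂ := h.shift _
  obtain ⟨s, hs⟩ := hcomb x
  rw [e₁, e₂] at hs
  have hxq : G.B n (pr x) (pr q) ≠ 0 := by
    rw [B_pr]
    refine Finset.prod_ne_zero_iff.2 fun l _ => ?_
    simp [x, q, hν, u, d, he, hν0]
  have hzq : G.B n (pr x₁) (pr q') = G.B n (pr x) (pr q) := by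
    rw [← e₁, show pr q' = app z (pr q) from (h.shift d).symm, hiso]
  have la : lb a = i₀ := by simp [lb, h.ab, h.ca.symm]
  have lbb : lb b = i₁ := by simp [lb]
  have lc' : lb c = i₂ := by simp [lb, h.bc.symm]
  have n01 : i₀ ≠ i₁ := by simp [i₀, i₁]
  have n02 : i₀ ≠ i₂ := by simp [i₀, i₂]
  have n12 : i₁ ≠ i₂ := by simp [i₁, i₂]
  have hd : ∀ (w y : Fin n → Fin k → F) (l : Fin n), G.f (w l) (y l) = 0 →
      G.B n (pr fun l => app (P l) (w l)) (pr fun l => app (P l) (y l)) = 0 := fun w y l h0 =>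
    B_pr_eq_zero l (by simp [hν, h0])
  have hup : ∀ (y y' : Fin n → Fin k → F),
      Function.update (fun l => app (P l) (y l)) a (app (P a) (y' a)) =
        fun l => app (P l) (Function.update y a (y' a) l) := fun y y' => funext fun l => by
    by_cases hl : l = a
    · subst hl; simp
    · simp [Function.update_of_ne hl]
  have ev : ∀ y, G.B n (pr s) y =
      α * G.B n (pr x) y + β * G.B n (pr x₁) y + γ * G.B n (pr x₂) y := fun y => by
    rw [← hs]; simp
  have t1 : G.B n (pr s) (pr q) = α * G.B n (pr x) (pr q) := by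
    rw [ev, hd (sh σ C a b c r u) d b (by simp [h.sh_b, u, d, la, lbb, he, n01]),
      hd (sh σ C a b c r (sh σ C a b c r u)) d c
        (by simp [h.sh_b, h.sh_c, u, d, la, lc', he, n02])]
    ring
  have t2 : G.B n (pr s) (pr q') = β * G.B n (pr x) (pr q) := by
    rw [ev, hd u (sh σ C a b c r d) b (by simp [h.sh_b, u, d, la, lbb, he, n01.symm]),
      hd (sh σ C a b c r (sh σ C a b c r u)) (sh σ C a b c r d) c
        (by simp [h.sh_b, h.sh_c, u, d, la, lbb, he, n01]), hzq]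
    ring
  have nb : b ≠ a := h.ab.symm
  have nc : c ≠ a := h.ca
  have t3 : G.B n (pr s) (pr (Function.update q a (q' a))) = 0 := by
    rw [hup d (sh σ C a b c r d), ev,
      hd u _ a (by simp [h.sh_a, u, d, la, lc', he, n02]),
      hd (sh σ C a b c r u) _ b (by simp [nb, h.sh_b, u, d, la, lbb, he, n01]),
      hd (sh σ C a b c r (sh σ C a b c r u)) _ c
        (by simp [nc, h.sh_b, h.sh_c, u, d, la, lc', he, n02])]
    ring
  have t4 : G.B n (pr s) (pr (Function.update q' a (q a))) = 0 := by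
    rw [hup (sh σ C a b c r d) d, ev,
      hd u _ b (by simp [nb, h.sh_b, u, d, la, lbb, he, n01.symm]),
      hd (sh σ C a b c r u) _ a (by simp [h.sh_a, u, d, la, lc', he, n02.symm]),
      hd (sh σ C a b c r (sh σ C a b c r u)) _ a
        (by simp [h.sh_a, h.sh_c, u, d, la, lbb, he, n01.symm])]
    ring
  have := minor (G := G) s q q' a
  rw [t1, t2, t3, t4, mul_zero] at this
  exact mul_ne_zero (mul_ne_zero hα hxq) (mul_ne_zero hβ hxq) this

/-- A representative of an orbit of length at most three. -/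
lemma exists_rep3 {σ : Equiv.Perm (Fin n)} (hσ : ∀ l, σ (σ (σ l)) = l) :
    ∃ R : Fin n → Fin n, (∀ l, R (σ l) = R l) ∧ ∀ l, R l = l ∨ σ (R l) = l ∨ σ (σ (R l)) = l := by
  refine ⟨fun l => min l (min (σ l) (σ (σ l))), fun l => ?_, fun l => ?_⟩
  · simp only [hσ]; rw [min_comm (σ (σ l)) l, ← min_assoc, min_comm (σ l) l, min_assoc]
  · rcases min_choice l (min (σ l) (σ (σ l))) with e | e
    · exact .inl e
    · rcases min_choice (σ l) (σ (σ l)) with e' | e'
      · exact .inr (.inr (by show σ (σ (min l (min (σ l) (σ (σ l))))) = l; rw [e, e', hσ]))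
      · exact .inr (.inl (by show σ (min l (min (σ l) (σ (σ l)))) = l; rw [e, e', hσ]))

/-- A fixed anisotropic pure tensor. -/
lemma exists_fixed_pr [CharP F 3] (hk : 2 ≤ k) {z : GL (J k n) F} {σ : Equiv.Perm (Fin n)}
    {C : Fin n → GL (Fin k) F} (h : Mon z σ C) (hiso : z ∈ G.isoGrp n) (hz : z ^ 3 = 1)
    (hσ : ∀ l, σ (σ (σ l)) = l) (hnf : ∀ l, σ l ≠ l)
    (hret : ∀ l, ∃ r : F, r ≠ 0 ∧
      ∀ u, app (C l) (app (C (σ⁻¹ l)) (app (C (σ⁻¹ (σ⁻¹ l))) u)) = r • u)
    {u : Fin k → F} (hu : G.f u u ≠ 0) :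
    ∃ x, app z x = x ∧ G.B n x x ≠ 0 := by
  classical
  haveI : Fact (Nat.Prime 3) := ⟨Nat.prime_three⟩
  choose μ hμ0 hμ using fun l => mon_sim h hiso (by omega) l
  obtain ⟨R, hR, hR'⟩ := exists_rep3 hσ
  choose ρ hρ0 hρ using hret
  set q : Fin n → Fin k → F := fun l =>
    if R l = l then u else if σ (R l) = l then app (C l) u else app (C l) (app (C (σ⁻¹ l)) u)
  have hqf : ∀ l, G.f (q l) (q l) ≠ 0 := fun l => by
    simp only [q]
    split_ifs <;> simp [hμ, hμ0, hu]
  have hq : ∀ l, app (C l) (q (σ⁻¹ l)) = (if R l = l then ρ l else 1) • q l := by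
    intro l
    have hRi : R (σ⁻¹ l) = R l := by
      have := hR (σ⁻¹ l)
      rwa [Equiv.Perm.inv_def, Equiv.apply_symm_apply, eq_comm] at this
    have ei : σ⁻¹ l = σ (σ l) := by rw [Equiv.Perm.inv_eq_iff_eq, hσ]
    simp only [q, hRi]
    by_cases h0 : R l = l
    · have d1 : ¬ R l = σ⁻¹ l := fun e => hnf (σ⁻¹ l) (by
        rw [Equiv.Perm.inv_def, Equiv.apply_symm_apply, ← Equiv.Perm.inv_def, ← e, h0])
      have d2 : ¬ σ (R l) = σ⁻¹ l := fun e => by
        rw [h0, ei] at e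
        exact hnf l (σ.injective e).symm
      rw [if_neg d1, if_neg d2, if_pos h0, if_pos h0, hρ]
    rcases (hR' l).resolve_left h0 with h1 | h1
    · have d1 : R l = σ⁻¹ l := by rw [Equiv.Perm.eq_inv_iff_eq]; exact h1
      rw [if_pos d1, if_neg h0, if_neg h0, if_pos h1, one_smul]
    · have d0 : ¬ σ (R l) = l := fun e => hnf l (by
        have := h1
        rw [e] at this
        exact this)
      have d2 : σ (R l) = σ⁻¹ l := by rw [Equiv.Perm.eq_inv_iff_eq]; exact h1
      have d1 : ¬ R l = σ⁻¹ l := fun e => d0 (by rw [e]; simp)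
      rw [if_neg d1, if_pos d2, if_neg h0, if_neg h0, if_neg d0, one_smul]
  set κ := ∏ l, if R l = l then ρ l else 1
  have hzq : app z (pr q) = κ • pr q := by
    rw [h, funext hq, pr_smul]
  have hne : G.B n (pr q) (pr q) ≠ 0 := by
    rw [B_pr]; exact Finset.prod_ne_zero_iff.2 fun l _ => hqf l
  refine ⟨pr q, ?_, hne⟩
  have h3 : app (z ^ 3) (pr q) = κ ^ 3 • pr q := by
    simp only [pow_succ, pow_zero, one_mul, map_mul, LinearEquiv.mul_apply, hzq, map_smul, smul_smul, mul_assoc]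
  rw [hz, map_one, LinearEquiv.coe_one, id_eq] at h3
  have hκ : κ = 1 := frobenius_inj F 3 (by
    simp only [frobenius_def, one_pow]
    refine smul_left_injective F (fun e : pr q = 0 => hne (by simp [e])) ?_
    simpa using h3.symm)
  rw [hzq, hκ, one_smul]

end Sm

end Cfsg.Agent.C7O
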