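import Cfsg.Agent.Lib.C7O.Base

/-!
# Operators seen from one position

* `cj g X` : `g X g⁻¹`; `Sm.cC i X a z` : the coefficient of `X` at `(a, z)` in position `i`
* `Sm.dd b v` : the nilpotent skew operator of the Siegel element
* `Sm.bil_form` : bilinear maps killed by all `dd b v`
* `Sm.TB`, `Sm.TD` : the two types of fixed operators in one position, and their geometry
-/

set_option autoImplicit false
set_option linter.unusedSectionVars false

namespace Cfsg.Agent.C7O

open Matrix Module Cfsg.Agent.Transvect Cfsg.Agent.C7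
open Cfsg.Agent.C7F (op op_T op_one sl sl_T T_pr')
open scoped MatrixGroups

attribute [-simp] app_apply

variable {F : Type*} [Field F] {k t : ℕ}

/-- Conjugation of an operator. -/
noncomputable def cj {ι : Type} [Fintype ι] [DecidableEq ι] (g : GL ι F) :
    Module.End F (Module.End F (ι → F)) where
  toFun X := (app g).toLinearMap.comp (X.comp (app g⁻¹).toLinearMap)
  map_add' X Y := LinearMap.ext fun x => by simp
  map_smul' c X := LinearMap.ext fun x => by simp

lemma cj_apply {ι : Type} [Fintype ι] [DecidableEq ι] (g : GL ι F) (X : Module.End F (ι → F))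
    (x : ι → F) : cj g X x = app g (X (app g⁻¹ x)) := rfl

lemma cj_one {ι : Type} [Fintype ι] [DecidableEq ι] : cj (1 : GL ι F) = 1 :=
  LinearMap.ext fun X => LinearMap.ext fun x => by simp [cj_apply]

lemma cj_mul {ι : Type} [Fintype ι] [DecidableEq ι] (g h : GL ι F) : cj (g * h) = cj g * cj h :=
  LinearMap.ext fun X => LinearMap.ext fun x => by simp [cj_apply]

lemma cj_fix_iff {ι : Type} [Fintype ι] [DecidableEq ι] {g : GL ι F} {X : Module.End F (ι → F)} :
    cj g X = X ↔ ∀ x, app g (X x) = X (app g x) := by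
  constructor
  · intro h x
    have := LinearMap.congr_fun h (app g x)
    rwa [cj_apply, app_inv_app] at this
  · intro h
    exact LinearMap.ext fun x => by rw [cj_apply, h, app_app_inv]

lemma cj_comp {ι : Type} [Fintype ι] [DecidableEq ι] (g : GL ι F) (X Y : Module.End F (ι → F)) :
    cj g (X * Y) = cj g X * cj g Y :=
  LinearMap.ext fun x => by simp [cj_apply]

/-- Prove membership on split vectors. -/
lemma mem_of_T {E : Type*} [AddCommGroup E] [Module F E] (i : Fin (t + 1)) (W : Submodule F E)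
    (L : (J k (t + 1) → F) →ₗ[F] E) (h : ∀ y z, L (T i y z) ∈ W) (x : J k (t + 1) → F) : L x ∈ W := by
  rw [← sum_T_single i x, map_sum]
  exact Submodule.sum_mem _ fun c _ => h _ _

lemma op_smulRight (i : Fin (t + 1)) (A : (J k t → F) →ₗ[F] (J k t → F))
    (φ : (Fin k → F) →ₗ[F] F) (u : Fin k → F) (x : J k (t + 1) → F) :
    op i A (φ.smulRight u) x = T i (A (ct i φ x)) u :=
  LinearMap.congr_fun (lin_ext i (f := op i A (φ.smulRight u))
    (g := ((T i).flip u).comp (A.comp (ct i φ))) fun y z => by simp) x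

lemma app_kr_one_sl (i : Fin (t + 1)) (C : GL (Fin k) F) :
    (app (kr i (1 : GL (J k t) F) C)).toLinearMap = sl i (app C).toLinearMap :=
  lin_ext i fun a u => by simp [app_kr]

namespace Sm

variable (G : Sm F k)

/-- The coefficient of `X` at `(a, z)` in position `i`. -/
noncomputable def cC (i : Fin (t + 1)) (X : Module.End F (J k (t + 1) → F)) :
    (Fin k → F) →ₗ[F] (Fin k → F) →ₗ[F] Module.End F (J k t → F) :=
  LinearMap.mk₂ F (fun a z => (ct i (G.f a)).comp (X.comp ((T i).flip z)))
    (fun a a' z => LinearMap.ext fun y => by simp [ct_add])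
    (fun c a z => LinearMap.ext fun y => by simp [ct_smul])
    (fun a z z' => LinearMap.ext fun y => by simp)
    (fun c a z => LinearMap.ext fun y => by simp)

lemma cC_apply (i : Fin (t + 1)) (X : Module.End F (J k (t + 1) → F)) (a z : Fin k → F)
    (y : J k t → F) : G.cC i X a z y = ct i (G.f a) (X (T i y z)) := rfl

lemma cC_ext {i : Fin (t + 1)} {X Y : Module.End F (J k (t + 1) → F)}
    (h : ∀ a z, G.cC i X a z = G.cC i Y a z) : X = Y :=
  lin_ext i fun y z => G.ct_sep (i := i) fun a => LinearMap.congr_fun (h a z) y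

lemma cC_add (i : Fin (t + 1)) (X Y : Module.End F (J k (t + 1) → F)) (a z : Fin k → F) :
    G.cC i (X + Y) a z = G.cC i X a z + G.cC i Y a z := LinearMap.ext fun y => by simp [cC_apply]

lemma cC_sub (i : Fin (t + 1)) (X Y : Module.End F (J k (t + 1) → F)) (a z : Fin k → F) :
    G.cC i (X - Y) a z = G.cC i X a z - G.cC i Y a z := LinearMap.ext fun y => by simp [cC_apply]

lemma cC_smul (i : Fin (t + 1)) (s : F) (X : Module.End F (J k (t + 1) → F)) (a z : Fin k → F) :
    G.cC i (s • X) a z = s • G.cC i X a z := LinearMap.ext fun y => by simp [cC_apply]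

lemma cC_zero (i : Fin (t + 1)) (a z : Fin k → F) :
    G.cC i (0 : Module.End F (J k (t + 1) → F)) a z = 0 := LinearMap.ext fun y => by simp [cC_apply]

lemma cC_op (i : Fin (t + 1)) (P : Module.End F (J k t → F)) (D : (Fin k → F) →ₗ[F] (Fin k → F))
    (a z : Fin k → F) : G.cC i (op i P D) a z = G.f a (D z) • P :=
  LinearMap.ext fun y => by simp [cC_apply]

variable {G}

lemma cC_cj_slot (i : Fin (t + 1)) {C : GL (Fin k) F} (hC : G.IsI C)
    (X : Module.End F (J k (t + 1) → F)) (a z : Fin k → F) :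
    G.cC i (cj (kr i 1 C) X) a z = G.cC i X (app C⁻¹ a) (app C⁻¹ z) := by
  refine LinearMap.ext fun y => ?_
  rw [cC_apply, cC_apply, cj_apply, kr_inv, inv_one, app_kr, map_one, LinearEquiv.coe_one, id_eq]
  exact LinearMap.congr_fun (lin_ext i
    (f := (ct i (G.f a)).comp (app (kr i 1 C)).toLinearMap) (g := ct i (G.f (app C⁻¹ a))) fun w u => by
      simp only [LinearMap.comp_apply, LinearEquiv.coe_coe, app_kr, map_one, LinearEquiv.coe_one, id_eq,
        ct_T, hC.inv_left]) _

lemma cC_cj_rest (i : Fin (t + 1)) (A : GL (J k t) F) (X : Module.End F (J k (t + 1) → F))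
    (a z : Fin k → F) : G.cC i (cj (kr i A 1) X) a z = cj A (G.cC i X a z) := by
  refine LinearMap.ext fun y => ?_
  rw [cC_apply, cj_apply, cj_apply, cC_apply, kr_inv, inv_one, app_kr, map_one, LinearEquiv.coe_one,
    id_eq]
  exact LinearMap.congr_fun (lin_ext i
    (f := (ct i (G.f a)).comp (app (kr i A 1)).toLinearMap)
    (g := (app A).toLinearMap.comp (ct i (G.f a))) fun w u => by simp [app_kr]) _

variable (G)

/-- `z ↦ f(v,z) b - f(b,z) v`. -/
def dd (b v : Fin k → F) : (Fin k → F) →ₗ[F] (Fin k → F) :=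
  (G.f v).smulRight b - (G.f b).smulRight v

@[simp] lemma dd_apply (b v z : Fin k → F) : G.dd b v z = G.f v z • b - G.f b z • v := rfl

/-- `z ↦ f(b,z) b`. -/
def bb (b : Fin k → F) : (Fin k → F) →ₗ[F] (Fin k → F) := (G.f b).smulRight b

@[simp] lemma bb_apply (b z : Fin k → F) : G.bb b z = G.f b z • b := rfl

lemma dd_skew (b v u w : Fin k → F) : G.f (G.dd b v u) w = -G.f u (G.dd b v w) := by
  simp [G.sym u b, G.sym u v]; ring

variable {G}

lemma sg_sub_sg {b v : Fin k → F} (hb : G.f b b = 0) (hv : G.f b v = 0) (z : Fin k → F) :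
    app (G.sg b v) z - app (G.sg b (-v)) z = (2 : F) • G.dd b v z := by
  rw [sg_apply hb hv, sg_apply hb (by simp [hv]), dd_apply]
  simp
  module

/-- An operator fixed by the Siegel elements of a position commutes with their nilpotent parts. -/
lemma cC_dd {i : Fin (t + 1)} {b v : Fin k → F} (hb : G.f b b = 0) (hv : G.f b v = 0)
    {X : Module.End F (J k (t + 1) → F)} (h : cj (kr i 1 (G.sg b v)) X = X) (a z : Fin k → F) :
    G.cC i X (G.dd b v a) z + G.cC i X a (G.dd b v z) = 0 := by
  have h' : cj (kr i 1 (G.sg b (-v))) X = X := by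
    rw [← sg_inv, show kr i (1 : GL (J k t) F) (G.sg b v)⁻¹ = (kr i 1 (G.sg b v))⁻¹ by
      rw [kr_inv, inv_one]]
    conv_lhs => rw [← h]
    rw [← Module.End.mul_apply, ← cj_mul, inv_mul_cancel, cj_one]
    rfl
  have hc : ∀ x, sl i (G.dd b v) (X x) = X (sl i (G.dd b v) x) := fun x => by
    have e : ∀ x, (2 : F) • sl i (G.dd b v) x =
        app (kr i 1 (G.sg b v)) x - app (kr i 1 (G.sg b (-v))) x := fun x =>
      LinearMap.congr_fun (lin_ext i (f := (2 : F) • sl i (G.dd b v))
        (g := (app (kr i 1 (G.sg b v))).toLinearMap - (app (kr i 1 (G.sg b (-v)))).toLinearMap)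
        fun y u => by
          simp only [LinearMap.smul_apply, LinearMap.sub_apply, LinearEquiv.coe_coe, app_kr, map_one,
            LinearEquiv.coe_one, id_eq, sl_T, ← map_sub, sg_sub_sg hb hv, map_smul]) x
    apply smul_right_injective _ G.two
    show (2 : F) • _ = (2 : F) • _
    rw [← map_smul X, e, e, map_sub, cj_fix_iff.1 h, cj_fix_iff.1 h']
  refine LinearMap.ext fun y => ?_
  have e : ∀ w, ct i (G.f a) (sl i (G.dd b v) w) = -ct i (G.f (G.dd b v a)) w := fun w =>
    LinearMap.congr_fun (lin_ext i (f := (ct i (G.f a)).comp (sl i (G.dd b v)))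
      (g := -ct i (G.f (G.dd b v a))) fun y u => by
        rw [LinearMap.comp_apply, sl_T, ct_T, LinearMap.neg_apply, ct_T, ← neg_smul]
        congr 1
        linear_combination G.dd_skew b v a u) w
  rw [LinearMap.add_apply, cC_apply, cC_apply, ← sl_T i (G.dd b v) y z, ← hc, e]
  simp

/-- Bilinear maps killed by all `dd b v`. -/
lemma bil_form {E : Type*} [AddCommGroup E] [Module F E] {b c : Fin k → F} (h : G.HB b c)
    (hk : 3 ≤ k) (K : (Fin k → F) →ₗ[F] (Fin k → F) →ₗ[F] E)
    (hK : ∀ v, G.InW b c v → ∀ a z, K (G.dd b v a) z + K a (G.dd b v z) = 0) (a z : Fin k → F) :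
    K a z = G.f a z • K c b + (G.f b a * G.f b z) • K c c +
      G.f b a • K c (G.wp b c z) - G.f b z • K c (G.wp b c a) := by
  obtain ⟨e, he, heg⟩ := exists_aniso h hk
  have hdb : ∀ v, G.InW b c v → G.dd b v b = 0 := fun v hv => by simp [hv.left', h.bb]
  have hdc : ∀ v, G.InW b c v → G.dd b v c = -v := fun v hv => by simp [hv.right', h.bc]
  have hdw : ∀ v w, G.InW b c w → G.dd b v w = G.f v w • b := fun v w hw => by simp [hw.1]
  have r : ∀ v a z, G.InW b c v → K (G.dd b v a) z + K a (G.dd b v z) = 0 := fun v a z hv => hK v hv a z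
  have bw : ∀ v, G.InW b c v → K b v = 0 := fun v hv => by
    simpa [hdb v hv, hdc v hv] using r v b c hv
  have wb : ∀ v, G.InW b c v → K v b = 0 := fun v hv => by
    simpa [hdb v hv, hdc v hv] using r v c b hv
  have bb : K b b = 0 := by
    have := r e b e he
    rw [hdb e he, hdw e e he, map_zero, LinearMap.zero_apply, zero_add, map_smul] at this
    exact (smul_eq_zero.1 this).resolve_left heg
  have wc : ∀ v, G.InW b c v → K v c = -K c v := fun v hv => by
    have := r v c c hv
    simp only [hdc v hv, map_neg, LinearMap.neg_apply] at this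
    linear_combination (norm := module) -this
  have ww' : ∀ v w, G.InW b c v → G.InW b c w → K v w = G.f v w • K c b := fun v w hv hw => by
    have := r v c w hv
    rw [hdc v hv, hdw v w hw, map_neg, LinearMap.neg_apply, map_smul] at this
    linear_combination (norm := module) -this
  have bc : K b c = K c b := by
    have := r e e c he
    rw [hdc e he, hdw e e he, map_smul, LinearMap.smul_apply, map_neg, ww' e e he he, ← sub_eq_add_neg,
      ← smul_sub, smul_eq_zero] at this
    exact sub_eq_zero.1 (this.resolve_left heg)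
  have ha := wp_mem h a
  have hz := wp_mem h z
  conv_lhs => rw [wp_decomp G b c a, wp_decomp G b c z]
  simp only [map_add, map_smul, LinearMap.add_apply, LinearMap.smul_apply, bb, bc, bw _ hz, wb _ ha,
    wc _ ha, ww' _ _ ha hz, smul_zero, zero_add, add_zero]
  have ef : G.f (G.wp b c a) (G.wp b c z) =
      G.f a z - G.f c a * G.f b z - G.f b a * G.f c z := by
    rw [wp_f ha]
    simp [wp, G.sym a]
  rw [ef]
  module

variable (G)

/-- Fixed by the Siegel elements of position `i`. -/
noncomputable def Fx (i : Fin (t + 1)) (b c : Fin k → F) : Submodule F (Module.End F (J k (t + 1) → F)) :=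
  ⨅ v : {v // G.InW b c v}, LinearMap.ker (cj (kr i 1 (G.sg b v.1)) - 1)

/-- The type `bb` in position `i`. -/
noncomputable def TB (i : Fin (t + 1)) (b c : Fin k → F) : Submodule F (Module.End F (J k (t + 1) → F)) where
  carrier := {X | ∀ a z, G.cC i X a z = (G.f b a * G.f b z) • G.cC i X c c}
  add_mem' := fun hX hY a z => by rw [cC_add, cC_add, hX, hY, smul_add]
  zero_mem' := fun a z => by rw [cC_zero, cC_zero, smul_zero]
  smul_mem' := fun s X hX a z => by rw [cC_smul, cC_smul, hX, smul_comm]

/-- The type `dd` in position `i`. -/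
noncomputable def TD (i : Fin (t + 1)) (b c : Fin k → F) : Submodule F (Module.End F (J k (t + 1) → F)) where
  carrier := {X | ∀ a z, G.cC i X a z =
    G.f b a • G.cC i X c (G.wp b c z) - G.f b z • G.cC i X c (G.wp b c a)}
  add_mem' := fun hX hY a z => by simp only [cC_add]; rw [hX a z, hY a z]; module
  zero_mem' := fun a z => by simp [cC_zero]
  smul_mem' := fun s X hX a z => by simp only [cC_smul]; rw [hX a z]; module

variable {G} {i : Fin (t + 1)} {b c : Fin k → F} {X : Module.End F (J k (t + 1) → F)}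

lemma mem_Fx : X ∈ G.Fx i b c ↔ ∀ v, G.InW b c v → cj (kr i 1 (G.sg b v)) X = X := by
  simp [Fx, Submodule.mem_iInf, LinearMap.mem_ker, sub_eq_zero]

lemma fx_form (h : G.HB b c) (hk : 3 ≤ k) (hX : X ∈ G.Fx i b c) (a z : Fin k → F) :
    G.cC i X a z = G.f a z • G.cC i X c b + (G.f b a * G.f b z) • G.cC i X c c +
      G.f b a • G.cC i X c (G.wp b c z) - G.f b z • G.cC i X c (G.wp b c a) :=
  bil_form h hk (G.cC i X) (fun v hv a z => cC_dd h.bb hv.1 (mem_Fx.1 hX v hv) a z) a z

lemma TB.eq_op (hX : X ∈ G.TB i b c) : X = op i (G.cC i X c c) (G.bb b) :=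
  G.cC_ext (i := i) fun a z => by
    rw [hX a z, cC_op]; congr 1; simp [G.sym a b, mul_comm]

lemma TB.mem_Li (hX : X ∈ G.TB i b c) (x : J k (t + 1) → F) : X x ∈ Li i b := by
  rw [TB.eq_op hX, bb, op_smulRight]; exact T_mem_Li _ _ _

lemma TB.kill (hX : X ∈ G.TB i b c) {x : J k (t + 1) → F} (hx : ct i (G.f b) x = 0) : X x = 0 := by
  rw [TB.eq_op hX, bb, op_smulRight, hx]; simp

lemma sl_pi (i : Fin (t + 1)) (b c : Fin k → F) {x : J k (t + 1) → F} (hx : ct i (G.f b) x = 0) :
    sl i (LinearMap.id - (G.f b).smulRight c) x = x := by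
  rw [C7F.sl, show LinearMap.id - (G.f b).smulRight c =
    LinearMap.id + (-1 : F) • (G.f b).smulRight c by module, C7F.op_add_right, op_one,
    C7F.op_smul_right]
  simp only [LinearMap.add_apply, LinearMap.id_apply, LinearMap.smul_apply, op_smulRight, hx]
  simp

lemma TD.perp (h : G.HB b c) (hX : X ∈ G.TD i b c) (x : J k (t + 1) → F) :
    ct i (G.f b) (X x) = 0 :=
  LinearMap.congr_fun (lin_ext i (f := (ct i (G.f b)).comp X) (g := 0) fun y z => by
    rw [LinearMap.comp_apply, LinearMap.zero_apply, ← cC_apply, hX b z]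
    simp [h.bb, h.cb, wp]) x

lemma TD.kill (h : G.HB b c) (hX : X ∈ G.TD i b c) (y : J k t → F) : X (T i y b) = 0 :=
  G.ct_sep (i := i) fun a => by
    rw [← cC_apply, hX a b]
    simp [h.bb, h.cb, wp]

lemma TD.mem_Li (h : G.HB b c) (hX : X ∈ G.TD i b c) {x : J k (t + 1) → F}
    (hx : ct i (G.f b) x = 0) : X x ∈ Li i b := by
  have := mem_of_T i (Li i b) (X.comp (sl i (LinearMap.id - (G.f b).smulRight c))) (fun y z => by
    rw [LinearMap.comp_apply, sl_T]
    set u := (LinearMap.id - (G.f b).smulRight c : (Fin k → F) →ₗ[F] (Fin k → F)) z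
    have hu : G.f b u = 0 := by simp [u, h.bc]
    have e : X (T i y u) = T i (G.cC i X c (G.wp b c u) y) b := G.ct_sep (i := i) fun a => by
      rw [← cC_apply, hX a u, hu, ct_T, G.sym a b]
      simp
    rw [e]; exact T_mem_Li _ _ _) x
  rwa [LinearMap.comp_apply, sl_pi i b c hx] at this

lemma TB.le_perp (h : G.HB b c) (hX : X ∈ G.TB i b c) (x : J k (t + 1) → F) :
    ct i (G.f b) (X x) = 0 := ct_Li h.bb (TB.mem_Li hX x)

lemma TB.le_kill (h : G.HB b c) (hX : X ∈ G.TB i b c) (y : J k t → F) : X (T i y b) = 0 :=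
  TB.kill hX (by simp [h.bb])

end Sm

end Cfsg.Agent.C7O
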