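import Cfsg.Agent.Lib.C7O.Eval
import Cfsg.Agent.Lib.C4.SympGen
import Cfsg.Agent.Lib.Orth.Eichler

/-!
# Root elements of the isometry group of a tensor power

* `Sm.qB`, `Sm.RE M u w` : the Eichler transformation of `(u, w)` is in `M`
* `Sm.sk u w` : its nilpotent part, `re_of_inM`, `inM_of_re`
* `Sm.Rt M` : a root element attached to one position
* `Sm.big_of_rt` : it generates the squares of all isometries
* `Sm.rt_of_pair` : two pure vectors with exchanged positions give one
-/

set_option autoImplicit false
set_option linter.unusedSectionVars false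

namespace Cfsg.Agent.C7O

open Matrix Module Cfsg.Agent.Transvect Cfsg.Agent.C7
open Cfsg.Agent.C7F (pr InM T_pr T_pr')
open scoped MatrixGroups
open QuadraticMap (polar)

attribute [-simp] app_apply

variable {F : Type*} [Field F] [Fintype F] {k t n : ℕ}

namespace Sm

variable (G : Sm F k)

/-- Half the tensor power of the form. -/
noncomputable def qB (n : ℕ) : QuadraticForm F (J k n → F) :=
  LinearMap.BilinMap.toQuadraticMap ((2 : F)⁻¹ • G.B n)

lemma qB_apply (x : J k n → F) : G.qB n x = 2⁻¹ * G.B n x x := rfl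

lemma polar_qB (x y : J k n → F) : polar ⇑(G.qB n) x y = G.B n x y := by
  rw [qB, LinearMap.BilinMap.polar_toQuadraticMap]
  simp only [LinearMap.smul_apply, smul_eq_mul, G.B_comm x y]
  have := G.two
  field_simp
  ring

lemma qB_nondeg : (G.qB n).polarBilin.Nondegenerate := by
  refine ⟨fun x hx => G.nd_B x fun y => ?_, fun y hy => G.nd_B y fun x => ?_⟩
  · simpa [polar_qB] using hx y
  · rw [G.B_comm]; simpa [polar_qB] using hy x

lemma qB_zero {x : J k n → F} (h : G.B n x x = 0) : G.qB n x = 0 := by
  rw [qB_apply, h, mul_zero]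

/-- The Eichler transformation of `(u, w)` is in `M`. -/
def RE (M : Subgroup (GL (J k n) F)) (u w : J k n → F) : Prop :=
  ((Orth.eich (G.qB n) u w : Orth.IsoGrp (G.qB n)) : GL (J k n) F) ∈ M

/-- The nilpotent part of an Eichler transformation. -/
noncomputable def sk (n : ℕ) (u w : J k n → F) : Module.End F (J k n → F) :=
  (G.B n u).smulRight w - (G.B n w).smulRight u

@[simp] lemma sk_apply (u w x : J k n → F) : G.sk n u w x = G.B n u x • w - G.B n w x • u := rfl

variable {G} {M : Subgroup (GL (J k n) F)}

lemma app_eich {u w : J k n → F} (hu : G.B n u u = 0) (hw : G.B n w w = 0) (huw : G.B n u w = 0)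
    (x : J k n → F) :
    app ((Orth.eich (G.qB n) u w : Orth.IsoGrp (G.qB n)) : GL (J k n) F) x = x + G.sk n u w x := by
  show Orth.ap (Orth.eich (G.qB n) u w) x = _
  rw [Orth.eich_ap (G.qB_zero hu) (by rw [polar_qB, huw]), polar_qB, polar_qB, qB_apply, hw,
    mul_zero, zero_mul, add_zero, sk_apply]
  abel

lemma re_of_inM {u w : J k n → F} (hu : G.B n u u = 0) (hw : G.B n w w = 0) (huw : G.B n u w = 0)
    (h : InM M (G.sk n u w)) : G.RE M u w := by
  obtain ⟨m, hm, e⟩ := h
  show _ ∈ M
  rwa [show ((Orth.eich (G.qB n) u w : Orth.IsoGrp (G.qB n)) : GL (J k n) F) = m from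
    gl_ext fun x => by rw [app_eich hu hw huw, e]]

lemma inM_of_re {u w : J k n → F} (hu : G.B n u u = 0) (hw : G.B n w w = 0) (huw : G.B n u w = 0)
    (h : G.RE M u w) : InM M (G.sk n u w) := ⟨_, h, app_eich hu hw huw⟩

lemma RE.add {u w w' : J k n → F} (hu : G.B n u u = 0) (hw : G.B n u w = 0) (hw' : G.B n u w' = 0)
    (h : G.RE M u w) (h' : G.RE M u w') : G.RE M u (w + w') := by
  show _ ∈ M
  rw [← Orth.eich_add (G.qB_zero hu) (by rw [polar_qB, hw]) (by rw [polar_qB, hw']), Subgroup.coe_mul]
  exact mul_mem h h'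

lemma re_zero (u : J k n → F) : G.RE M u 0 := by
  show _ ∈ M
  rw [Orth.eich_zero]; exact one_mem M

lemma RE.neg {u w : J k n → F} (h : G.RE M u w) : G.RE M u (-w) := by
  show _ ∈ M
  rw [← Orth.eich_inv, Subgroup.coe_inv]; exact inv_mem h

lemma re_smul_left {u w : J k n → F} {s : F} : G.RE M (s • u) w ↔ G.RE M u (s • w) := by
  show _ ∈ M ↔ _ ∈ M
  rw [Orth.eich_smul_left]

lemma RE.map (hM : M ≤ G.isoGrp n) {u w : J k n → F} (h : G.RE M u w) {g : GL (J k n) F}
    (hg : g ∈ M) : G.RE M (app g u) (app g w) := by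
  let g' : Orth.IsoGrp (G.qB n) := ⟨g, fun x _ => by
    show G.qB n (app g x) = G.qB n x
    rw [qB_apply, qB_apply, hM hg]⟩
  have e : g' * Orth.eich (G.qB n) u w * g'⁻¹ = Orth.eich (G.qB n) (app g u) (app g w) :=
    Orth.conj_eich g' u w
  have := mul_mem (mul_mem hg h) (inv_mem hg)
  show _ ∈ M
  rwa [← e]

lemma RE.flip {u w : J k n → F} (hu : G.B n u u = 0) (hw : G.B n w w = 0) (huw : G.B n u w = 0)
    (h : G.RE M u w) : G.RE M w u :=
  C4.eich_mem_flip (M := M.comap (Cfsg.isometryGroup F ⇑(G.qB n)).subtype) (G.qB_zero hu)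
    (G.qB_zero hw) (by rw [polar_qB, huw]) h

lemma RE.chain {x y z w : J k n → F} (hx : G.B n x x = 0) (hy : G.B n y y = 0) (hz : G.B n z z = 0)
    (hw : G.B n w w = 0) (hxy : G.B n x y = 0) (hzw : G.B n z w = 0) (hxz : G.B n x z = 0)
    (hxw : G.B n x w = 0) (hyw : G.B n y w = 0) (hyz : G.B n y z = 1) (e1 : G.RE M x y)
    (e2 : G.RE M z w) : G.RE M w x :=
  C4.eich_chain (M := M.comap (Cfsg.isometryGroup F ⇑(G.qB n)).subtype) (G.qB_zero hx) (G.qB_zero hy)
    (G.qB_zero hz) (G.qB_zero hw) (by rw [polar_qB, hxy]) (by rw [polar_qB, hzw]) (by rw [polar_qB, hxz])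
    (by rw [polar_qB, hxw]) (by rw [polar_qB, hyw]) (by rw [polar_qB, hyz]) e1 e2

variable (G) in
/-- A root element attached to one position. -/
def Rt (M : Subgroup (GL (J k n) F)) : Prop :=
  ∃ (b c v : Fin k → F) (a : Fin n), G.HB b c ∧ G.InW b c v ∧ G.f v v ≠ 0 ∧
    G.RE M (pr fun _ => b) (pr (Function.update (fun _ => b) a v))

lemma B_pr_zero {p q : Fin n → Fin k → F} (l : Fin n) (h : G.f (p l) (q l) = 0) :
    G.B n (pr p) (pr q) = 0 := by
  rw [B_pr]; exact Finset.prod_eq_zero (Finset.mem_univ l) h

section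

variable {M : Subgroup (GL (J k (t + 1)) F)} {b c : Fin k → F}

variable (G M b) in
/-- The vectors orthogonal to `b ⊗ ⋯ ⊗ b` forming a root element with it. -/
def RS (hb : G.f b b = 0) : AddSubgroup (J k (t + 1) → F) where
  carrier := {w | G.B (t + 1) (pr fun _ => b) w = 0 ∧ G.RE M (pr fun _ => b) w}
  zero_mem' := ⟨map_zero _, re_zero _⟩
  add_mem' := fun {x y} hx hy => ⟨by rw [map_add, hx.1, hy.1, add_zero],
    RE.add (B_pr_zero 0 hb) hx.1 hy.1 hx.2 hy.2⟩
  neg_mem' := fun {x} hx => ⟨by rw [map_neg, hx.1, neg_zero], hx.2.neg⟩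

lemma RS.map (hO : G.Ovg M) {hb : G.f b b = 0} {g : GL (J k (t + 1)) F} (hg : g ∈ M)
    (hfix : app g (pr fun _ => b) = pr fun _ => b) {w : J k (t + 1) → F} (hw : w ∈ RS G M b hb) :
    app g w ∈ RS G M b hb := by
  refine ⟨?_, ?_⟩
  · conv_lhs => rw [← hfix]
    rw [hO.le hg, hw.1]
  · conv => arg 3; rw [← hfix]
    exact hw.2.map hO.le hg

lemma RS.sg_mem (hO : G.Ovg M) (h : G.HB b c) (l : Fin (t + 1)) {u : Fin k → F} (hu : G.InW b c u)
    {p : Fin (t + 1) → Fin k → F} (hp : p l = c) {s : F} (hw : s • pr p ∈ RS G M b h.bb) :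
    s • pr (Function.update p l (c - u - (G.f u u / 2) • b)) ∈ RS G M b h.bb := by
  have := RS.map hO (hO.sq_gen l (sg_mem_sq1 b u h.bb hu.1)) (by
    rw [app_kr_one_pr, sg_fix h.bb hu.1, Function.update_eq_self_iff.2 rfl]) hw
  rwa [map_smul, app_kr_one_pr, hp, sg_apply h.bb hu.1, show
    c + G.f u c • b - G.f b c • u - (G.f b c * G.f u u / 2) • b = c - u - (G.f u u / 2) • b by
      rw [hu.right', h.bc]; module] at this

lemma sg_diff (p : Fin (t + 1) → Fin k → F) (l : Fin (t + 1)) (b c u : Fin k → F) :
    pr (Function.update p l (c - u - (G.f u u / 2) • b)) = pr (Function.update p l c) -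
      pr (Function.update p l u) - (G.f u u / 2) • pr (Function.update p l b) := by
  rw [pr_update_sub, pr_update_sub, pr_update_smul]

/-- Lowering a position: to the complement. -/
lemma RS.low_u (hO : G.Ovg M) (h : G.HB b c) (l : Fin (t + 1)) {u : Fin k → F} (hu : G.InW b c u)
    {p : Fin (t + 1) → Fin k → F} (hp : p l = c) {s : F} (hw : s • pr p ∈ RS G M b h.bb) :
    (-2 * s) • pr (Function.update p l u) ∈ RS G M b h.bb := by
  have h1 := sub_mem (RS.sg_mem hO h l hu hp hw) (RS.sg_mem hO h l hu.neg hp hw)
  convert h1 using 1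
  rw [sg_diff p l b c u, sg_diff p l b c (-u)]
  rw [show G.f (-u) (-u) = G.f u u by simp, ← neg_one_smul F u, pr_update_smul]
  module

/-- Lowering a position: to the singular vector. -/
lemma RS.low_b (hO : G.Ovg M) (h : G.HB b c) (l : Fin (t + 1)) {u : Fin k → F} (hu : G.InW b c u)
    {p : Fin (t + 1) → Fin k → F} (hp : p l = c) {s : F} (hw : s • pr p ∈ RS G M b h.bb) :
    (-G.f u u * s) • pr (Function.update p l b) ∈ RS G M b h.bb := by
  have h1 := sub_mem (add_mem (RS.sg_mem hO h l hu hp hw) (RS.sg_mem hO h l hu.neg hp hw))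
    (add_mem hw hw)
  convert h1 using 1
  have e : pr p = pr (Function.update p l c) := by rw [← hp, Function.update_eq_self]
  rw [e, sg_diff p l b c u, sg_diff p l b c (-u), show G.f (-u) (-u) = G.f u u by simp,
    ← neg_one_smul F u, pr_update_smul]
  have := G.two
  match_scalars <;> field_simp <;> ring

variable (G M b) in
/-- All multiples of the pure vector are in `RS`. -/
def Mn (hb : G.f b b = 0) (p : Fin (t + 1) → Fin k → F) : Prop := ∀ s : F, s • pr p ∈ RS G M b hb

lemma Mn.low_u (hO : G.Ovg M) (h : G.HB b c) (l : Fin (t + 1)) {u : Fin k → F} (hu : G.InW b c u)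
    {p : Fin (t + 1) → Fin k → F} (hp : p l = c) (hw : Mn G M b h.bb p) :
    Mn G M b h.bb (Function.update p l u) := fun s => by
  have := RS.low_u hO h l hu hp (hw (s / -2))
  rwa [mul_div_cancel₀ _ (neg_ne_zero.2 G.two)] at this

lemma Mn.low_b (hO : G.Ovg M) (h : G.HB b c) (l : Fin (t + 1)) {u : Fin k → F} (hu : G.InW b c u)
    (hgu : G.f u u ≠ 0) {p : Fin (t + 1) → Fin k → F} (hp : p l = c) (hw : Mn G M b h.bb p) :
    Mn G M b h.bb (Function.update p l b) := fun s => by
  have := RS.low_b hO h l hu hp (hw (s / -G.f u u))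
  rwa [mul_div_cancel₀ _ (neg_ne_zero.2 hgu)] at this

/-- Lowering a set of positions. -/
lemma Mn.low_set (hO : G.Ovg M) (h : G.HB b c) {u : Fin k → F} (hu : G.InW b c u)
    (hgu : G.f u u ≠ 0) (T : Finset (Fin (t + 1))) : ∀ {p : Fin (t + 1) → Fin k → F},
      (∀ l ∈ T, p l = c) → Mn G M b h.bb p → Mn G M b h.bb (fun l => if l ∈ T then b else p l) := by
  induction T using Finset.induction_on with
  | empty => intro p _ hw; simpa using hw
  | @insert a T haT ih =>
    intro p hp hw
    have := ih (p := Function.update p a b)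
      (fun l hl => by
        rw [Function.update_of_ne (by rintro rfl; exact haT hl)]
        exact hp l (Finset.mem_insert_of_mem hl))
      (Mn.low_b hO h a hu hgu (hp a (Finset.mem_insert_self a T)) hw)
    convert this using 1
    funext l
    by_cases hl : l = a
    · subst hl; simp [haT]
    · simp [hl]

/-- Changing the positions of a set from `b` to `c` in a root element. -/
lemma re_up (hO : G.Ovg M) (h : G.HB b c) {u : Fin k → F} (hu : G.InW b c u) (hgu : G.f u u ≠ 0)
    {p q : Fin (t + 1) → Fin k → F} (T : Finset (Fin (t + 1))) :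
    (∀ l ∈ T, p l = b) → (∀ l ∈ T, q l = b) → (∀ s : F, G.RE M (pr p) (s • pr q)) →
      ∀ s : F, G.RE M (pr fun l => if l ∈ T then c else p l)
        (s • pr fun l => if l ∈ T then c else q l) := by
  induction T using Finset.induction_on generalizing p q with
  | empty => intro _ _ hr s; simpa using hr s
  | @insert a T haT ih =>
    intro hp hq hr s
    have hne : ∀ l ∈ T, l ≠ a := fun l hl e => haT (e ▸ hl)
    have hw : app (G.ww b c u) b = (-(2 / G.f u u)) • c := by
      rw [ww_apply h hu hgu]; simp [h.bb, h.cb, wp, hu.left']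
    have := ih (p := Function.update p a c) (q := Function.update q a c)
      (fun l hl => by rw [Function.update_of_ne (hne l hl)]; exact hp l (Finset.mem_insert_of_mem hl))
      (fun l hl => by rw [Function.update_of_ne (hne l hl)]; exact hq l (Finset.mem_insert_of_mem hl))
      (fun r => by
        have hκ : -(2 / G.f u u) ≠ 0 := neg_ne_zero.2 (div_ne_zero G.two hgu)
        have h1 := (hr (r / (-(2 / G.f u u) * -(2 / G.f u u)))).map hO.le
          (hO.sq_gen a (ww_mem_sq1 h hu))
        rw [map_smul, app_kr_one_pr, app_kr_one_pr, hp a (Finset.mem_insert_self a T),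
          hq a (Finset.mem_insert_self a T), hw, pr_update_smul, pr_update_smul, re_smul_left, smul_smul,
          smul_smul] at h1
        convert h1 using 2
        have := G.two
        field_simp) s
    rw [pr_congr (p := fun l => if l ∈ insert a T then c else p l)
      (q := fun l => if l ∈ T then c else Function.update p a c l) (fun l => by
        by_cases hl : l = a
        · subst hl; simp [haT]
        · simp [hl]), pr_congr (p := fun l => if l ∈ insert a T then c else q l)
      (q := fun l => if l ∈ T then c else Function.update q a c l) (fun l => by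
        by_cases hl : l = a
        · subst hl; simp [haT]
        · simp [hl])]
    exact this

/-- Every multiple of a basic root element, from one. -/
lemma re_scal (hO : G.Ovg M) (h : G.HB b c) {v : Fin k → F} (hv : G.InW b c v) (hgv : G.f v v ≠ 0)
    (a : Fin (t + 1)) (ht : 1 ≤ t)
    (hr : G.RE M (pr fun _ => b) (pr (Function.update (fun _ => b) a v))) :
    Mn G M b h.bb (Function.update (fun _ => b) a v) := by
  set w := pr (Function.update (fun _ => b) a v) with hw
  haveI : Nontrivial (Fin (t + 1)) := Fin.nontrivial_iff_two_le.2 (by omega)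
  have hor : G.B (t + 1) (pr fun _ => b) w = 0 := by
    obtain ⟨l, hl⟩ := exists_ne a
    exact B_pr_zero l (by rw [Function.update_of_ne hl]; exact h.bb)
  have sq : ∀ r : F, (r * r) • w ∈ RS G M b h.bb := fun r => by
    refine ⟨by rw [map_smul, hor, smul_zero], ?_⟩
    rcases eq_or_ne r 0 with rfl | hr0
    · rw [mul_zero, zero_smul]; exact re_zero _
    have hrv : G.f (r • v) (r • v) ≠ 0 := by simp [hr0, hgv]
    set C := G.ww b c (r • v) * G.ww b c v
    have h22 := G.two
    have hb : app C b = (r * r) • b := by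
      simp only [C, map_mul, LinearEquiv.mul_apply]
      rw [ww_apply h hv hgv, ww_apply h (hv.smul r) hrv]
      simp [h.bb, h.cb, h.bc, h.cc, wp, hv.left', hv.right', hv.1, hv.2]
      match_scalars
      field_simp
    have hv' : app C v = v := by
      simp only [C, map_mul, LinearEquiv.mul_apply]
      rw [ww_apply h hv hgv, ww_apply h (hv.smul r) hrv]
      simp [h.bb, h.cb, h.bc, h.cc, wp, hv.left', hv.right', hv.1, hv.2]
      match_scalars
      field_simp
      ring
    have h1 := hr.map hO.le (hO.sq_gen a (mul_mem (ww_mem_sq1 h (hv.smul r)) (ww_mem_sq1 h hv)))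
    rw [hw, app_kr_one_pr, app_kr_one_pr, Function.update_self, hb, hv', Function.update_idem,
      pr_update_smul, Function.update_eq_self_iff.2 rfl, re_smul_left] at h1
    exact h1
  intro s
  classical
  obtain ⟨x, y, e⟩ : ∃ x y : F, x * x + y * y = s := by
    haveI := Fact.mk (CharP.char_is_prime F (ringChar F))
    have hp : ringChar F ≠ 2 := fun e => G.two (by
      have e' := ringChar.Nat.cast_ringChar (R := F)
      rw [e] at e'
      exact_mod_cast e')
    obtain ⟨x, y, e⟩ := FiniteField.exists_root_sum_quadratic (R := F)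
      (f := Polynomial.X ^ 2 - Polynomial.C s) (g := Polynomial.X ^ 2)
      (Polynomial.degree_X_pow_sub_C (by norm_num) _) (by simp)
      (by rw [← Nat.odd_iff]; exact Nat.not_even_iff_odd.1 fun he =>
        hp ((FiniteField.even_card_iff_char_two (F := F)).2 (Nat.even_iff.1 he)))
    simp only [Polynomial.eval_sub, Polynomial.eval_pow, Polynomial.eval_X, Polynomial.eval_C] at e
    exact ⟨x, y, by linear_combination e⟩
  rw [← e, add_smul]
  exact add_mem (sq x) (sq y)

/-- All root elements of the singular pure vector. -/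
theorem perp_mem (hO : G.Ovg M) (h : G.HB b c) (hk : 3 ≤ k) (ht : 1 ≤ t) {v : Fin k → F}
    (hv : G.InW b c v) (hgv : G.f v v ≠ 0) (a : Fin (t + 1))
    (hm : Mn G M b h.bb (Function.update (fun _ => b) a v)) {w : J k (t + 1) → F}
    (hw : G.B (t + 1) (pr fun _ => b) w = 0) : G.RE M (pr fun _ => b) w := by
  haveI : Nontrivial (Fin (t + 1)) := Fin.nontrivial_iff_two_le.2 (by omega)
  classical
  have h0 : G.B (t + 1) (pr fun _ => b) (pr fun _ => b) = 0 := B_pr_zero 0 h.bb
  let R : ∀ (a : Fin (t + 1)) (x y : Fin k → F), Fin (t + 1) → Fin k → F := fun a x y =>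
    fun l => if l = a then x else y
  -- a position with `v` gives the transposed vector
  have hz : ∀ (a : Fin (t + 1)) (u : Fin k → F), Mn G M b h.bb (Function.update (fun _ => b) a u) →
      ∀ s : F, G.RE M (pr (R a b c)) (s • pr (R a u c)) := fun a u hu s => by
    have := re_up hO h hv hgv (p := fun _ => b) (q := Function.update (fun _ => b) a u)
      (Finset.univ.erase a) (fun _ _ => rfl)
      (fun l hl => Function.update_of_ne (Finset.ne_of_mem_erase hl) _ _) (fun r => (hu r).2) s
    rw [pr_congr (p := R a b c) (q := fun l => if l ∈ Finset.univ.erase a then c else b) (fun l => by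
        by_cases hl : l = a <;> simp [R, hl]),
      pr_congr (p := R a u c) (q := fun l => if l ∈ Finset.univ.erase a then c else
        Function.update (fun _ => b) a u l) (fun l => by by_cases hl : l = a <;> simp [R, hl])]
    exact this
  have step1 : ∀ (a : Fin (t + 1)) (u : Fin k → F), G.InW b c u → G.f u u ≠ 0 →
      Mn G M b h.bb (Function.update (fun _ => b) a u) → Mn G M b h.bb (R a b c) := by
    intro a u hu hgu hm
    obtain ⟨l, hl⟩ := exists_ne a
    intro s
    have hx : G.B (t + 1) (pr fun _ => b) (s • pr (R a b c)) = 0 := by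
      rw [map_smul, B_pr_zero a (by simp [R, h.bb]), smul_zero]
    refine ⟨hx, ?_⟩
    rcases eq_or_ne s 0 with rfl | hs
    · rw [zero_smul]; exact re_zero _
    have hz0 : G.B (t + 1) (pr (R a b c)) (pr (R a b c)) = 0 := B_pr_zero a (by simp [R, h.bb])
    have hz1 : G.B (t + 1) (pr (R a u c)) (pr (R a u c)) = 0 := B_pr_zero l (by simp [R, hl, h.cc])
    have hzz : G.B (t + 1) (pr (R a b c)) (pr (R a u c)) = 0 := B_pr_zero a (by simp [R, hu.1])
    have e2 := RE.flip hz0 (by simp [hz1]) (by simp [hzz]) (hz a u hm (s / G.f u u))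
    rw [re_smul_left] at e2
    -- `x = b^n`, `y = u` at `a`, `z = u / f(u,u)`, `w = b` at `a`
    refine RE.flip (by simp [hz0]) h0 (by rw [G.B_comm, hx]) (RE.chain (y := pr (Function.update (fun _ => b) a u))
      (z := (G.f u u)⁻¹ • pr (R a u c)) h0 (B_pr_zero l (by simp [hl, h.bb]))
      (by simp [hz1]) (by simp [hz0]) (B_pr_zero l (by simp [hl, h.bb]))
      (by rw [map_smul, map_smul, LinearMap.smul_apply, G.B_comm, hzz]; simp)
      (by rw [map_smul, B_pr_zero a (by simp [R, hu.1]), smul_zero]) hx
      (by rw [map_smul, B_pr_zero a (by simp [R, hu.left']), smul_zero]) ?_ ?_ ?_)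
    · rw [map_smul, B_pr, Finset.prod_eq_single a (fun j _ hj => by simp [R, hj, h.bc])
        (by simp), Function.update_self]
      simp [R, hgu]
    · simpa using (hm 1).2
    · rw [re_smul_left, smul_smul]
      convert e2 using 2
      rw [inv_mul_eq_div]
  have bc1 : ∀ a : Fin (t + 1), Mn G M b h.bb (R a b c) := by
    intro l
    have other : ∀ a l, l ≠ a → Mn G M b h.bb (R a b c) →
        Mn G M b h.bb (Function.update (fun _ => b) l v) := fun a l hla hmn => by
      have := Mn.low_set hO h hv hgv ((Finset.univ.erase a).erase l) (p := Function.update (R a b c) l v)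
        (fun j hj => by
          simp only [Finset.mem_erase] at hj
          rw [Function.update_of_ne hj.1]; simp [R, hj.2.1])
        (Mn.low_u hO h l hv (by simp [R, hla]) hmn)
      convert this using 1
      funext j
      by_cases hj : j = l
      · subst hj; simp
      by_cases hja : j = a
      · subst hja; simp [R, hj]
      · simp [hj, hja]
    rcases eq_or_ne l a with rfl | hla
    · exact step1 l v hv hgv hm
    · exact step1 l v hv hgv (other a l hla (step1 a v hv hgv hm))
  have vmon : ∀ (a : Fin (t + 1)) (u : Fin k → F), G.InW b c u →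
      Mn G M b h.bb (Function.update (fun _ => b) a u) := fun a u hu => by
    obtain ⟨l, hl⟩ := exists_ne a
    have := Mn.low_set hO h hv hgv ((Finset.univ.erase l).erase a) (p := Function.update (R l b c) a u)
      (fun j hj => by
        simp only [Finset.mem_erase] at hj
        rw [Function.update_of_ne hj.1]; simp [R, hj.2.1])
      (Mn.low_u hO h a hu (by simp [R, hl.symm]) (bc1 l))
    convert this using 1
    funext j
    by_cases hj : j = a
    · subst hj; simp
    by_cases hjl : j = l
    · subst hjl; simp [R, hj]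
    · simp [hj, hjl]
  have uc : ∀ (a : Fin (t + 1)) (u : Fin k → F), G.InW b c u → G.f u u ≠ 0 →
      Mn G M b h.bb (R a u c) := by
    intro a u hu hgu s
    obtain ⟨l, hl⟩ := exists_ne a
    have hx : G.B (t + 1) (pr fun _ => b) (s • pr (R a u c)) = 0 := by
      rw [map_smul, B_pr_zero a (by simp [R, hu.1]), smul_zero]
    refine ⟨hx, ?_⟩
    have hy : Mn G M b h.bb (R a c b) := by
      have := Mn.low_set hO h hv hgv ((Finset.univ.erase a).erase l) (p := R l b c)
        (fun j hj => by simp only [Finset.mem_erase] at hj; simp [R, hj.1])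
        (bc1 l)
      convert this using 1
      funext j
      by_cases hj : j = a
      · subst hj; simp [R, hl.symm]
      by_cases hjl : j = l
      · subst hjl; simp [R, hj]
      · simp [R, hj, hjl]
    have hw1 : G.B (t + 1) (pr (R a u c)) (pr (R a u c)) = 0 := B_pr_zero l (by simp [R, hl, h.cc])
    refine RE.flip (by simp [hw1]) h0 (by rw [G.B_comm, hx]) (RE.chain (y := pr (R a c b))
      (z := pr (R a b c)) h0 (B_pr_zero a (by simp [R, h.cc])) (B_pr_zero a (by simp [R, h.bb]))
      (by simp [hw1]) (B_pr_zero l (by simp [R, hl, h.bb]))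
      (by rw [map_smul, B_pr_zero a (by simp [R, hu.1]), smul_zero])
      (B_pr_zero a (by simp [R, h.bb])) hx
      (by rw [map_smul, B_pr_zero a (by simp [R, hu.2]), smul_zero]) ?_ ?_ (hz a u (vmon a u hu) s))
    · rw [B_pr]; exact Finset.prod_eq_one fun j _ => by by_cases hj : j = a <;> simp [R, hj, h.bc, h.cb]
    · simpa using (hy 1).2
  -- every monomial but the opposite one
  have mon : ∀ p : Fin (t + 1) → Fin k → F, (∀ l, p l = b ∨ p l = c ∨ G.InW b c (p l)) →
      (∃ l, p l ≠ c) → Mn G M b h.bb p := by
    intro p hp hne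
    have down : ∀ (a : Fin (t + 1)) (x : Fin k → F), Mn G M b h.bb (R a x c) → p a = x →
        Mn G M b h.bb p := by
      intro a x hx hpa
      suffices H : ∀ T : Finset (Fin (t + 1)), a ∉ T →
          Mn G M b h.bb (fun l => if l ∈ T then p l else R a x c l) by
        have := H (Finset.univ.erase a) (Finset.notMem_erase a _)
        convert this using 1
        funext l
        by_cases hl : l = a <;> simp [R, hl, hpa]
      intro T
      induction T using Finset.induction_on with
      | empty => intro _; simpa using hx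
      | @insert j T hjT ih =>
        intro haj
        simp only [Finset.mem_insert, not_or] at haj
        set q := fun l => if l ∈ T then p l else R a x c l
        have hq : q j = c := by simp [q, hjT, R, Ne.symm haj.1]
        have hi : Mn G M b h.bb q := ih haj.2
        suffices Mn G M b h.bb (Function.update q j (p j)) by
          convert this using 1
          funext l
          by_cases hl : l = j
          · subst hl; simp
          · simp [q, hl]
        rcases hp j with hj | hj | hj
        · rw [hj]; exact Mn.low_b hO h j hv hgv hq hi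
        · rw [Function.update_eq_self_iff.2 (hj.trans hq.symm)]; exact hi
        · exact Mn.low_u hO h j hj hq hi
    by_cases hb' : ∃ a, p a = b
    · obtain ⟨a, ha⟩ := hb'
      exact down a b (bc1 a) ha
    push Not at hb'
    obtain ⟨a, ha⟩ := hne
    have hu : G.InW b c (p a) := ((hp a).resolve_left (hb' a)).resolve_left ha
    refine down a (p a) ?_ rfl
    by_cases hgu : G.f (p a) (p a) = 0
    · obtain ⟨u', hu', hgu', hgs⟩ : ∃ u', G.InW b c u' ∧ G.f u' u' ≠ 0 ∧ G.f (p a + u') (p a + u') ≠ 0 := by
        by_cases hs : G.f (p a + v) (p a + v) = 0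
        · refine ⟨-v, hv.neg, by simpa using hgv, fun hs' => hgv ?_⟩
          have := G.two
          rw [f_add_self, hgu] at hs hs'
          simp at hs hs'
          have : (2 : F) * G.f v v = 0 := by linear_combination hs + hs'
          simpa [G.two] using this
        · exact ⟨v, hv, hgv, hs⟩
      intro s
      have h1 := sub_mem (uc a _ (hu.add hu') hgs s) (uc a u' hu' hgu' s)
      convert h1 using 1
      have e : ∀ x, R a x c = Function.update (fun _ => c) a x := fun x => by
        funext l; by_cases hl : l = a <;> simp [R, hl]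
      rw [e, e, e, pr_update_add, smul_add, add_sub_cancel_right]
    · exact uc a (p a) hu hgu
  -- expansion
  have hall : ∀ x, x - G.B (t + 1) (pr fun _ => b) x • pr (fun _ => c) ∈ RS G M b h.bb := by
    have hbase : ∀ p : Fin (t + 1) → Fin k → F, (∀ l, p l = b ∨ p l = c ∨ G.InW b c (p l)) → ∀ s : F,
        s • pr p - G.B (t + 1) (pr fun _ => b) (s • pr p) • pr (fun _ => c) ∈ RS G M b h.bb := by
      intro p hp s
      by_cases hne : ∃ l, p l ≠ c
      · obtain ⟨l, hl⟩ := hne
        rw [(mon p hp ⟨l, hl⟩ s).1, zero_smul, sub_zero]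
        exact mon p hp ⟨l, hl⟩ s
      · push Not at hne
        rw [pr_congr hne, map_smul, B_pr, Finset.prod_eq_one fun j _ => h.bc, smul_eq_mul, mul_one, sub_self]
        exact zero_mem _
    have hsplit : ∀ (T : Finset (Fin (t + 1))) (q : Fin (t + 1) → Fin k → F),
        (∀ l ∉ T, q l = b ∨ q l = c ∨ G.InW b c (q l)) → ∀ s : F,
        s • pr q - G.B (t + 1) (pr fun _ => b) (s • pr q) • pr (fun _ => c) ∈ RS G M b h.bb := by
      intro T
      induction T using Finset.induction_on with
      | empty => exact fun q hq => hbase q fun l => hq l (Finset.notMem_empty l)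
      | @insert j T hjT ih =>
        intro q hq s
        have hstep : ∀ x, (x = b ∨ x = c ∨ G.InW b c x) → ∀ r : F,
            r • pr (Function.update q j x) - G.B (t + 1) (pr fun _ => b) (r • pr (Function.update q j x)) •
              pr (fun _ => c) ∈ RS G M b h.bb := fun x hx r => ih _ (fun l hl => by
          by_cases hlj : l = j
          · subst hlj; simpa using hx
          · rw [Function.update_of_ne hlj]
            exact hq l fun hh => (Finset.mem_insert.1 hh).elim hlj hl) r
        have e : pr q = pr (Function.update q j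
            (G.f c (q j) • b + G.f b (q j) • c + G.wp b c (q j))) := by
          rw [← wp_decomp, Function.update_eq_self]
        have h3 := add_mem (add_mem (hstep b (.inl rfl) (s * G.f c (q j)))
          (hstep c (.inr (.inl rfl)) (s * G.f b (q j)))) (hstep _ (.inr (.inr (wp_mem h (q j)))) s)
        convert h3 using 1
        rw [e, pr_update_add, pr_update_add, pr_update_smul, pr_update_smul]
        simp only [smul_add, map_add, add_smul, smul_smul]
        abel
    intro x
    have hy : x ∈ Submodule.span F (Set.range (pr : (Fin (t + 1) → Fin k → F) → _)) := by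
      rw [C7F.span_pr]; trivial
    have : ∀ s : F, s • x - G.B (t + 1) (pr fun _ => b) (s • x) • pr (fun _ => c) ∈ RS G M b h.bb := by
      induction hy using Submodule.span_induction with
      | mem y hy => obtain ⟨q, rfl⟩ := hy; exact hsplit Finset.univ q (by simp)
      | zero => intro s; simp
      | add y z _ _ h1 h2 =>
        intro s
        have := add_mem (h1 s) (h2 s)
        convert this using 1
        simp only [smul_add, map_add, add_smul]
        abel
      | smul r y _ h1 => intro s; rw [smul_smul]; exact h1 _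
    simpa using this 1
  have := hall w
  rw [hw, zero_smul, sub_zero] at this
  exact this.2

/-- A root element generates the squares of the isometries. -/
theorem big_of_rt (hO : G.Ovg M) (hk : 3 ≤ k) (ht : 1 ≤ t) (hR : G.Rt M) : G.Big M := by
  classical
  obtain ⟨b, c, v, a, h, hv, hgv, hr⟩ := hR
  haveI : Nontrivial (Fin (t + 1)) := Fin.nontrivial_iff_two_le.2 (by omega)
  obtain ⟨l, hl⟩ := exists_ne a
  have hm := re_scal hO h hv hgv a ht hr
  have hm' : Mn G M c h.cc (Function.update (fun _ => c) a v) := by
    intro s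
    refine ⟨by rw [map_smul, B_pr_zero l (by simp [hl, h.cc]), smul_zero], ?_⟩
    have h1 := re_up hO h hv hgv (p := fun _ => b) (q := Function.update (fun _ => b) a v)
      (Finset.univ.erase a) (fun _ _ => rfl)
      (fun j hj => Function.update_of_ne (Finset.ne_of_mem_erase hj) _ _) (fun r => (hm r).2)
      (s * (G.f v v / 2))
    have h2 := h1.map hO.le (hO.sq_gen a (ww_mem_sq1 h hv))
    rw [map_smul, app_kr_one_pr, app_kr_one_pr] at h2
    simp only [Finset.mem_erase, ne_eq, not_true, false_and, if_false, Function.update_self] at h2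
    have eb : app (G.ww b c v) b = (-(2 / G.f v v)) • c := by
      rw [ww_apply h hv hgv]; simp [h.bb, h.cb, wp, hv.left']
    have ev : app (G.ww b c v) v = (-1 : F) • v := by
      rw [ww_apply h hv hgv]; simp [hv.1, hv.2, wp]; match_scalars; field_simp; ring
    rw [eb, ev, pr_update_smul, pr_update_smul, re_smul_left, smul_smul, smul_smul,
      pr_congr (q := fun _ => c) (fun j => by by_cases hj : j = a <;> simp [hj]),
      pr_congr (p := Function.update _ a v) (q := Function.update (fun _ => c) a v)
        (fun j => by by_cases hj : j = a <;> simp [hj])] at h2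
    convert h2 using 2
    have := G.two
    field_simp
  intro g hg
  set u : J k (t + 1) → F := pr fun _ => b
  set u' : J k (t + 1) → F := pr fun _ => c
  have hp : Orth.HPair (G.qB (t + 1)) u u' :=
    ⟨G.qB_zero (B_pr_zero 0 h.bb), G.qB_zero (B_pr_zero 0 h.cc), by
      rw [polar_qB, B_pr, Finset.prod_eq_one fun j _ => h.bc]⟩
  have hG : Orth.Good (G.qB (t + 1)) := Orth.Good.of_two_ne_zero G.qB_nondeg G.two
  let g' : Orth.IsoGrp (G.qB (t + 1)) := ⟨g, fun x _ => by
    show G.qB _ (app g x) = G.qB _ x
    rw [qB_apply, qB_apply, hg]⟩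
  have hΩ : g' * g' ∈ Cfsg.Omega F ⇑(G.qB (t + 1)) := by
    rw [Orth.mem_omega_iff hG, Orth.dick_mul hG, Orth.spin_mul hG]
    refine ⟨?_, ?_⟩
    · rcases Orth.dick_eq_or g' with h | h <;> rw [h] <;> norm_num
    · rcases Orth.spin_eq_or hG g' with h | h <;> rw [h] <;> norm_num
  have hcard : 4 ≤ Fintype.card (J k (t + 1)) := by
    simp only [C7.J, Fintype.card_fun, Fintype.card_fin]
    calc 4 ≤ 3 ^ 2 := by norm_num
      _ ≤ k ^ 2 := Nat.pow_le_pow_left hk 2
      _ ≤ k ^ (t + 1) := Nat.pow_le_pow_right (by omega) (by omega)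
  rw [Orth.omega_eq_eichPair hG hcard (.inl (Orth.exists_scalar_of_two_ne_zero G.two)) hp] at hΩ
  refine (Subgroup.closure_le (M.comap (Cfsg.isometryGroup F ⇑(G.qB (t + 1))).subtype)).2 ?_ hΩ
  rintro _ ⟨w, hw, rfl | rfl⟩
  · exact perp_mem hO h hk ht hv hgv a hm (by rw [← polar_qB]; exact (Orth.mem_perp.1 hw).1)
  · exact perp_mem hO h.swap hk ht hv.swap hgv a hm' (by rw [← polar_qB]; exact (Orth.mem_perp.1 hw).2)

/-- Two pure vectors with exchanged positions. -/
theorem rt_of_pair (hO : G.Ovg M) (h : G.HB b c) (hk : 3 ≤ k) (S : Finset (Fin (t + 1)))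
    (hS : S.Nonempty) (hS' : S ≠ Finset.univ) {s : F} (hs : s ≠ 0)
    (hr : G.RE M (pr fun _ => b) (s • pr fun l => if l ∈ S then c else b)) : G.Rt M := by
  classical
  obtain ⟨v, hv, hgv⟩ := exists_aniso h hk
  obtain ⟨j, hj⟩ : ∃ j, j ∉ S := by
    by_contra! hall; exact hS' (Finset.eq_univ_iff_forall.2 hall)
  obtain ⟨a, ha⟩ := hS
  have h0 : s • pr (fun l => if l ∈ S then c else b) ∈ RS G M b h.bb :=
    ⟨by rw [map_smul, B_pr_zero j (by simp [hj, h.bb]), smul_zero], hr⟩
  suffices H : ∀ T : Finset (Fin (t + 1)), a ∉ T → T ⊆ S →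
      ∃ r : F, r ≠ 0 ∧ r • pr (fun l => if l ∈ S ∧ l ∉ T then c else b) ∈ RS G M b h.bb by
    obtain ⟨r, hr0, h1⟩ := H (S.erase a) (Finset.notMem_erase a S) (Finset.erase_subset a S)
    have h2 := RS.low_u hO h a hv (p := fun l => if l ∈ S ∧ l ∉ S.erase a then c else b) (by simp [ha]) h1
    rw [← pr_update_smul, pr_congr (q := Function.update (fun _ => b) a ((-2 * r) • v)) (fun l => by
      by_cases hl : l = a
      · subst hl; simp
      · simp [hl])] at h2
    exact ⟨b, c, (-2 * r) • v, a, h, hv.smul _, by simp [hgv, hr0, G.two], h2.2⟩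
  intro T
  induction T using Finset.induction_on with
  | empty => exact fun _ _ => ⟨s, hs, by simpa using h0⟩
  | @insert l T hlT ih =>
    intro ha' hsub
    obtain ⟨r, hr0, h1⟩ := ih (fun hh => ha' (Finset.mem_insert_of_mem hh))
      fun x hx => hsub (Finset.mem_insert_of_mem hx)
    refine ⟨-G.f v v * r, mul_ne_zero (neg_ne_zero.2 hgv) hr0, ?_⟩
    have h2 := RS.low_b hO h l hv (p := fun j => if j ∈ S ∧ j ∉ T then c else b)
      (by simp [hsub (Finset.mem_insert_self l T), hlT]) h1
    convert h2 using 3
    funext j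
    by_cases hjl : j = l
    · subst hjl; simp
    · simp [hjl]

end

end Sm

end Cfsg.Agent.C7O
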