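import Cfsg.Agent.Lib.C7O.Tools
import Cfsg.Agent.Lib.C7O.Root
import Cfsg.Agent.Lib.C4.Basic

/-!
# The second level of the radical of a line is trivial

* `Sm.TB.of` : operators into a line killing its orthogonal are of type `bb`
* `Sm.scal_op`, `sl_nest_pi` : scalar operators in a position
* `Sm.eq_zero_of_level2` : no non-trivial `1 + X`, `X` of type `bb`, in an overgroup
-/

set_option autoImplicit false
set_option linter.unusedSectionVars false

namespace Cfsg.Agent.C7O

open Matrix Module Cfsg.Agent.Transvect Cfsg.Agent.C7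
open Cfsg.Agent.C7F (op op_T op_one pr T_pr T_pr' pt pt_pr pt_comp sl sl_T sl_pr InM res mem_res_iff)
open scoped MatrixGroups

attribute [-simp] app_apply

variable {F : Type*} [Field F] [Fintype F] {k t : ℕ}

namespace Sm

variable {G : Sm F k} {b c : Fin k → F}

/-- Operators into a line killing its orthogonal. -/
lemma TB.of (h : G.HB b c) {i : Fin (t + 1)} {X : Module.End F (J k (t + 1) → F)}
    (h1 : ∀ x, X x ∈ Li i b) (h2 : ∀ x, ct i (G.f b) x = 0 → X x = 0) : X ∈ G.TB i b c := fun a z => by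
  refine LinearMap.ext fun y => ?_
  rw [LinearMap.smul_apply, cC_apply, cC_apply]
  have e : X (T i y z) = G.f b z • X (T i y c) := by
    rw [← sub_eq_zero, ← map_smul, ← map_sub]
    exact h2 _ (by simp [h.bc])
  rw [e, map_smul]
  obtain ⟨w, hw⟩ := h1 (T i y c)
  rw [← hw, LinearMap.flip_apply, ct_T, ct_T, h.cb, one_smul, smul_smul, G.sym a b, mul_comm]

/-- Operators scalar in a position. -/
lemma scal_op {m : Fin (t + 1)} {X : Module.End F (J k (t + 1) → F)} (hX : G.Scal m X) :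
    ∃ P : Module.End F (J k t → F), X = op m P LinearMap.id := by
  obtain ⟨P, hP⟩ := hX
  exact ⟨P, G.cC_ext (i := m) fun a z => by rw [hP, cC_op, LinearMap.id_apply]⟩

lemma scal_TB_zero (h : G.HB b c) {m : Fin (t + 1)} {X : Module.End F (J k (t + 1) → F)}
    (hS : G.Scal m X) (hT : X ∈ G.TB m b c ∨ X ∈ G.TD m b c) : X = 0 := by
  obtain ⟨P, hP⟩ := hS
  suffices P = 0 from G.cC_ext (i := m) fun a z => by rw [hP, this, smul_zero, cC_zero]
  rcases hT with hT | hT
  · have := hT c b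
    rw [hP, hP, h.cb, h.cc, one_smul, zero_smul, smul_zero] at this
    exact this
  · have := hT c b
    rw [hP, hP, hP, h.cb, one_smul, show G.wp b c b = 0 by simp [wp, h.bb, h.cb]] at this
    simpa [h.bb] using this

/-- An operator scalar in a position, seen in the other positions. -/
lemma scal_nest (h : G.HB b c) (hk : 1 ≤ k) {s : ℕ} {m : Fin (s + 2)} {i' : Fin (s + 1)}
    {X : Module.End F (J k (s + 2) → F)} {P : Module.End F (J k (s + 1) → F)}
    (hP : X = op m P LinearMap.id) :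
    ((∀ x, ct (m.succAbove i') (G.f b) x = 0 → X x ∈ Li (m.succAbove i') b) →
      ∀ x, ct i' (G.f b) x = 0 → P x ∈ Li i' b) ∧
    ((∀ y, X (T (m.succAbove i') y b) = 0) → ∀ y, P (T i' y b) = 0) := by
  have : Nonempty (Fin k) := ⟨⟨0, by omega⟩⟩
  obtain ⟨u, hu⟩ := exists_ne (0 : Fin k → F)
  obtain ⟨γ, hγ⟩ := C7.exists_dual hu
  constructor
  · intro hX x hx
    have hc : ct (m.succAbove i') (G.f b) (T m x u) = 0 := by
      rw [← sl_pi i' b c hx]
      have : T m (sl i' (LinearMap.id - (G.f b).smulRight c) x) u =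
          sl (m.succAbove i') (LinearMap.id - (G.f b).smulRight c) (T m x u) := by
        rw [C7F.sl_nest, op_T, LinearMap.id_apply]
      rw [this]
      exact LinearMap.congr_fun (lin_ext (m.succAbove i')
        (f := (ct (m.succAbove i') (G.f b)).comp (sl (m.succAbove i') (LinearMap.id - (G.f b).smulRight c)))
        (g := 0) fun a z => by simp [h.bc]) _
    have := ct_mem_Li m i' γ (hX _ hc)
    rwa [hP, op_T, LinearMap.id_apply, ct_T, hγ, one_smul] at this
  · intro hX y
    obtain ⟨a, ha⟩ := nested_mem m i' y b u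
    have := hX a
    rw [← LinearMap.flip_apply (T (m.succAbove i')), ha, hP, op_T, LinearMap.id_apply] at this
    exact (T_eq_zero this).resolve_right hu

variable {M : Subgroup (GL (J k (t + 1)) F)}

lemma InM.skw {X : Module.End F (J k (t + 1) → F)} (hO : G.Ovg M) (h : G.HB b c) {i : Fin (t + 1)}
    (hX : InM M X) (hT : X ∈ G.TB i b c) : G.Skw (t + 1) X := fun x y => by
  obtain ⟨g, hg, e⟩ := hX
  have h1 := hO.le hg x y
  rw [e, e] at h1
  have h2 : G.B (t + 1) (X x) (X y) = 0 := by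
    obtain ⟨a, ha⟩ := TB.mem_Li hT x
    obtain ⟨a', ha'⟩ := TB.mem_Li hT y
    rw [← ha, ← ha', LinearMap.flip_apply, LinearMap.flip_apply, B_T, h.bb, mul_zero]
  simp only [map_add, LinearMap.add_apply, h2] at h1
  linear_combination h1

/-- The second level of the radical of a line. -/
theorem eq_zero_of_level2 (hO : G.Ovg M) (hR : ¬ G.Rt M) (hres : ∀ m, res m M ≤ Wr F k t)
    (hk : 3 ≤ k) (hex : ¬ (Fintype.card F = 3 ∧ k = 3)) (h : G.HB b c) (i : Fin (t + 1))
    {X : Module.End F (J k (t + 1) → F)} (hT : X ∈ G.TB i b c) (hX : InM M X) : X = 0 := by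
  classical
  by_contra hX0
  have hmul : ∀ Y Z, Y ∈ G.TB i b c → Z ∈ G.TB i b c → ∀ x, Y (Z x) = 0 := fun Y Z hY hZ x =>
    TB.kill hY (TB.le_perp h hZ x)
  let V : AddSubgroup (Module.End F (J k (t + 1) → F)) :=
    { carrier := {Y | Y ∈ G.TB i b c ∧ InM M Y}
      zero_mem' := ⟨zero_mem _, InM.zero⟩
      add_mem' := fun {Y Z} hY hZ => ⟨add_mem hY.1 hZ.1, hY.2.add hZ.2 (hmul Y Z hY.1 hZ.1)⟩
      neg_mem' := fun {Y} hY => ⟨neg_mem hY.1, hY.2.neg (hmul Y Y hY.1 hY.1)⟩ }
  have hcl : ∀ m ∈ Finset.univ.erase i, G.Cl m b c V := by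
    intro m hm
    have hmi := Finset.ne_of_mem_erase hm
    refine ⟨fun v hv Y hY => ⟨⟨?_, hY.2.conj (hO.sq_gen m (sg_mem_sq1 b v h.bb hv.1))⟩,
      ⟨?_, hY.2.conj (hO.sq_gen m (sg_mem_sq1 c v h.cc hv.2))⟩⟩, fun Y hY => ?_⟩
    · obtain ⟨A, hA⟩ := cj_other (F := F) hmi (G.sg b v)
      rw [hA]; exact TB.cj_rest hY.1 A
    · obtain ⟨A, hA⟩ := cj_other (F := F) hmi (G.sg c v)
      rw [hA]; exact TB.cj_rest hY.1 A
    · have hn1 : (-1 : F) ≠ 0 := neg_ne_zero.2 one_ne_zero
      have e : cj (kr i 1 (G.tor b c (-1))) Y = Y := G.cC_ext (i := i) fun a z => by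
        rw [cC_cj_slot i (G.isI_tor _ _ _), hY.1, (tor_inv_data h hn1 a).1, (tor_inv_data h hn1 z).1,
          hY.1 a z]
        congr 1
        ring
      have h2 : InM M (cj (kr m 1 (G.tor b c (-1)) * kr i 1 (G.tor b c (-1))) Y) :=
        hY.2.conj (hO.pair hmi (G.isI_tor b c (-1)))
      rw [cj_mul, Module.End.mul_apply, e] at h2
      obtain ⟨A, hA⟩ := cj_other (F := F) hmi (G.tor b c (-1))
      exact ⟨by rw [hA]; exact TB.cj_rest hY.1 A, h2⟩
  have hsc : ∀ m ∈ Finset.univ.erase i, ∀ Y ∈ V, Y ≠ 0 → ¬ G.Scal m Y := by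
    intro m hm Y hY hY0 hS
    obtain ⟨P, hP⟩ := scal_op hS
    refine hY0 ?_
    suffices P = 0 by rw [hP, this, C7F.op_zero_left]
    obtain ⟨i', rfl⟩ : ∃ i', m.succAbove i' = i := Fin.exists_succAbove_eq (Finset.ne_of_mem_erase hm).symm
    cases t with
    | zero => exact i'.elim0
    | succ s =>
      have : Nonempty (Fin k) := ⟨⟨0, by omega⟩⟩
      obtain ⟨u, hu⟩ := exists_ne (0 : Fin k → F)
      have hP2 : ∀ y, P (P y) = 0 := fun y => by
        have := hmul Y Y hY.1 hY.1 (T m y u)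
        rw [hP, op_T, op_T, LinearMap.id_apply, LinearMap.id_apply] at this
        exact (T_eq_zero this).resolve_right hu
      set σ := C4.unip P
      have hσ : kr m σ (1 : GL (Fin k) F) ∈ M := by
        obtain ⟨g, hg, e⟩ := hY.2
        rwa [show kr m σ (1 : GL (Fin k) F) = g from gl_ext_T m fun y z => by
          rw [app_kr, e, hP, op_T, C4.unip_apply hP2, map_one, LinearEquiv.coe_one, id_eq,
            LinearMap.id_apply, map_add, LinearMap.add_apply]]
      obtain ⟨hn1, hn2⟩ := scal_nest h (by omega) (i' := i') hP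
      have hfix : ∀ y, app σ (T i' y b) = T i' y b := fun y => by
        rw [C4.unip_apply hP2, hn2 (fun y' => TB.le_kill h hY.1 y') y, add_zero]
      obtain ⟨v, hv, e⟩ := wr_rad h (by omega) (hres m hσ) (iso_of_kr (by omega) (hO.le hσ)) hfix
        fun x hx => by
          rw [C4.unip_apply hP2, add_sub_cancel_left]
          exact hn1 (fun x' _ => TB.mem_Li hY.1 x') x hx
      refine LinearMap.ext fun x => ?_
      have h1 : ∀ w, ct i' (G.f b) w = 0 → P w = 0 := fun w hw => by
        obtain ⟨γ, hγ⟩ := C7.exists_dual hu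
        have hc : Y (T m w u) = 0 := by
          rw [← sl_pi i' b c hw]
          have : T m (sl i' (LinearMap.id - (G.f b).smulRight c) w) u =
              sl (m.succAbove i') (LinearMap.id - (G.f b).smulRight c) (T m w u) := by
            rw [C7F.sl_nest, op_T, LinearMap.id_apply]
          rw [this]
          exact LinearMap.congr_fun (lin_ext (m.succAbove i') (f := Y.comp (sl (m.succAbove i')
            (LinearMap.id - (G.f b).smulRight c))) (g := 0) fun a z => by
              rw [LinearMap.comp_apply, sl_T, LinearMap.zero_apply]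
              exact TB.kill hY.1 (by simp [h.bc])) _
        rw [hP, op_T] at hc
        exact (T_eq_zero hc).resolve_right hu
      have hv0 : v = 0 := G.nd v fun z => by
        rw [← wp_f hv z]
        set w := G.wp b c z
        have hw := wp_mem h z
        obtain ⟨a, ha⟩ := exists_ne (0 : J k s → F)
        have h2 := h1 (T i' a w) (by rw [ct_T, hw.1, zero_smul])
        have h3 := congrArg (fun g => app g (T i' a w)) e
        rw [C4.unip_apply hP2, h2, add_zero, app_kr, map_one, LinearEquiv.coe_one, id_eq] at h3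
        have := T_inj_right ha h3
        rw [sg_apply h.bb hv.1, hw.1] at this
        simp at this
        exact this.resolve_right h.ne_left
      rw [hv0, sg_zero, kr_one] at e
      have := C4.unip_apply hP2 x
      rw [show C4.unip P = (1 : GL _ F) from e, map_one, LinearEquiv.coe_one, id_eq] at this
      rw [LinearMap.zero_apply]
      exact left_eq_add.1 this
  obtain ⟨X₁, ⟨hT1, hX1⟩, h10, hty⟩ := exists_typed h hk hex V
    (fun e => hX0 (by have : X ∈ V := ⟨hT, hX⟩; rwa [e] at this)) _ hcl hsc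
  have hall : ∀ m, X₁ ∈ G.TB m b c ∨ X₁ ∈ G.TD m b c := fun m => by
    by_cases hm : m = i
    · exact .inl (hm ▸ hT1)
    · exact hty m (Finset.mem_erase.2 ⟨hm, Finset.mem_univ m⟩)
  set S := Finset.univ.filter fun l => X₁ ∈ G.TB l b c
  have hS : ∀ l ∈ S, X₁ ∈ G.TB l b c := fun l hl => (Finset.mem_filter.1 hl).2
  have hD : ∀ l ∉ S, X₁ ∈ G.TD l b c := fun l hl =>
    (hall l).resolve_left fun h' => hl (Finset.mem_filter.2 ⟨Finset.mem_univ l, h'⟩)
  have hiS : i ∈ S := Finset.mem_filter.2 ⟨Finset.mem_univ i, hT1⟩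
  set u := pr (F := F) fun _ : Fin (t + 1) => c with hu
  set ξ := X₁ u with hξd
  have hξ0 : ξ ≠ 0 := fun e0 => h10 (eq_zero_of_typed h hall e0)
  have hsupp : G.Supp b c S ξ := supp_of_typed h S hS hD
  have hskw := InM.skw hO h hX1 hT1
  obtain ⟨e, he, heg, heo, hsum⟩ := exists_basis h (by omega)
  -- not all positions are of type `bb`
  have hSu : S ≠ Finset.univ := fun e0 => by
    obtain ⟨ε, -, hne⟩ := exists_coord_ne hsupp hξ0 h e hsum
    refine hne ?_
    rw [pr_congr (q := fun _ => c) fun l => by simp [ev, e0]]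
    have h1 := hskw u u
    rw [← hξd, G.B_comm ξ u] at h1
    have h2 : (2 : F) * G.B _ ξ u = 0 := by linear_combination h1
    exact (mul_eq_zero.1 h2).resolve_left G.two
  obtain ⟨d, hd⟩ : ∃ d, d ∉ S := by
    by_contra! hh; exact hSu (Finset.eq_univ_iff_forall.2 hh)
  set 𝒜 : Set ((Fin k → F) →ₗ[F] (Fin k → F)) :=
    insert LinearMap.id (Set.range fun j => (app (G.rf (e j))).toLinearMap)
  obtain ⟨E, hES, hED, hne⟩ := exists_val_ne hsupp hξ0 h e heg hsum 𝒜 (fun j => by
    refine ⟨(2 : F)⁻¹ • LinearMap.id - (2 : F)⁻¹ • (app (G.rf (e j))).toLinearMap, sub_mem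
      (Submodule.smul_mem _ _ (Submodule.subset_span (Set.mem_insert _ _)))
      (Submodule.smul_mem _ _ (Submodule.subset_span (Set.mem_insert_of_mem _ ⟨j, rfl⟩))), fun w _ => ?_⟩
    simp only [LinearMap.sub_apply, LinearMap.smul_apply, LinearMap.id_apply, LinearEquiv.coe_coe,
      rf_apply, pu_apply]
    have := G.two
    match_scalars <;> field_simp <;> ring)
  let Q : Submonoid (GL (Fin k) F) :=
    { carrier := {A | app A b = b ∧ app A c = c}
      one_mem' := by simp
      mul_mem' := fun {A A'} hA hA' => by simp [hA.1, hA.2, hA'.1, hA'.2] }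
  have hrf : ∀ j, G.rf (e j) ∈ Q := fun j =>
    ⟨by rw [rf_apply, (he j).left']; simp, by rw [rf_apply, (he j).right']; simp⟩
  have hch : ∀ l ∉ S, ∃ A, A ∈ Q ∧ G.IsI A ∧ (app A).toLinearMap = E l := fun l hl => by
    rcases hED l hl with h' | ⟨j, hj⟩
    · exact ⟨1, one_mem Q, isI_one, by rw [h', map_one]; rfl⟩
    · exact ⟨_, hrf j, G.isI_rf _, hj⟩
  choose! A hAQ hAI hAE using hch
  obtain ⟨v, hv, hgv⟩ := exists_aniso h hk
  obtain ⟨H₁, hH₁⟩ := dev_sq1 hO (fun l => if l ∈ S then G.ww b c v else 1) fun l => by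
    split_ifs <;> [exact ww_mem_sq1 h hv; exact one_mem _]
  obtain ⟨H₂, C₂, hH₂, hC₂, hC₂i, hC₂o⟩ := dev_comp hO Sᶜ (s := i) (by simp [hiS]) A
    (fun l hl => hAI l (Finset.mem_compl.1 hl)) Q fun l hl => hAQ l (Finset.mem_compl.1 hl)
  have hdev := hH₁.mul hH₂
  set H := H₁ * H₂
  set C := (fun l => if l ∈ S then G.ww b c v else 1) * C₂ with hC
  set κ := -(2 / G.f v v)
  set κ' := -(G.f v v / 2)
  have hκ : κ ≠ 0 := neg_ne_zero.2 (div_ne_zero G.two hgv)
  have hC2Q : ∀ l ∈ S, C₂ l ∈ Q := fun l hl => by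
    by_cases hli : l = i
    · exact hli ▸ hC₂i
    · rw [hC₂o l (by simp [hl]) hli]; exact one_mem Q
  have hCS : ∀ l ∈ S, app (C l) b = κ • c ∧ app (C l) c = κ' • b := fun l hl => by
    simp only [hC, Pi.mul_apply, hl, if_true, map_mul, LinearEquiv.mul_apply, (hC2Q l hl).1, (hC2Q l hl).2,
      ww_apply h hv hgv]
    simp [wp, h.bb, h.cb, h.bc, h.cc, hv.left', hv.right', κ, κ']
  have hCD : ∀ l ∉ S, C l = A l := fun l hl => by
    simp [hC, hl, hC₂ l (Finset.mem_compl.2 hl)]
  have hCDb : ∀ l ∉ S, app (C l) b = b ∧ app (C l) c = c := fun l hl => hCD l hl ▸ hAQ l hl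
  have hval : G.B _ ξ (app H ξ) ≠ 0 := by
    rw [hdev.apply, hsupp.congr (E' := fun l => if l ∈ S then κ • E l else E l) (fun l hl => by
        simp [hl, (hCS l hl).1, hES l hl, h.cb]) (fun l hl w _ => by
        simp only [hl, if_false, hCD l hl, ← hAE l hl]) h, pt_smul_on, LinearMap.smul_apply, map_smul]
    exact smul_ne_zero (pow_ne_zero _ hκ) hne
  set X' := cj H X₁ with hX'd
  have hX' : InM M X' := hX1.conj hdev.mem
  have hskw' : G.Skw _ X' := hskw.cj (hO.le hdev.mem)
  have hne' : X' ξ ≠ 0 := fun e0 => hval (by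
    have := hskw' ξ (app H u)
    rw [e0, hX'd, cj_apply, app_inv_app, map_zero, LinearMap.zero_apply, ← hξd] at this
    linear_combination this)
  -- the two products
  have hinv : ∀ x, app H⁻¹ x = pt (fun l => (app (C l)⁻¹).toLinearMap) x := hdev.inv.apply
  have hper : ∀ l ∉ S, ∀ x, ct l (G.f b) x = 0 →
      ct l (G.f b) (app H⁻¹ x) = 0 ∧ ct l (G.f b) (app H x) = 0 := by
    intro l hl x hx
    have h1 : app (C l)⁻¹ b = (1 : F) • b := by
      rw [one_smul]; exact (app (C l)).injective (by rw [app_app_inv, (hCDb l hl).1])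
    refine ⟨?_, ?_⟩
    · rw [hinv, ct_pt _ l (μ := 1⁻¹) (fun z => (hdev.isI l).inv.fb h1 one_ne_zero z), hx]; simp
    · rw [hdev.apply, ct_pt _ l (μ := 1⁻¹) (fun z => (hdev.isI l).fb
        (by rw [(hCDb l hl).1, one_smul]) one_ne_zero z), hx]; simp
  set u₀ := pr (F := F) fun _ : Fin (t + 1) => b with hu₀
  set u' := pr (F := F) fun l : Fin (t + 1) => if l ∈ S then c else b with hu'
  have hr1 : ∀ x, X' (X₁ x) ∈ F ∙ u' := fun x =>
    mem_span_pr _ (fun l => by split_ifs <;> [exact h.ne_right; exact h.ne_left]) _ fun l => by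
      rw [hX'd, cj_apply, hdev.apply]
      by_cases hl : l ∈ S
      · rw [if_pos hl]
        have := pt_Li (fun l => (app (C l)).toLinearMap) l (TB.mem_Li (hS l hl) (app H⁻¹ (X₁ x)))
        rw [LinearEquiv.coe_coe, (hCS l hl).1] at this
        exact mem_Li_smul this
      · rw [if_neg hl]
        have := pt_Li (fun l => (app (C l)).toLinearMap) l
          (TD.mem_Li h (hD l hl) (hper l hl _ (TD.perp h (hD l hl) x)).1)
        rwa [LinearEquiv.coe_coe, (hCDb l hl).1] at this
  have hr2 : ∀ x, X₁ (X' x) ∈ F ∙ u₀ := fun x =>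
    mem_span_pr _ (fun l => h.ne_left) _ fun l => by
      by_cases hl : l ∈ S
      · exact TB.mem_Li (hS l hl) _
      · refine TD.mem_Li h (hD l hl) ?_
        rw [hX'd, cj_apply]
        exact (hper l hl _ (TD.perp h (hD l hl) _)).2
  obtain ⟨y₀, hy₀⟩ : ∃ y, G.B (t + 1) u' y = 1 := ⟨pr fun l => if l ∈ S then b else c, by
    rw [B_pr]; exact Finset.prod_eq_one fun l _ => by by_cases hl : l ∈ S <;> simp [hl, h.cb, h.bc]⟩
  obtain ⟨β₀, hβ₀⟩ := Submodule.mem_span_singleton.1 (hr2 y₀)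
  have hadj : ∀ x y, G.B _ (X' (X₁ x)) y = G.B _ x (X₁ (X' y)) := fun x y => by
    rw [hskw', hskw, neg_neg]
  have hα : ∀ x, X' (X₁ x) = (β₀ * G.B _ u₀ x) • u' := fun x => by
    obtain ⟨a, ha⟩ := Submodule.mem_span_singleton.1 (hr1 x)
    have := hadj x y₀
    rw [← ha, ← hβ₀, map_smul, map_smul, LinearMap.smul_apply, hy₀, smul_eq_mul, mul_one, smul_eq_mul,
      G.B_comm u₀ x] at this
    rw [← ha, this]
  have hβ : ∀ y, X₁ (X' y) = (β₀ * G.B _ u' y) • u₀ := fun y => by
    obtain ⟨a, ha⟩ := Submodule.mem_span_singleton.1 (hr2 y)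
    have := hadj u y
    have h1 : G.B (t + 1) u₀ u = 1 := by rw [B_pr]; exact Finset.prod_eq_one fun l _ => h.bc
    rw [← ha, hα, map_smul, map_smul, LinearMap.smul_apply, smul_eq_mul, smul_eq_mul, G.B_comm u₀ u,
      h1, mul_one, mul_one] at this
    rw [← ha, ← this]
  have hβ0 : β₀ ≠ 0 := fun e0 => hne' (by rw [hξd, hα, e0]; simp)
  have hX2 : ∀ x, X₁ (X₁ x) = 0 := hmul X₁ X₁ hT1 hT1
  have hX'2 : ∀ x, X' (X' x) = 0 := fun x => by simp [hX'd, cj_apply, app_inv_app, hX2]
  have hkill : ∀ p : Fin (t + 1) → Fin k → F, p d = b → X₁ (pr p) = 0 := fun p hp => by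
    rw [← T_pr d p, hp]; exact TD.kill h (hD d hd) _
  have hcom := hX1.comm hX' hX2 hX'2
    (fun x => by rw [hα, map_smul, hu', hkill _ (by simp [hd]), smul_zero])
    (fun x => by
      rw [hβ, map_smul, hX'd, cj_apply, hu₀, hinv, pt_pr, hkill _ ?_, map_zero, smul_zero]
      exact (app (C d)).injective (by simp [app_app_inv, (hCDb d hd).1]))
  have hsk : InM M (G.sk (t + 1) u₀ ((-β₀) • u')) := by
    convert hcom using 1
    refine LinearMap.ext fun x => ?_
    rw [LinearMap.sub_apply, LinearMap.comp_apply, LinearMap.comp_apply, hα, hβ, sk_apply, map_smul,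
      LinearMap.smul_apply, smul_eq_mul]
    module
  refine hR (rt_of_pair hO h hk S ⟨i, hiS⟩ hSu (neg_ne_zero.2 hβ0) (re_of_inM (B_pr_zero i h.bb) ?_ ?_ hsk))
  · rw [map_smul, LinearMap.map_smul₂, B_pr_zero d (by simp [hd, h.bb]), smul_zero, smul_zero]
  · rw [map_smul, B_pr_zero d (by simp [hd, h.bb]), smul_zero]

end Sm

end Cfsg.Agent.C7O
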