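import Cfsg.Agent.Lib.C7O.Root
import Cfsg.Agent.Lib.C4.Basic

/-!
# From a restriction to the group

* `Sm.inM_pt_res` : nilpotent skew pure operators trivial in a position, when the restriction is big
* `cj_perm_pt` : conjugation by a permutation of the positions
* `Sm.rt_of_res` : a big restriction gives a root element
-/

set_option autoImplicit false
set_option linter.unusedSectionVars false

namespace Cfsg.Agent.C7O

open Matrix Module Cfsg.Agent.Transvect Cfsg.Agent.C7
open Cfsg.Agent.C7F (op op_T op_pt pr pt pt_pr pt_comp InM res mem_res_iff app_kr_op)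
open scoped MatrixGroups

attribute [-simp] app_apply

variable {F : Type*} [Field F] [Fintype F] {k t n : ℕ}

/-- Conjugating a pure operator by a permutation of the positions. -/
lemma cj_perm_pt {g : GL (J k n) F} {σ : Equiv.Perm (Fin n)}
    (hg : ∀ p, app g (pr p) = pr (p ∘ ⇑σ⁻¹)) (E : Fin n → (Fin k → F) →ₗ[F] (Fin k → F)) :
    (app g).toLinearMap.comp ((pt E).comp (app g⁻¹).toLinearMap) = pt (E ∘ ⇑σ⁻¹) := by
  refine C7F.Fm.ext_pr fun p => ?_
  have e : app g⁻¹ (pr p) = pr (p ∘ ⇑σ) := (app g).injective (by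
    rw [app_app_inv, hg]; congr 1; funext l; simp)
  simp only [LinearMap.comp_apply, LinearEquiv.coe_coe, e, pt_pr, hg]
  congr 1
  funext l
  simp

namespace Sm

variable {G : Sm F k} {M : Subgroup (GL (J k (t + 1)) F)}

lemma pt_sq_zero {E : Fin n → (Fin k → F) →ₗ[F] (Fin k → F)} {m : Fin n}
    (hm : (E m).comp (E m) = 0) (x : J k n → F) : pt E (pt E x) = 0 := by
  rw [← LinearMap.comp_apply, pt_comp]
  have e : (fun l => (E l).comp (E l)) = Function.update (fun l => (E l).comp (E l)) m
      ((0 : F) • (0 : (Fin k → F) →ₗ[F] (Fin k → F))) := by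
    rw [zero_smul, ← hm, Function.update_eq_self]
  rw [e, pt_update_smul, zero_smul, LinearMap.zero_apply]

/-- Pure nilpotent skew operators trivial in position `i`. -/
lemma inM_pt_res {i a : Fin (t + 1)} (hB : G.Big (res i M)) (hai : a ≠ i)
    (E : Fin (t + 1) → (Fin k → F) →ₗ[F] (Fin k → F)) (hi : E i = LinearMap.id)
    (ha : ∀ u v, G.f (E a u) v = -G.f u (E a v))
    (hs : ∀ l, l ≠ a → ∀ u v, G.f (E l u) v = G.f u (E l v))
    {m : Fin (t + 1)} (hm : (E m).comp (E m) = 0) (hmi : m ≠ i) : InM M (pt E) := by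
  obtain ⟨m', rfl⟩ := Fin.exists_succAbove_eq hmi
  obtain ⟨a', rfl⟩ := Fin.exists_succAbove_eq hai
  set E₀ := fun j => E (i.succAbove j) with hE₀
  have hadj : ∀ x y, G.B t (pt E₀ x) y = -G.B t x (pt E₀ y) := fun x y => by
    rw [G.adj_pt (E' := Function.update E₀ a' ((-1 : F) • E₀ a')) (fun l u v => by
      by_cases hl : l = a'
      · subst hl; simp [hE₀, ha]
      · simp [hE₀, hl, hs _ (Fin.succAbove_right_injective.ne hl)]), pt_update_smul,
      Function.update_eq_self]
    simp
  set X := (2 : F)⁻¹ • pt E₀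
  have hsq : ∀ x, X (X x) = 0 := fun x => by simp [X, pt_sq_zero (E := E₀) (m := m') hm]
  set g := C4.unip X
  have hgi : g ∈ G.isoGrp t := fun x y => by
    rw [C4.unip_apply hsq, C4.unip_apply hsq]
    simp [X, hadj, pt_sq_zero (E := E₀) (m := m') hm, G.B_comm x]
  refine ⟨_, mem_res_iff.1 (hB g hgi), fun x => ?_⟩
  have hgg : (app (g * g)).toLinearMap = LinearMap.id + pt E₀ := LinearMap.ext fun y => by
    simp only [map_mul, LinearEquiv.coe_coe, LinearEquiv.mul_apply, g, C4.unip_apply hsq, map_add, hsq,
      LinearMap.add_apply, LinearMap.id_apply]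
    simp only [X, LinearMap.smul_apply]
    have := G.two
    match_scalars <;> field_simp
    norm_num
  rw [← LinearEquiv.coe_coe, app_kr_op, hgg, C7F.op_add_left, map_one, show ((1 : (Fin k → F) ≃ₗ[F] (Fin k → F))).toLinearMap = LinearMap.id from rfl,
    C7F.op_one, op_pt]
  simp only [LinearMap.add_apply, LinearMap.id_apply]
  congr 2
  refine pt_apply_eq fun l => ?_
  obtain rfl | ⟨j, rfl⟩ := i.eq_self_or_eq_succAbove l <;> simp [hi, hE₀]

/-- A big restriction gives a root element. -/
theorem rt_of_res (hO : G.Ovg M) (hk : 3 ≤ k) (ht : 2 ≤ t) {i : Fin (t + 1)} (hB : G.Big (res i M)) :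
    G.Rt M := by
  classical
  obtain ⟨b, c, h⟩ := exists_hb' G hk
  obtain ⟨v, hv, hgv⟩ := exists_aniso h hk
  obtain ⟨a, hai⟩ : ∃ a, a ≠ i := by
    haveI : Nontrivial (Fin (t + 1)) := Fin.nontrivial_iff_two_le.2 (by omega)
    exact exists_ne i
  obtain ⟨l, hli, hla⟩ : ∃ l, l ≠ i ∧ l ≠ a := by
    by_contra! hall
    have : (Finset.univ : Finset (Fin (t + 1))) ⊆ {i, a} := fun l _ => by
      by_cases hl : l = i
      · simp [hl]
      · simp [hall l hl]
    have := (Finset.card_le_card this).trans Finset.card_le_two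
    simp at this; omega
  set D := G.dd b v
  set D' := G.dd c v
  set E := fun x => if x = i then LinearMap.id else if x = a then D else G.bb b with hE
  set E₁ := fun x => if x = a then D' else if x = l then G.bb b else LinearMap.id with hE₁
  have hbb : (G.bb b).comp (G.bb b) = 0 := LinearMap.ext fun z => by simp [h.bb]
  have hbs : ∀ u w, G.f (G.bb b u) w = G.f u (G.bb b w) := fun u w => by
    simp [G.sym u b, mul_comm]
  have hX : InM M (pt E) := inM_pt_res hB hai E (by simp [hE])
    (fun u w => by simp only [hE, hai, if_false, if_true]; exact G.dd_skew b v u w)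
    (fun x hx u w => by
      by_cases hxi : x = i
      · simp [hE, hxi]
      · simp only [hE, hxi, hx, if_false]; exact hbs u w)
    (m := l) (by simp [hE, hli, hla, hbb]) hli
  have hY : InM M (pt E₁) := inM_pt_res hB hai E₁ (by simp [hE₁, Ne.symm hai, Ne.symm hli])
    (fun u w => by simp only [hE₁, if_true]; exact G.dd_skew c v u w)
    (fun x hx u w => by
      by_cases hxl : x = l
      · simp only [hE₁, hla, hxl, if_false, if_true]; exact hbs u w
      · simp [hE₁, hxl, hx])
    (m := l) (by simp [hE₁, hla, hbb]) hli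
  set σ : Equiv.Perm (Fin (t + 1)) := Equiv.swap i a * Equiv.swap a l
  have s1 : σ i = a := by
    simp [σ, Equiv.swap_apply_of_ne_of_ne (Ne.symm hai) (Ne.symm hli)]
  have s2 : σ a = l := by simp [σ, Equiv.swap_apply_of_ne_of_ne hli hla]
  have s3 : σ l = i := by simp [σ]
  have s4 : ∀ x, x ≠ i → x ≠ a → x ≠ l → σ x = x := fun x h1 h2 h3 => by
    simp [σ, Equiv.swap_apply_of_ne_of_ne h2 h3, Equiv.swap_apply_of_ne_of_ne h1 h2]
  have hσ : σ ^ 3 = 1 := Equiv.ext fun x => by
    show σ (σ (σ x)) = x
    by_cases h1 : x = i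
    · subst h1; rw [s1, s2, s3]
    by_cases h2 : x = a
    · subst h2; rw [s2, s3, s1]
    by_cases h3 : x = l
    · subst h3; rw [s3, s1, s2]
    rw [s4 x h1 h2 h3, s4 x h1 h2 h3, s4 x h1 h2 h3]
  obtain ⟨p, hp, ep⟩ := hO.perm3 hσ
  set E' := fun x => if x = i then G.bb b else if x = l then D' else LinearMap.id with hE'
  have hX' : InM M (pt E') := by
    have := hY.conj hp
    rw [cj_perm_pt ep] at this
    convert this using 2
    funext x
    obtain ⟨y, rfl⟩ := σ.surjective x
    simp only [Function.comp_apply, Equiv.Perm.coe_inv, Equiv.symm_apply_apply]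
    by_cases h1 : y = i
    · subst h1; simp [s1, hE', hE₁, hai, Ne.symm hai, Ne.symm hla, Ne.symm hli]
    by_cases h2 : y = a
    · subst h2; simp [s2, hE', hE₁, hli]
    by_cases h3 : y = l
    · subst h3; simp [s3, hE', hE₁, h2]
    simp [s4 y h1 h2 h3, hE', hE₁, h1, h2, h3]
  -- the commutator
  set S := (G.f v).smulRight b + (G.f b).smulRight v with hS
  set K := fun (Z : (Fin k → F) →ₗ[F] (Fin k → F)) x => if x = a then D else if x = l then Z else G.bb b
  have hK : ∀ Z, pt (K Z) = pt (Function.update (K 0) l Z) := fun Z => pt_apply_eq fun x => by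
    by_cases hxl : x = l
    · subst hxl; simp [K, hla]
    · simp [K, hxl]
  have hcom : InM M (pt (K S)) := by
    have hsqX : ∀ x, pt E (pt E x) = 0 := pt_sq_zero (m := l) (by simp [hE, hli, hla, hbb])
    have hsqY : ∀ x, pt E' (pt E' x) = 0 := pt_sq_zero (m := i) (by simp [hE', hbb])
    have zero_of : ∀ (Es : Fin (t + 1) → (Fin k → F) →ₗ[F] (Fin k → F)) m, Es m = 0 → pt Es = 0 :=
      fun Es m hm => by
        rw [show Es = Function.update Es m ((0 : F) • (0 : (Fin k → F) →ₗ[F] (Fin k → F))) by
          rw [zero_smul, ← hm, Function.update_eq_self], pt_update_smul, zero_smul]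
    have h1 : ∀ x, pt E (pt E' (pt E x)) = 0 := fun x => by
      rw [← LinearMap.comp_apply (pt E') (pt E), pt_comp, ← LinearMap.comp_apply, pt_comp,
        zero_of _ l (LinearMap.ext fun z => ?_), LinearMap.zero_apply]
      simp [hE, hE', hli, hla, D', h.bb, h.bc, h.cb, hv.1, hv.left']
    have h2 : ∀ x, pt E' (pt E (pt E' x)) = 0 := fun x => by
      rw [← LinearMap.comp_apply (pt E) (pt E'), pt_comp, ← LinearMap.comp_apply, pt_comp,
        zero_of _ i (LinearMap.ext fun z => ?_), LinearMap.zero_apply]
      simp [hE, hE', h.bb]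
    have := hX.comm hX' hsqX hsqY h1 h2
    rw [pt_comp, pt_comp, pt_apply_eq (E' := Function.update (K 0) l ((G.bb b).comp D')) (fun x => ?_),
      pt_apply_eq (E := fun x => (E' x).comp (E x)) (E' := Function.update (K 0) l (D'.comp (G.bb b)))
        (fun x => ?_)] at this
    rotate_left
    · by_cases hxl : x = l
      · subst hxl; simp [hE, hE', hli, hla]
      by_cases hxi : x = i
      · subst hxi; simp [hE, hE', hxl, K, Ne.symm hai]
      by_cases hxa : x = a
      · subst hxa; simp [hE, hE', hxl, hxi, K]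
      · simp [hE, hE', hxl, hxi, hxa, K]
    · by_cases hxl : x = l
      · subst hxl; simp [hE, hE', hli, hla]
      by_cases hxi : x = i
      · subst hxi; simp [hE, hE', hxl, K, Ne.symm hai]
      by_cases hxa : x = a
      · subst hxa; simp [hE, hE', hxl, hxi, K]
      · simp [hE, hE', hxl, hxi, hxa, K]
    rw [hK, show S = (G.bb b).comp D' + (-1 : F) • D'.comp (G.bb b) from LinearMap.ext fun z => by
      simp [S, D', h.bb, h.bc, h.cb, hv.1, hv.2, hv.left'], pt_update_add, pt_update_smul]
    convert this using 1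
    module
  -- the difference along a Siegel element
  have hg := hO.sq_gen l (sg_mem_sq1 b v h.bb hv.1)
  have hconj : InM M (pt (K (S + (2 * G.f v v) • G.bb b))) := by
    have := hcom.conj hg
    convert this using 1
    refine C7F.Fm.ext_pr fun q => ?_
    have e : app (kr l (1 : GL (J k t) F) (G.sg b v))⁻¹ (pr q) =
        pr (Function.update q l (app (G.sg b v)⁻¹ (q l))) := by
      rw [kr_inv, inv_one, app_kr_one_pr]
    simp only [LinearMap.comp_apply, LinearEquiv.coe_coe, e, pt_pr, app_kr_one_pr]
    congr 1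
    funext x
    by_cases hxl : x = l
    · subst hxl
      simp only [Function.update_self, K, hla, if_false, if_true]
      rw [sg_inv, sg_apply h.bb hv.neg.1]
      simp [S, sg_apply h.bb hv.1, h.bb, hv.1, hv.left']
      module
    · simp [hxl, K]
  have hdiff : InM M (pt (K ((2 * G.f v v) • G.bb b))) := by
    have hneg := hcom.neg (pt_sq_zero (m := i) (by simp [K, Ne.symm hai, Ne.symm hli, hbb]))
    have := hconj.add hneg (fun x => by
      rw [LinearMap.neg_apply, map_neg, ← LinearMap.comp_apply, pt_comp,
        show (fun y => ((K (S + (2 * G.f v v) • G.bb b)) y).comp (K S y)) = Function.update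
          (fun y => ((K (S + (2 * G.f v v) • G.bb b)) y).comp (K S y)) i
            ((0 : F) • (0 : (Fin k → F) →ₗ[F] (Fin k → F))) by
          rw [zero_smul, ← hbb, show (G.bb b).comp (G.bb b) =
            ((K (S + (2 * G.f v v) • G.bb b)) i).comp (K S i) by simp [K, Ne.symm hai, Ne.symm hli],
            Function.update_eq_self],
        pt_update_smul, zero_smul, LinearMap.zero_apply, neg_zero])
    rw [hK, hK S, pt_update_add] at this
    rw [hK]
    simpa using this
  -- it is a root element
  set w := (-(2 * G.f v v)) • v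
  refine ⟨b, c, w, a, h, hv.smul _, by simp [w, hgv, G.two], re_of_inM (B_pr_zero i h.bb)
    (B_pr_zero i (by simp [Ne.symm hai, h.bb])) (B_pr_zero i (by simp [Ne.symm hai, h.bb])) ?_⟩
  convert hdiff using 1
  refine C7F.Fm.ext_pr fun q => ?_
  rw [sk_apply, pt_pr, pr_congr (p := fun x => K ((2 * G.f v v) • G.bb b) x (q x))
    (q := Function.update (Function.update (fun x => G.f b (q x) • b) l ((2 * G.f v v * G.f b (q l)) • b))
      a (D (q a))) (fun x => by
        by_cases hxa : x = a
        · subst hxa; simp [K]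
        by_cases hxl : x = l
        · subst hxl; simp [K, hxa, smul_smul]
        · simp [K, hxa, hxl]), dd_apply, pr_update_sub, pr_update_smul, pr_update_smul]
  simp only [w, pr_update_smul, map_smul, LinearMap.smul_apply, B_pr, smul_eq_mul]
  have key : ∀ z, pr (Function.update (Function.update (fun x => G.f b (q x) • b) l
      ((2 * G.f v v * G.f b (q l)) • b)) a z) = (2 * G.f v v * ∏ x ∈ Finset.univ.erase a, G.f b (q x)) •
      pr (Function.update (fun _ => b) a z) := by
    intro z
    funext g
    simp only [C7F.pr, Pi.smul_apply, smul_eq_mul]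
    rw [← Finset.mul_prod_erase _ _ (Finset.mem_univ a), ← Finset.mul_prod_erase _ (fun j =>
      Function.update (fun _ => b) a z j (g j)) (Finset.mem_univ a)]
    have hla' : l ∈ Finset.univ.erase a := by simp [hla]
    rw [← Finset.mul_prod_erase _ _ hla', ← Finset.mul_prod_erase _ (fun x => G.f b (q x)) hla',
      ← Finset.mul_prod_erase _ (fun j => Function.update (fun _ => b) a z j (g j)) hla']
    have e1 : ∀ j ∈ (Finset.univ.erase a).erase l, Function.update (Function.update
        (fun x => G.f b (q x) • b) l ((2 * G.f v v * G.f b (q l)) • b)) a z j (g j) =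
        G.f b (q j) * Function.update (fun _ => b) a z j (g j) := fun j hj => by
      simp only [Finset.mem_erase] at hj
      simp [hj.1, hj.2.1]
    rw [Finset.prod_congr rfl e1, Finset.prod_mul_distrib]
    simp [hla]
    ring
  rw [key, key, ← Finset.mul_prod_erase _ _ (Finset.mem_univ a),
    ← Finset.mul_prod_erase _ (fun l => G.f (Function.update (fun _ => b) a v l) (q l)) (Finset.mem_univ a)]
  have e2 : ∏ j ∈ Finset.univ.erase a, G.f (Function.update (fun _ => b) a v j) (q j) =
      ∏ j ∈ Finset.univ.erase a, G.f b (q j) :=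
    Finset.prod_congr rfl fun j hj => by rw [Function.update_of_ne (Finset.ne_of_mem_erase hj)]
  rw [e2, Function.update_self, Function.update_eq_self_iff.2 rfl]
  module

end Sm

end Cfsg.Agent.C7O
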