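import Cfsg.Agent.Lib.C7O.LinesBasic
import Cfsg.Agent.Lib.C7O.Res

/-!
# The restriction of a line stabiliser is not big

* `Sm.not_big_Sh'` : the elements stabilising a line do not induce all squares on the other positions
-/

set_option autoImplicit false
set_option linter.unusedSectionVars false

namespace Cfsg.Agent.C7O

open Matrix Module Cfsg.Agent.Transvect Cfsg.Agent.C7
open Cfsg.Agent.C7F (op op_T op_one pr T_pr T_pr' pt pt_pr pt_comp sl sl_T sl_pr kr_nest sl_nest)
open scoped MatrixGroups

attribute [-simp] app_apply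

variable {F : Type*} [Field F] [Fintype F] {k t : ℕ}

lemma pt_split (E : Fin (t + 1) → (Fin k → F) →ₗ[F] (Fin k → F)) (l : Fin (t + 1)) :
    pt E = op l (pt fun j => E (l.succAbove j)) (E l) := by
  rw [C7F.op_pt]; refine pt_apply_eq fun j => ?_
  obtain rfl | ⟨j', rfl⟩ := l.eq_self_or_eq_succAbove j <;> simp

lemma app_pt_slot (a : Fin (t + 1)) (C : GL (Fin k) F) :
    (app (kr a (1 : GL (J k t) F) C)).toLinearMap =
      pt (Function.update (fun _ => LinearMap.id) a (app C).toLinearMap) := by
  rw [pt_update_id, app_kr_one_sl]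

namespace Sm

variable {G : Sm F k}

lemma sg_dd_comm {b c v w : Fin k → F} (h : G.HB b c) (hv : G.InW b c v) (hw : G.InW b c w) :
    (app (G.sg b w)).toLinearMap.comp (G.dd b v) = (G.dd b v).comp (app (G.sg b w)).toLinearMap :=
  LinearMap.ext fun z => by
    simp [sg_apply h.bb hw.1, h.bb, hv.1, hw.1, hv.left', hw.left', G.sym w v]
    module

lemma sg_bb_comm {b c w : Fin k → F} (h : G.HB b c) (hw : G.InW b c w) :
    (app (G.sg b w)).toLinearMap.comp (G.bb b) = (G.bb b).comp (app (G.sg b w)).toLinearMap :=
  LinearMap.ext fun z => by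
    simp [sg_apply h.bb hw.1, h.bb, hw.1, hw.left']

theorem not_big_Sh' {M : Subgroup (GL (J k (t + 1)) F)} (hk : 3 ≤ k) (ht : 2 ≤ t) (hO : G.Ovg M)
    (hrad : G.RadY M) (l : Fin (t + 1)) {b c : Fin k → F} (h : G.HB b c) :
    ¬ G.Big (G.Sh' M l h.bb) := by
  classical
  obtain ⟨s, rfl⟩ : ∃ s, t = s + 1 := ⟨t - 1, by omega⟩
  intro hB
  obtain ⟨v, hv, hgv⟩ := exists_aniso h hk
  have : Nonempty (Fin k) := ⟨⟨0, by omega⟩⟩
  set a : Fin (s + 1) := 0
  set m : Fin (s + 1) := ⟨1, by omega⟩
  have hma : m ≠ a := by simp [a, m, Fin.ext_iff]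
  set E := fun j : Fin (s + 1) => if j = a then G.dd b v else G.bb b with hE
  set X₀ := pt E with hX₀
  have hE2 : (E m).comp (E m) = 0 := LinearMap.ext fun z => by simp [hE, hma, h.bb]
  have hskw : ∀ x y, G.B _ (X₀ x) y = -G.B _ x (X₀ y) := fun x y => by
    rw [hX₀, G.adj_pt (E' := Function.update E a ((-1 : F) • E a)) (fun j u w => by
      by_cases hj : j = a
      · subst hj; rw [Function.update_self, LinearMap.smul_apply, map_smul]
        simp only [hE, if_true, dd_skew, smul_eq_mul]; ring
      · rw [Function.update_of_ne hj]; simp [hE, hj, G.sym u b, mul_comm]), pt_update_smul,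
      Function.update_eq_self]
    simp
  have hsq : ∀ x, X₀ (X₀ x) = 0 := pt_sq_zero hE2
  set Z := (2 : F)⁻¹ • X₀ with hZ
  have hZsq : ∀ x, Z (Z x) = 0 := fun x => by simp [hZ, hsq]
  set g₀ := C4.unip Z
  have hg₀ : g₀ ∈ G.isoGrp (s + 1) := fun x y => by
    rw [C4.unip_apply hZsq, C4.unip_apply hZsq]
    simp [hZ, hskw, hsq, G.B_comm x]
  obtain ⟨X, x, hxM, hx⟩ := hB g₀ hg₀
  have hxv : ∀ y z, app x (T l y z) = T l (app (g₀ * g₀) y) z + G.f b z • T l (X y) b := hx
  set A := g₀ * g₀ with hAd
  have hA : ∀ y, app A y = y + X₀ y := fun y => by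
    simp only [hAd, map_mul, LinearEquiv.mul_apply, g₀, C4.unip_apply hZsq, map_add, hZsq]
    simp only [hZ, LinearMap.smul_apply]
    have := G.two
    match_scalars <;> field_simp
    norm_num
  have hAi : ∀ y, app A⁻¹ y = y - X₀ y := fun y => (app A).injective (by
    rw [app_app_inv, hA, map_sub, hsq]; abel)
  -- `X` is fixed by the Siegel elements
  have hfix : ∀ j : Fin (s + 1), X ∈ G.Fx j b c := fun j => mem_Fx.2 fun w hw => cj_fix_iff.2 fun y => by
    set Y := kr j (1 : GL (J k s) F) (G.sg b w) with hY
    have hcomm : A * Y = Y * A := gl_ext fun y => by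
      simp only [map_mul, LinearEquiv.mul_apply, hA, map_add]
      congr 1
      have e := app_pt_slot (F := F) j (G.sg b w)
      rw [← hY] at e
      rw [← LinearEquiv.coe_coe (app Y), e, hX₀, ← LinearMap.comp_apply, pt_comp,
        ← LinearMap.comp_apply (pt _) (pt E), pt_comp]
      congr 1
      refine pt_apply_eq fun r => ?_
      by_cases hr : r = j
      · subst hr
        by_cases hra : r = a <;> simp only [Function.update_self, hE, hra, if_true, if_false] <;>
          first | exact (sg_dd_comm h hv hw).symm | exact (sg_bb_comm h hw).symm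
      · simp [Function.update_of_ne hr]
    have hm : kr l Y (1 : GL (Fin k) F) ∈ M := by
      rw [hY, kr_nest]; exact hO.sq_gen _ (sg_mem_sq1 b w h.bb hw.1)
    have e1 := hx.mul h.bb (sh_kr (G := G) l b Y)
    have e2 := (sh_kr (G := G) l b Y).mul h.bb hx
    rw [← hcomm] at e2
    have := LinearMap.congr_fun (e1.unique hrad h e2 (mul_mem hxM hm) (mul_mem hm hxM)) y
    simpa using this.symm
  -- the torus
  have hn1 : (-1 : F) ≠ 0 := neg_ne_zero.2 one_ne_zero
  set T₀ := G.tor b c (-1) with hT₀
  have hT₀i : G.IsI T₀ := G.isI_tor _ _ _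
  have hTb : app T₀ b = -b := by rw [hT₀, tor_apply h hn1]; simp [wp, h.bb, h.cb]
  have hTv : app T₀ v = v := by rw [hT₀, tor_apply h hn1]; simp [wp, hv.1, hv.2]
  have hfT : ∀ z, G.f b (app T₀⁻¹ z) = -G.f b z := fun z => by
    rw [G.sym, hT₀i.inv_left, hTb, map_neg, G.sym]
  set Tr := kr a (1 : GL (J k s) F) T₀ with hTr
  set a' := l.succAbove a with ha'
  have hal : a' ≠ l := Fin.succAbove_ne l a
  set P := kr l Tr T₀ with hPd
  have hP : P ∈ M := by
    have := hO.pair hal.symm hT₀i
    rwa [ha', ← kr_nest, kr_mul, one_mul, mul_one] at this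
  have hcj : Tr * A * Tr⁻¹ = A⁻¹ := gl_ext fun y => by
    rw [map_mul, map_mul, LinearEquiv.mul_apply, LinearEquiv.mul_apply, hA, hAi, map_add, app_app_inv]
    have e : ∀ z, app Tr (X₀ z) = -X₀ (app Tr z) := fun z => by
      have e := app_pt_slot (F := F) a T₀
      rw [← hTr] at e
      rw [← LinearEquiv.coe_coe (app Tr), e, hX₀, ← LinearMap.comp_apply, pt_comp,
        ← LinearMap.comp_apply (pt _) (pt _), pt_comp, ← neg_one_smul F]
      rw [show (fun r => (E r).comp (Function.update (fun _ => LinearMap.id) a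
          (app T₀).toLinearMap r)) = Function.update (fun r => (E r).comp (Function.update
            (fun _ => LinearMap.id) a (app T₀).toLinearMap r)) a ((G.dd b v).comp (app T₀).toLinearMap) by
          simp [hE]]
      rw [← LinearMap.smul_apply, ← pt_update_smul]
      congr 1
      refine pt_apply_eq fun r => ?_
      by_cases hr : r = a
      · subst hr
        refine LinearMap.ext fun u => ?_
        have e1 : G.f v (app T₀ u) = G.f v u := by conv_lhs => rw [← hTv, hT₀i]
        have e2 : G.f b (app T₀ u) = -G.f b u := by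
          have := hT₀i b u
          rw [hTb] at this
          simp at this
          linear_combination -this
        simp [hE, hTb, hTv, e1, e2]
        module
      · simp [hE, hr]
    rw [e, app_app_inv]
    abel
  have hPx : G.Sh l b A⁻¹ (cj Tr X) (P * x * P⁻¹) := fun y z => by
    rw [← hcj, hPd, kr_inv]
    simp only [map_mul, LinearEquiv.mul_apply, app_kr]
    rw [hx, map_add, map_smul, app_kr, app_kr, app_app_inv, hTb, hfT, cj_apply, map_neg]
    module
  have hXinv := hPx.unique hrad h (hx.inv h.bb) (mul_mem (mul_mem hP hxM) (inv_mem hP)) (inv_mem hxM)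
  have hAb : ∀ w, app A⁻¹ (T a w b) = T a w b := fun w => by
    rw [hAi, hX₀, pt_split E a, op_T]
    simp [hE, h.bb, hv.left']
  have hPc : G.cC a X c b = 0 := by
    have hXb : ∀ w, X (T a w b) = T a (G.cC a X c b w) b := fun w => G.ct_sep (i := a) fun u => by
      rw [← cC_apply, fx_form h hk (hfix a) u b, ct_T]
      simp [h.bb, wp, h.cb]
    refine LinearMap.ext fun w => ?_
    have e := LinearMap.congr_fun hXinv (T a w b)
    have e2 := congrArg (ct a (G.f c)) e
    rw [← cC_apply, hTr, cC_cj_slot a hT₀i] at e2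
    have i1 : app T₀⁻¹ b = -b := (app T₀).injective (by rw [app_app_inv, map_neg, hTb, neg_neg])
    have i2 : app T₀⁻¹ c = -c := (app T₀).injective (by
      rw [app_app_inv, map_neg, hT₀, tor_apply h hn1]; simp [wp, h.cc, h.bc])
    rw [i1, i2, LinearMap.neg_apply, Module.End.mul_apply, Module.End.mul_apply, LinearEquiv.coe_coe,
      hAb, hXb, hAb, map_neg] at e2
    simp [h.cb] at e2
    have e3 : (2 : F) • G.cC a X c b w = 0 := by linear_combination (norm := module) e2
    simpa using (smul_eq_zero.1 e3).resolve_left G.two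
  have hXz : ∀ w z, G.f b z = 0 → X (T a w z) = T a (G.cC a X c (G.wp b c z) w) b := fun w z hz =>
    G.ct_sep (i := a) fun u => by
      rw [← cC_apply, fx_form h hk (hfix a) u z, hPc, hz, ct_T, G.sym u b]
      simp
  -- `x` is in the radical of `b` at `a'`
  have hXb : ∀ w, X (T a w b) = 0 := fun w => by
    rw [hXz w b h.bb]; simp [wp, h.bb, h.cb]
  have hnest : ∀ (D : (Fin k → F) →ₗ[F] (Fin k → F)) y z,
      sl a' D (T l y z) = T l (sl a D y) z := fun D y z => by
    rw [ha', sl_nest, op_T, LinearMap.id_apply]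
  obtain ⟨v', hv', ex⟩ := hrad a' b c h x hxM (fun y => by
      have e : ∀ w, app x (sl a' (G.pb b c) w) = sl a' (G.pb b c) w := fun w =>
        LinearMap.congr_fun (lin_ext l (f := (app x).toLinearMap.comp (sl a' (G.pb b c)))
          (g := sl a' (G.pb b c)) fun y z => by
            simp only [LinearMap.comp_apply, LinearEquiv.coe_coe, hnest, hxv]
            have e0 : ∀ w, app A (T a w b) = T a w b := fun w => by
              conv_lhs => rw [← hAb w, app_app_inv]
            have e1 : app A (sl a (G.pb b c) y) = sl a (G.pb b c) y :=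
              LinearMap.congr_fun (lin_ext a (f := (app A).toLinearMap.comp (sl a (G.pb b c)))
                (g := sl a (G.pb b c)) fun w u => by simp [e0]) y
            have e2 : X (sl a (G.pb b c) y) = 0 :=
              LinearMap.congr_fun (lin_ext a (f := X.comp (sl a (G.pb b c))) (g := 0) fun w u => by
                simp [hXb]) y
            rw [e1, e2]; simp) w
      have := e (T a' y b)
      rwa [sl_T, pb_apply, h.cb, one_smul] at this)
    (fun p hp => by
      set π := LinearMap.id - (G.f b).smulRight c with hπ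
      have := mem_of_T l (Li a' b) (((app x).toLinearMap - LinearMap.id).comp (sl a' π)) (fun y z => by
        simp only [LinearMap.comp_apply, hnest, LinearMap.sub_apply, LinearEquiv.coe_coe,
          LinearMap.id_apply, hxv, hA, map_add, LinearMap.add_apply, add_sub_cancel_left, add_assoc]
        have hmem : ∀ L : Module.End F (J k (s + 1) → F), (∀ w u, G.f b u = 0 → L (T a w u) ∈ Li a b) →
            ∀ z', T l (L (sl a π y)) z' ∈ Li a' b := fun L hL z' => by
          obtain ⟨r, hr⟩ := mem_of_T a (Li a b) (L.comp (sl a π)) (fun w u => by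
            rw [LinearMap.comp_apply, sl_T]; exact hL _ _ (by simp [hπ, h.bc])) y
          rw [← LinearMap.comp_apply L (sl a π), ← hr, LinearMap.flip_apply]
          exact nested_mem l a r b z'
        exact Submodule.add_mem _ (hmem X₀ (fun w u hu => by
            rw [hX₀, pt_split E a, op_T]
            simp [hE, hu, T_mem_Li, Submodule.smul_mem]) z)
          (Submodule.smul_mem _ _ (hmem X (fun w u hu => by rw [hXz w u hu]; exact T_mem_Li _ _ _) b))) p
      rwa [LinearMap.comp_apply, hπ, sl_pi a' b c hp, LinearMap.sub_apply] at this)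
  -- but it moves all positions
  have e := congrArg (fun g => app g (T l (pr fun _ : Fin (s + 1) => c) b)) ex
  rw [hx, ha', ← kr_nest, app_kr_rest, h.bb, zero_smul, add_zero, hA] at e
  have e2 := T_inj_left h.ne_left e
  rw [hX₀, pt_pr, app_kr_one_pr] at e2
  have e3 := congrArg (fun y => G.B _ y (pr (Function.update (fun _ => c) a v))) e2
  have hRm : G.B _ (pr (Function.update (fun _ : Fin (s + 1) => c) a (app (G.sg b v') c)))
      (pr (Function.update (fun _ => c) a v)) = 0 := B_pr_zero m (by simp [hma, h.cc])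
  simp only [map_add, LinearMap.add_apply, hRm] at e3
  rw [B_pr_zero a (by simp [hv.2])] at e3
  rw [zero_add, B_pr] at e3
  refine (Finset.prod_ne_zero_iff.2 fun r _ => ?_) e3
  by_cases hr : r = a
  · subst hr; simp [hE, hgv, h.bc, hv.right']
  · simp [hE, hr, h.bc, h.cb]

end Sm

end Cfsg.Agent.C7O
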