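import Cfsg.Agent.Lib.C7O.LinesBasic
import Cfsg.Agent.Lib.C7F.Lines

/-!
# The action on the other positions

* `Sm.scalar_of_comm` : operators commuting with all Siegel elements of one position are scalar
* `Sm.sim_mem_Wr` : a similitude conjugating these into the wreath group is in the wreath group
-/

set_option autoImplicit false
set_option linter.unusedSectionVars false

namespace Cfsg.Agent.C7O

open Matrix Module Cfsg.Agent.Transvect Cfsg.Agent.C7
open Cfsg.Agent.C7F (op op_T op_one sl sl_T kr_nest)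
open scoped MatrixGroups

attribute [-simp] app_apply

variable {F : Type*} [Field F] [Fintype F] {k t : ℕ}

namespace Sm

variable {G : Sm F k}

/-- Operators commuting with all Siegel elements of one position are scalar. -/
theorem scalar_of_comm (hk : 3 ≤ k) : ∀ {t : ℕ} (S : Module.End F (J k t → F)),
    (∀ (s : ℕ) (hs : t = s + 1) (m : Fin (s + 1)) (b c v : Fin k → F), G.HB b c → G.InW b c v →
      ∀ y : J k (s + 1) → F, app (kr m 1 (G.sg b v)) ((hs ▸ S : Module.End F (J k (s + 1) → F)) y) =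
        (hs ▸ S : Module.End F (J k (s + 1) → F)) (app (kr m 1 (G.sg b v)) y)) →
    ∃ r : F, S = r • LinearMap.id := by
  intro t
  induction t with
  | zero =>
    intro S _
    refine ⟨S (fun _ => 1) default, LinearMap.ext fun y => ?_⟩
    have e : y = y default • (fun _ => (1 : F)) := funext fun g => by
      simp [Subsingleton.elim g default]
    conv_lhs => rw [e, map_smul]
    funext g
    simp [Subsingleton.elim g default, mul_comm]
  | succ n ih =>
    intro S hS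
    obtain ⟨b, c, h⟩ := exists_hb' G hk
    have : Nonempty (Fin k) := ⟨⟨0, by omega⟩⟩
    have h1 : S ∈ G.Fx 0 b c :=
      mem_Fx.2 fun v hv => cj_fix_iff.2 fun y => hS n rfl 0 b c v h hv y
    have h2 : S ∈ G.Fx 0 c b :=
      mem_Fx.2 fun v hv => cj_fix_iff.2 fun y => hS n rfl 0 c b v h.swap hv y
    set K := G.cC (0 : Fin (n + 1)) S
    have hQ : K c c = 0 := by rw [fx_form h.swap hk h2 c c]; simp [wp, h.cc, h.bc, h.cb]
    have hφ : ∀ w, G.InW b c w → K c w = 0 := fun w hw => by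
      rw [fx_form h.swap hk h2 c w]; simp [wp, h.cc, h.bc, h.cb, hw.1, hw.2]
    obtain ⟨P, hP⟩ := scal_op (G := G) (m := (0 : Fin (n + 1))) (X := S) ⟨K c b, fun a z => by
      rw [fx_form h hk h1 a z, hQ, hφ _ (wp_mem h z), hφ _ (wp_mem h a)]; simp [K]⟩
    obtain ⟨r, hr⟩ := ih P fun s hs m b' c' v h' hv y => by
      subst hs
      obtain ⟨u, hu⟩ := exists_ne (0 : Fin k → F)
      have e := hS (s + 1) rfl ((0 : Fin (s + 2)).succAbove m) b' c' v h' hv (T 0 y u)
      rw [hP, ← kr_nest, app_kr_rest, op_T, op_T, app_kr_rest, LinearMap.id_apply] at e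
      exact T_inj_left hu e
    exact ⟨r, by rw [hP, hr, C7F.op_smul_left, op_one]⟩

lemma not_mem_plane_line {b d e : Fin k → F} (hbb : G.f b b = 0) (hdd : G.f d d = 0) (hee : G.f e e = 0)
    (hbd : G.f b d ≠ 0) (hbe : G.f b e ≠ 0) (hde : G.f d e ≠ 0) :
    b ∉ Submodule.span F ({d, e} : Set (Fin k → F)) := by
  intro hb
  obtain ⟨α, β, rfl⟩ := Submodule.mem_span_pair.1 hb
  have h0 : 2 * (α * β * G.f d e) = 0 := by
    simp [hdd, hee, G.sym e d] at hbb
    linear_combination hbb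
  rcases mul_eq_zero.1 ((mul_eq_zero.1 h0).resolve_left G.two) with h1 | h1
  · rcases mul_eq_zero.1 h1 with h2 | h2
    · simp [h2, hee] at hbe
    · simp [h2, hdd] at hbd
  · exact hde h1

lemma exists_sep_line {b d e : Fin k → F} (hbb : G.f b b = 0) (hdd : G.f d d = 0) (hee : G.f e e = 0)
    (hbd : G.f b d ≠ 0) (hbe : G.f b e ≠ 0) (hde : G.f d e ≠ 0) :
    ∃ ψ : (Fin k → F) →ₗ[F] F, ψ b ≠ 0 ∧ ψ d = 0 ∧ ψ e = 0 := by
  obtain ⟨ψ, h1, h2⟩ := Submodule.exists_le_ker_of_notMem (not_mem_plane_line hbb hdd hee hbd hbe hde)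
  exact ⟨ψ, h1, h2 (Submodule.subset_span (by simp)), h2 (Submodule.subset_span (by simp))⟩

/-- A similitude conjugating all Siegel elements of one position into the wreath group is in it. -/
theorem sim_mem_Wr (hk : 3 ≤ k) (hconj : G.ConjLn) (A : GL (J k (t + 1)) F) {μ : F} (hμ : μ ≠ 0)
    (hA : ∀ x y, G.B (t + 1) (app A x) (app A y) = μ * G.B (t + 1) x y)
    (hwr : ∀ (m : Fin (t + 1)) b c v, G.HB b c → G.InW b c v →
      A * kr m 1 (G.sg b v) * A⁻¹ ∈ Wr F k (t + 1)) : A ∈ Wr F k (t + 1) := by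
  cases t with
  | zero => exact C7.mem_Wr_one A
  | succ r =>
  have : Nonempty (Fin k) := ⟨⟨0, by omega⟩⟩
  refine C7F.mem_Wr_of_lines (by omega) A fun m u hu => ?_
  have hline : ∀ x : Fin k → F, x ≠ 0 → G.f x x = 0 →
      ∃ (L : Fin (r + 2)) (x' : Fin k → F) (P : (J k (r + 1) → F) →ₗ[F] (J k (r + 1) → F)),
        x' ≠ 0 ∧ G.f x' x' = 0 ∧ (∀ y, app A (T m y x) = T L (P y) x') ∧ Function.Injective P := by
    intro x hx0 hxx
    obtain ⟨y, hxy⟩ := exists_hb hx0 hxx
    obtain ⟨v, hv, hgv⟩ := exists_aniso hxy hk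
    obtain ⟨L, x', hx'0, hx', e⟩ := hconj A μ hμ hA m x y v hxy hv hgv fun s =>
      hwr m x y _ hxy (hv.smul s)
    obtain ⟨γ, hγ⟩ := C7.exists_dual hx'0
    set P : (J k (r + 1) → F) →ₗ[F] (J k (r + 1) → F) :=
      (ct L γ).comp ((app A).toLinearMap.comp ((T m).flip x)) with hPd
    have hP : ∀ y, app A (T m y x) = T L (P y) x' := fun y => by
      obtain ⟨w, hw⟩ := e y
      change T L w x' = _ at hw
      simp [hPd, ← hw, hγ]
    exact ⟨L, x', P, hx'0, hx', hP, fun y y' e' => T_inj_left hx0 ((app A).injective (by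
      rw [hP, hP, e']))⟩
  choose! L st P hst0 hsts hP hPi using hline
  have hsurj : ∀ x, x ≠ 0 → G.f x x = 0 → Function.Surjective (P x) := fun x hx hxx =>
    LinearMap.surjective_of_injective (hPi x hx hxx)
  have hslot : ∀ x z, x ≠ 0 → G.f x x = 0 → z ≠ 0 → G.f z z = 0 → z ∉ F ∙ x → L x = L z := by
    intro x z hx hxx hz hzz hn
    by_contra hne
    obtain ⟨w, ⟨⟨w1, hw1⟩, ⟨w2, hw2⟩⟩, hw0⟩ :=
      (Submodule.ne_bot_iff _).1 (inf_Li_ne_bot (Ne.symm hne) (hst0 x hx hxx) (hst0 z hz hzz))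
    obtain ⟨y1, rfl⟩ := hsurj x hx hxx w1
    obtain ⟨y2, rfl⟩ := hsurj z hz hzz w2
    simp only [LinearMap.flip_apply] at hw1 hw2
    have e : T m y2 z = T m y1 x := (app A).injective (by rw [hP x hx hxx, hP z hz hzz, hw1, hw2])
    refine hn (mem_span_of_T_eq (fun e0 => hw0 ?_) e)
    rw [← hw2, e0, map_zero, map_zero, LinearMap.zero_apply]
  have hnonorth : ∀ x z, x ≠ 0 → G.f x x = 0 → z ≠ 0 → G.f z z = 0 → G.f x z ≠ 0 → L x = L z →
      G.f (st x) (st z) ≠ 0 := by
    intro x z hx hxx hz hzz hn hL e0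
    obtain ⟨a, ha⟩ := exists_ne (0 : J k (r + 1) → F)
    obtain ⟨a', ha'⟩ : ∃ a', G.B _ a a' ≠ 0 := by
      by_contra! h0; exact ha (G.nd_B a h0)
    have e := hA (T m a x) (T m a' z)
    rw [hP x hx hxx, hP z hz hzz, hL, B_T, B_T, e0, mul_zero] at e
    exact mul_ne_zero hμ (mul_ne_zero ha' hn) e.symm
  obtain ⟨b, c, h⟩ := exists_hb' G hk
  have hb0 := h.ne_left
  have hc0 := h.ne_right
  set Lo := L c
  set Po := P c
  let U : Submodule F (Fin k → F) :=
    { carrier := {x | ∃ x', ∀ y, app A (T m y x) = T Lo (Po y) x'}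
      zero_mem' := ⟨0, fun y => by simp⟩
      add_mem' := fun ⟨x, hx⟩ ⟨z, hz⟩ => ⟨x + z, fun y => by simp [hx y, hz y]⟩
      smul_mem' := fun s _ ⟨x, hx⟩ => ⟨s • x, fun y => by simp [hx y]⟩ }
  suffices hU : ∀ x, x ∈ U by
    obtain ⟨x', hx'⟩ := hU u
    exact ⟨Lo, x', fun y => by rw [hx']; exact T_mem_Li _ _ _⟩
  have hcU : c ∈ U := ⟨_, hP c hc0 h.cc⟩
  have hbW : ∀ w, G.InW b c w → G.f w w ≠ 0 → b ∈ U ∧ w ∈ U := by
    intro w hw hgw
    set g := G.f w w
    have h22 := G.two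
    set dp := b + w - (g / 2) • c with hdp
    set dm := b - w - (g / 2) • c with hdm
    have fpp : G.f dp dp = 0 := by
      simp [hdp, h.bb, h.cc, h.bc, h.cb, hw.1, hw.2, hw.left', hw.right', g]; field_simp; ring
    have fmm : G.f dm dm = 0 := by
      simp [hdm, h.bb, h.cc, h.bc, h.cb, hw.1, hw.2, hw.left', hw.right', g]; field_simp; ring
    have fbp : G.f b dp = -(g / 2) := by simp [hdp, h.bb, h.bc, hw.1]
    have fbm : G.f b dm = -(g / 2) := by simp [hdm, h.bb, h.bc, hw.1]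
    have fcp : G.f c dp = 1 := by simp [hdp, h.cc, h.cb, hw.2]
    have fcm : G.f c dm = 1 := by simp [hdm, h.cc, h.cb, hw.2]
    have fpm : G.f dp dm = -(2 * g) := by
      simp [hdp, hdm, h.bb, h.cc, h.bc, h.cb, hw.1, hw.2, hw.left', hw.right', g]; field_simp; ring
    have hg2 : g / 2 ≠ 0 := div_ne_zero hgw h22
    have hp0 : dp ≠ 0 := fun e => by simp [e] at fcp
    have hm0 : dm ≠ 0 := fun e => by simp [e] at fcm
    have nsp : ∀ x z : Fin k → F, G.f x x = 0 → G.f x z ≠ 0 → z ∉ F ∙ x := fun x z hx hz hn => by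
      obtain ⟨s, rfl⟩ := Submodule.mem_span_singleton.1 hn
      simp [hx] at hz
    have Lb : L b = Lo := (hslot c b hc0 h.cc hb0 h.bb (nsp c b h.cc (by simp [h.cb]))).symm
    have Lp : L dp = Lo := (hslot c dp hc0 h.cc hp0 fpp (nsp c dp h.cc (by simp [fcp]))).symm
    have Lm : L dm = Lo := (hslot c dm hc0 h.cc hm0 fmm (nsp c dm h.cc (by simp [fcm]))).symm
    have sbc := hnonorth b c hb0 h.bb hc0 h.cc (by simp [h.bc]) Lb
    have sbp := hnonorth b dp hb0 h.bb hp0 fpp (by simp [fbp, hgw, h22]) (Lb.trans Lp.symm)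
    have sbm := hnonorth b dm hb0 h.bb hm0 fmm (by simp [fbm, hgw, h22]) (Lb.trans Lm.symm)
    have spm := hnonorth dp dm hp0 fpp hm0 fmm (by simp [fpm, hgw, h22]) (Lp.trans Lm.symm)
    have key : ∀ y, T Lo (P dp y) (st dp) + T Lo (P dm y) (st dm) =
        (2 : F) • T Lo (P b y) (st b) - g • T Lo (Po y) (st c) := fun y => by
      rw [← hP c hc0 h.cc, show T Lo (P dp y) (st dp) = app A (T m y dp) by rw [hP dp hp0 fpp, Lp],
        show T Lo (P dm y) (st dm) = app A (T m y dm) by rw [hP dm hm0 fmm, Lm],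
        show T Lo (P b y) (st b) = app A (T m y b) by rw [hP b hb0 h.bb, Lb],
        hdp, hdm]
      simp only [map_add, map_sub, map_smul]
      match_scalars <;> field_simp <;> ring
    have keyc : ∀ (ψ : (Fin k → F) →ₗ[F] F) y, ψ (st dp) • P dp y + ψ (st dm) • P dm y =
        (2 * ψ (st b)) • P b y - (g * ψ (st c)) • Po y := fun ψ y => by
      have := congrArg (ct Lo ψ) (key y)
      simp only [map_add, map_sub, map_smul, ct_T] at this
      rw [this, smul_smul, smul_smul]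
    have prop : ∀ x (hL : L x = Lo) (hx : x ≠ 0) (hxx : G.f x x = 0) (r s : F), r ≠ 0 →
        (∀ y, r • P x y = s • Po y) → x ∈ U := fun x hL hx hxx r s hr hy => ⟨(r⁻¹ * s) • st x, fun y => by
      rw [hP x hx hxx, hL, ← inv_smul_smul₀ hr (P x y), hy, smul_smul, map_smul, map_smul,
        LinearMap.smul_apply]⟩
    obtain ⟨ψ, hψb, hψp, hψm⟩ := exists_sep_line (hsts b hb0 h.bb) (hsts dp hp0 fpp) (hsts dm hm0 fmm)
      sbp sbm spm
    have hbU : b ∈ U := prop b Lb hb0 h.bb (2 * ψ (st b)) (g * ψ (st c)) (mul_ne_zero h22 hψb)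
      fun y => by
        have := keyc ψ y
        rw [hψp, hψm, zero_smul, zero_smul, add_zero] at this
        exact sub_eq_zero.1 this.symm
    obtain ⟨ψ₁, h1p, h1b, h1m⟩ := exists_sep_line (hsts dp hp0 fpp) (hsts b hb0 h.bb) (hsts dm hm0 fmm)
      (by rw [G.sym]; exact sbp) spm sbm
    obtain ⟨ψ₂, h2m, h2b, h2p⟩ := exists_sep_line (hsts dm hm0 fmm) (hsts b hb0 h.bb) (hsts dp hp0 fpp)
      (by rw [G.sym]; exact sbm) (by rw [G.sym]; exact spm) sbp
    have hpU : dp ∈ U := prop dp Lp hp0 fpp (ψ₁ (st dp)) (-(g * ψ₁ (st c))) h1p fun y => by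
      have := keyc ψ₁ y
      simpa [h1b, h1m] using this
    have hmU : dm ∈ U := prop dm Lm hm0 fmm (ψ₂ (st dm)) (-(g * ψ₂ (st c))) h2m fun y => by
      have := keyc ψ₂ y
      simpa [h2b, h2p] using this
    refine ⟨hbU, ?_⟩
    have : (2 : F)⁻¹ • (dp - dm) ∈ U := U.smul_mem _ (U.sub_mem hpU hmU)
    convert this using 1
    rw [hdp, hdm]
    match_scalars <;> field_simp <;> ring
  obtain ⟨e, he, heg, -, hsum⟩ := exists_basis h (by omega)
  obtain ⟨w, hw, hgw⟩ := exists_aniso h hk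
  intro x
  rw [wp_decomp G b c x, hsum]
  exact U.add_mem (U.add_mem (U.smul_mem _ (hbW w hw hgw).1) (U.smul_mem _ hcU))
    (U.sum_mem fun j _ => U.smul_mem _ (hbW _ (he j) (heg j)).2)

end Sm

end Cfsg.Agent.C7O
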