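import Cfsg.Agent.Lib.C7O.LinesSim
import Cfsg.Agent.Lib.C7O.LinesNotBig
import Cfsg.Agent.Lib.C7O.LinesRest

/-!
# Elements carrying a line to a line

* `Sm.lineWr` : in an overgroup they are in the wreath group
-/

set_option autoImplicit false
set_option linter.unusedSectionVars false

namespace Cfsg.Agent.C7O

open Matrix Module Cfsg.Agent.Transvect Cfsg.Agent.C7
open Cfsg.Agent.C7F (op op_T op_one kr_nest)
open scoped MatrixGroups

attribute [-simp] app_apply

variable {F : Type*} [Field F] [Fintype F] {k t : ℕ}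

namespace Sm

variable {G : Sm F k}

/-- Elements of an overgroup carrying a singular line of a position to a line are in the wreath group. -/
theorem lineWr {M : Subgroup (GL (J k (t + 1)) F)} (ht : 1 ≤ t) (hk : 3 ≤ k)
    (hex : ¬ (Fintype.card F = 3 ∧ k = 3)) (hnp : G.NoPlane) (hO : G.Ovg M) (hrad : G.RadY M)
    (hconj : G.ConjLn)
    (ih : ∀ M' : Subgroup (GL (J k t) F), G.Ovg M' → M' ≤ Wr F k t ∨ G.Big M') :
    G.LineWr M := by
  obtain ⟨s, rfl⟩ : ∃ s, t = s + 1 := ⟨t - 1, by omega⟩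
  intro g₀ hg₀ i l b b' hb0 hbb hb'0 hb'b hline
  have : Nonempty (Fin k) := ⟨⟨0, by omega⟩⟩
  obtain ⟨c, h⟩ := exists_hb hb0 hbb
  obtain ⟨c', h'⟩ := exists_hb hb'0 hb'b
  obtain ⟨A, τ, μ, R, v, hμ, hτ, hτb, hv, hA, hskew, hform⟩ :=
    exists_line_form hk hex hnp hO hrad hg₀ h h' hline
  set g := g₀ * kr i (1 : GL (J k (s + 1)) F) (G.sg b v) with hgd
  have hg : g ∈ M := mul_mem hg₀ (hO.sq_gen i (sg_mem_sq1 b v h.bb hv.1))
  suffices hWr : g ∈ Wr F k (s + 1 + 1) by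
    rw [← mul_inv_cancel_right g₀ (kr i (1 : GL (J k (s + 1)) F) (G.sg b v))]
    exact mul_mem hWr (inv_mem (kr_one_mem i _))
  have hτf : ∀ z, G.f b' (app τ z) = μ⁻¹ * G.f b z := fun z => by rw [← hτb, hτ]
  have hle : G.Sh' M l h'.bb ≤ Wr F k (s + 1) := by
    by_cases hs : s = 0
    · subst hs
      exact fun x _ => C7.mem_Wr_one x
    · exact (ih _ (Sh.ovg hO h')).resolve_right (not_big_Sh' hk (by omega) hO hrad l h')
  have hgb : ∀ y, app g (T i y b) = T l (app A y) b' := fun y => by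
    rw [hform, h.bb, hτb, zero_smul, add_zero]
  have hsplit : ∀ y z, T l (app A y) (app τ z) =
      app g (T i y z - G.f b z • T i (app A⁻¹ (R y)) b) := fun y z => by
    rw [map_sub, map_smul, hform, hgb, app_app_inv, add_sub_cancel_right]
  have hsh : ∀ Y : GL (J k (s + 1)) F, G.Sh l b' (A * Y * A⁻¹)
      (μ • ((R * (app Y).toLinearMap - (app (A * Y * A⁻¹)).toLinearMap * R) * (app A⁻¹).toLinearMap))
      (g * kr i Y 1 * g⁻¹) := fun Y y' z' => by
    obtain ⟨y, rfl⟩ : ∃ y, app A y = y' := ⟨_, app_app_inv A y'⟩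
    obtain ⟨z, rfl⟩ : ∃ z, app τ z = z' := ⟨_, app_app_inv τ z'⟩
    conv_lhs => rw [hsplit y z, map_mul, map_mul, LinearEquiv.mul_apply, LinearEquiv.mul_apply,
      app_inv_app, map_sub, map_smul, app_kr_rest, app_kr_rest, map_sub, map_smul, hform, hgb]
    simp only [LinearMap.smul_apply, Module.End.mul_apply, LinearMap.sub_apply, LinearEquiv.coe_coe,
      map_mul, LinearEquiv.mul_apply, app_inv_app, hτf, map_sub, map_smul]
    match_scalars <;> field_simp
  have hY : ∀ (m : Fin (s + 1)) b₁ c₁ v₁, G.HB b₁ c₁ → G.InW b₁ c₁ v₁ →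
      kr i (kr m (1 : GL (J k s) F) (G.sg b₁ v₁)) (1 : GL (Fin k) F) ∈ M := fun m b₁ c₁ v₁ h₁ hv₁ => by
    rw [kr_nest]; exact hO.sq_gen _ (sg_mem_sq1 b₁ v₁ h₁.bb hv₁.1)
  have hAW : A ∈ Wr F k (s + 1) := sim_mem_Wr hk hconj A hμ hA fun m b₁ c₁ v₁ h₁ hv₁ =>
    hle ⟨_, _, mul_mem (mul_mem hg (hY m b₁ c₁ v₁ h₁ hv₁)) (inv_mem hg), hsh _⟩
  -- the wreath part
  obtain ⟨p, hp, hpT⟩ := C7.exists_perm (F := F) (m := k) i l
  set e := p * kr i A τ with hed
  have heT : ∀ y z, app e (T i y z) = T l (app A y) (app τ z) := fun y z => by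
    rw [hed, map_mul, LinearEquiv.mul_apply, app_kr, hpT]
  have heW : e ∈ Wr F k (s + 1 + 1) := mul_mem hp (kr_mem i hAW τ)
  have hei : e ∈ G.isoGrp (s + 1 + 1) := fun x y =>
    LinearMap.congr_fun (LinearMap.congr_fun (lin_ext i
      (f := ((G.B (s + 1 + 1)).comp (app e).toLinearMap).compl₂ (app e).toLinearMap)
      fun a u => lin_ext i fun a' u' => by
        simp only [LinearMap.compl₂_apply, LinearMap.comp_apply, LinearEquiv.coe_coe, heT, B_T, hA, hτ]
        field_simp) x) y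
  obtain ⟨r, hr⟩ := scalar_of_comm (G := G) hk ((app A⁻¹).toLinearMap * R) fun s' hs' m b₁ c₁ v₁ h₁ hv₁ y => by
    obtain rfl : s = s' := by omega
    set Y := kr m (1 : GL (J k s) F) (G.sg b₁ v₁) with hYd
    set Y₀ := kr m (1 : GL (J k s) F) (G.sg b₁ ((2 : F)⁻¹ • v₁))
    have hY₀ : Y₀ * Y₀ = Y := by
      rw [hYd, kr_mul, one_mul, sg_add h₁.bb (by simp [hv₁.1]) (by simp [hv₁.1]), ← add_smul,
        show (2 : F)⁻¹ + 2⁻¹ = 1 by have := G.two; field_simp; norm_num, one_smul]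
    have hmem : e * kr i Y 1 * e⁻¹ ∈ M := by
      have := hO.sq (e * kr i Y₀ 1 * e⁻¹)
        (mul_mem (mul_mem heW (kr_left_mem i (kr_one_mem m _))) (inv_mem heW))
        (mul_mem (mul_mem hei (kr_iso (kr_one_iso m (G.isI_sg _ _)) G.isI_one)) (inv_mem hei))
      rwa [show e * kr i Y₀ 1 * e⁻¹ * (e * kr i Y₀ 1 * e⁻¹) = e * (kr i Y₀ 1 * kr i Y₀ 1) * e⁻¹ by
        group, kr_mul, hY₀, one_mul] at this
    have hE : G.Sh l b' (A * Y * A⁻¹) 0 (e * kr i Y 1 * e⁻¹) := fun y' z' => by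
      obtain ⟨y, rfl⟩ : ∃ y, app A y = y' := ⟨_, app_app_inv A y'⟩
      obtain ⟨z, rfl⟩ : ∃ z, app τ z = z' := ⟨_, app_app_inv τ z'⟩
      conv_lhs => rw [← heT, map_mul, map_mul, LinearEquiv.mul_apply, LinearEquiv.mul_apply, app_inv_app,
        app_kr_rest, heT]
      simp [app_inv_app]
    have hu := LinearMap.congr_fun ((hsh Y).unique hrad h' hE
      (mul_mem (mul_mem hg (hY m b₁ c₁ v₁ h₁ hv₁)) (inv_mem hg)) hmem) (app A y)
    simp only [LinearMap.smul_apply, Module.End.mul_apply, LinearMap.sub_apply, LinearEquiv.coe_coe,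
      LinearMap.zero_apply, app_inv_app, map_mul, LinearEquiv.mul_apply, smul_eq_zero, hμ, false_or,
      sub_eq_zero] at hu
    show app Y (app A⁻¹ (R y)) = app A⁻¹ (R (app Y y))
    rw [hu, app_inv_app]
  have hR : ∀ y, R y = r • app A y := fun y => by
    have := congrArg (app A) (LinearMap.congr_fun hr y)
    simpa [app_app_inv] using this
  have hr0 : r = 0 := by
    obtain ⟨y, hy⟩ := exists_ne (0 : J k (s + 1) → F)
    obtain ⟨y', hy'⟩ : ∃ y', G.B _ y y' ≠ 0 := by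
      by_contra! h0; exact hy (G.nd_B y h0)
    have e1 : (2 * μ * G.B (s + 1) y y') * r = 0 := by
      have := hskew y y'
      rw [hR, hR, map_smul, map_smul, LinearMap.smul_apply, hA, smul_eq_mul] at this
      linear_combination this
    exact (mul_eq_zero.1 e1).resolve_left (mul_ne_zero (mul_ne_zero G.two hμ) hy')
  have hge : g = e := gl_ext_T i fun y z => by rw [hform, heT, hR, hr0]; simp
  rw [hge]; exact heW

end Sm

end Cfsg.Agent.C7O
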