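import Cfsg.Agent.Lib.C7O.Level2
import Cfsg.Agent.Lib.C7O.Hyps

/-!
# Elements stabilising a line of one position

* `Sm.RadY M` : the radical of a line meets `M` in Siegel elements
* `Sm.ConjLn` : similitudes conjugating Siegel elements into the wreath group carry their lines to lines
* `Sm.Sh l b A X x` : `x` maps `T l y z` to `T l (A y) z + f(b,z) T l (X y) b`
* `Sm.Sh.unique` : in `M`, `A` determines `X`
* `Sm.Sh'` : the restriction of these elements is an overgroup
-/

set_option autoImplicit false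
set_option linter.unusedSectionVars false

namespace Cfsg.Agent.C7O

open Matrix Module Cfsg.Agent.Transvect Cfsg.Agent.C7
open Cfsg.Agent.C7F (op op_T op_one pr T_pr T_pr' pt pt_pr pt_comp sl sl_T sl_pr InM res mem_res_iff kr_nest)
open scoped MatrixGroups

attribute [-simp] app_apply

variable {F : Type*} [Field F] {k t : ℕ}

namespace Sm

variable (G : Sm F k)

/-- The radical of a line meets `M` in Siegel elements. -/
def RadY (M : Subgroup (GL (J k (t + 1)) F)) : Prop :=
  ∀ (i : Fin (t + 1)) (b c : Fin k → F), G.HB b c → ∀ g ∈ M, (∀ y, app g (T i y b) = T i y b) →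
    (∀ x, ct i (G.f b) x = 0 → app g x - x ∈ Li i b) → ∃ v, G.InW b c v ∧ g = kr i 1 (G.sg b v)

/-- Similitudes conjugating Siegel elements into the wreath group carry their lines to lines. -/
def ConjLn : Prop :=
  ∀ {t' : ℕ} (g : GL (J k (t' + 1)) F) (ν : F), ν ≠ 0 →
    (∀ x y, G.B (t' + 1) (app g x) (app g y) = ν * G.B (t' + 1) x y) →
    ∀ (i : Fin (t' + 1)) (b c v : Fin k → F), G.HB b c → G.InW b c v → G.f v v ≠ 0 →
      (∀ s : F, g * kr i 1 (G.sg b (s • v)) * g⁻¹ ∈ Wr F k (t' + 1)) →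
      ∃ (l : Fin (t' + 1)) (b' : Fin k → F), b' ≠ 0 ∧ G.f b' b' = 0 ∧
        ∀ y, app g (T i y b) ∈ Li l b'

/-- `x` stabilises the line of `b` and acts by `A` on the other positions. -/
def Sh (l : Fin (t + 1)) (b : Fin k → F) (A : GL (J k t) F) (X : Module.End F (J k t → F))
    (x : GL (J k (t + 1)) F) : Prop :=
  ∀ y z, app x (T l y z) = T l (app A y) z + G.f b z • T l (X y) b

variable {G}

lemma perp_ext {i : Fin (t + 1)} {b c : Fin k → F} (h : G.HB b c) {E : Type*} [AddCommGroup E]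
    [Module F E] (W : Submodule F E) (L : (J k (t + 1) → F) →ₗ[F] E)
    (hL : ∀ y z, G.f b z = 0 → L (T i y z) ∈ W) {x : J k (t + 1) → F}
    (hx : ct i (G.f b) x = 0) : L x ∈ W := by
  have := mem_of_T i W (L.comp (sl i (LinearMap.id - (G.f b).smulRight c))) (fun y z => by
    rw [LinearMap.comp_apply, sl_T]; exact hL _ _ (by simp [h.bc])) x
  rwa [LinearMap.comp_apply, sl_pi i b c hx] at this

lemma ct_zero_of_B {i : Fin (t + 1)} {b : Fin k → F} {x : J k (t + 1) → F}
    (h : ∀ y, G.B (t + 1) (T i y b) x = 0) : ct i (G.f b) x = 0 :=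
  G.nd_B _ fun y => by rw [G.B_comm, ← B_ct, h]

lemma app_kr_one (i : Fin (t + 1)) (C : GL (Fin k) F) (y : J k t → F) (z : Fin k → F) :
    app (kr i (1 : GL (J k t) F) C) (T i y z) = T i y (app C z) := by simp [app_kr]

lemma app_kr_rest (i : Fin (t + 1)) (A : GL (J k t) F) (y : J k t → F) (z : Fin k → F) :
    app (kr i A (1 : GL (Fin k) F)) (T i y z) = T i (app A y) z := by simp [app_kr]

lemma eq_zero_of_W {b c v : Fin k → F} (h : G.HB b c) (hv : G.InW b c v)
    (h0 : ∀ w, G.InW b c w → G.f v w = 0) : v = 0 :=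
  G.nd v fun z => by rw [← wp_f hv z]; exact h0 _ (wp_mem h z)

variable {l : Fin (t + 1)} {b c : Fin k → F} {A A' : GL (J k t) F}
  {X X' : Module.End F (J k t → F)} {x x' : GL (J k (t + 1)) F}

lemma sh_kr (l : Fin (t + 1)) (b : Fin k → F) (A : GL (J k t) F) : G.Sh l b A 0 (kr l A 1) :=
  fun y z => by simp [app_kr]

lemma sh_one (l : Fin (t + 1)) (b : Fin k → F) : G.Sh l b 1 0 1 := fun y z => by simp

lemma Sh.mul (hb : G.f b b = 0) (h : G.Sh l b A X x) (h' : G.Sh l b A' X' x') :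
    G.Sh l b (A * A') (X * (app A').toLinearMap + (app A).toLinearMap * X') (x * x') := fun y z => by
  simp [h' y z, h (app A' y) z, h (X' y) b, hb]
  module

lemma Sh.inv (hb : G.f b b = 0) (h : G.Sh l b A X x) :
    G.Sh l b A⁻¹ (-((app A⁻¹).toLinearMap * X * (app A⁻¹).toLinearMap)) x⁻¹ := fun y z =>
  (app x).injective (by
    rw [app_app_inv, map_add, map_smul, h, h]
    simp [hb])

lemma Sh.unique {M : Subgroup (GL (J k (t + 1)) F)} (hrad : G.RadY M) (hbc : G.HB b c)
    (h : G.Sh l b A X x) (h' : G.Sh l b A X' x') (hx : x ∈ M) (hx' : x' ∈ M) : X = X' := by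
  have hu : ∀ y z, app (x'⁻¹ * x) (T l y z) =
      T l y z + G.f b z • T l (app A⁻¹ ((X - X') y)) b := fun y z => by
    have e := (h'.inv hbc.bb).mul hbc.bb h y z
    rw [e]
    simp
    module
  obtain ⟨v, hv, e⟩ := hrad l b c hbc _ (mul_mem (inv_mem hx') hx)
    (fun y => by rw [hu, hbc.bb, zero_smul, add_zero])
    (fun w hw => perp_ext hbc (Li l b) ((app (x'⁻¹ * x)).toLinearMap - LinearMap.id)
      (fun y z hz => by
        rw [LinearMap.sub_apply, LinearEquiv.coe_coe, hu, hz]; simp) hw)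
  refine LinearMap.ext fun y => ?_
  by_cases hy : y = 0
  · simp [hy]
  have h3 := congrArg (fun g => app g (T l y c)) e
  rw [hu, app_kr_one, sg_apply hbc.bb hv.1] at h3
  simp only [hbc.bc, one_smul, one_mul, map_add, map_sub, map_smul, hv.right'] at h3
  have hv0 : v = 0 := eq_zero_of_W hbc hv fun w hw => by
    have h4 := congrArg (ct l (G.f w)) h3
    simp [ct_T, hw.left', hw.right', G.sym w v] at h4
    exact h4.resolve_right hy
  simp [hv0] at h3
  rw [← LinearMap.sub_apply, ← map_sub, ← map_sub] at h3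
  have h5 := (T_eq_zero h3).resolve_right hbc.ne_left
  exact sub_eq_zero.1 ((app A).symm.map_eq_zero_iff.1 h5)

variable (G) in
/-- The restrictions to the other positions of the elements stabilising a line. -/
def Sh' (M : Subgroup (GL (J k (t + 1)) F)) (l : Fin (t + 1)) {b : Fin k → F} (hb : G.f b b = 0) :
    Subgroup (GL (J k t) F) where
  carrier := {A | ∃ X, ∃ x ∈ M, G.Sh l b A X x}
  one_mem' := ⟨0, 1, one_mem M, sh_one l b⟩
  mul_mem' := fun ⟨_, _, hx, h⟩ ⟨_, _, hx', h'⟩ => ⟨_, _, mul_mem hx hx', h.mul hb h'⟩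
  inv_mem' := fun ⟨_, _, hx, h⟩ => ⟨_, _, inv_mem hx, h.inv hb⟩

lemma Sh.ovg {M : Subgroup (GL (J k (t + 1)) F)} (hO : G.Ovg M) (hbc : G.HB b c) :
    G.Ovg (G.Sh' M l hbc.bb) where
  le := fun A ⟨X, x, hx, h⟩ y y' => by
    have e := hO.le hx (T l y b) (T l y' c)
    simpa [h y b, h y' c, B_T, hbc.bb, hbc.bc] using e
  sq := fun g hg hgi => ⟨0, _, hO.sq _ (kr_left_mem l hg) (kr_iso hgi G.isI_one), fun y z => by
    simp [app_kr]⟩

end Sm

end Cfsg.Agent.C7O
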