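import Cfsg.Agent.Lib.C7O.LinesBasic
import Cfsg.Agent.Lib.QuadPair.GenDerived

/-!
# The form of an element carrying a line to a line

* `Sm.exists_line_data` : the similitudes of the two factors and the defect `Φ`
* `Sm.line_scal` : the defect is scalar
* `Sm.exists_line_form` : the normal form after a Siegel element
-/

set_option autoImplicit false
set_option linter.unusedSectionVars false

namespace Cfsg.Agent.C7O

open Matrix Module Cfsg.Agent.Transvect Cfsg.Agent.C7
open Cfsg.Agent.C7F (op op_T op_one sl sl_T)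
open scoped MatrixGroups

attribute [-simp] app_apply

variable {F : Type*} [Field F] [Fintype F] {k t : ℕ}

lemma sl_add (i : Fin (t + 1)) (D D' : (Fin k → F) →ₗ[F] (Fin k → F)) :
    sl i (D + D') = sl i D + sl i D' := C7F.op_add_right _ _ _ _

lemma sl_smul (i : Fin (t + 1)) (s : F) (D : (Fin k → F) →ₗ[F] (Fin k → F)) :
    sl i (s • D) = s • sl i D := C7F.op_smul_right _ _ _ _

lemma sl_neg (i : Fin (t + 1)) (D : (Fin k → F) →ₗ[F] (Fin k → F)) : sl i (-D) = -sl i D := by
  rw [← neg_one_smul F D, sl_smul]; module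

lemma sl_comp (i : Fin (t + 1)) (D D' : (Fin k → F) →ₗ[F] (Fin k → F)) (x : J k (t + 1) → F) :
    sl i D (sl i D' x) = sl i (D.comp D') x :=
  LinearMap.congr_fun (lin_ext i (f := (sl i D).comp (sl i D')) (g := sl i (D.comp D'))
    fun a u => by simp) x

namespace Sm

variable {G : Sm F k}

lemma two_sl {b v : Fin k → F} (hb : G.f b b = 0) (hv : G.f b v = 0) (i : Fin (t + 1))
    (x : J k (t + 1) → F) : (2 : F) • sl i (G.dd b v) x =
      app (kr i 1 (G.sg b v)) x - app (kr i 1 (G.sg b (-v))) x :=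
  LinearMap.congr_fun (lin_ext i (f := (2 : F) • sl i (G.dd b v))
    (g := (app (kr i 1 (G.sg b v))).toLinearMap - (app (kr i 1 (G.sg b (-v)))).toLinearMap)
    fun y u => by
      simp only [LinearMap.smul_apply, LinearMap.sub_apply, LinearEquiv.coe_coe, app_kr, map_one,
        LinearEquiv.coe_one, id_eq, sl_T, ← map_sub, sg_sub_sg hb hv, map_smul]) x

lemma sl_dd (i : Fin (t + 1)) (b v : Fin k → F) (x : J k (t + 1) → F) :
    sl i (G.dd b v) x = T i (ct i (G.f v) x) b - T i (ct i (G.f b) x) v :=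
  LinearMap.congr_fun (lin_ext i (f := sl i (G.dd b v))
    (g := ((T i).flip b).comp (ct i (G.f v)) - ((T i).flip v).comp (ct i (G.f b))) fun a u => by
      simp) x

lemma sl_bb (i : Fin (t + 1)) (b : Fin k → F) (x : J k (t + 1) → F) :
    sl i (G.bb b) x = T i (ct i (G.f b) x) b :=
  LinearMap.congr_fun (lin_ext i (f := sl i (G.bb b))
    (g := ((T i).flip b).comp (ct i (G.f b))) fun a u => by simp) x

lemma dd_sq {b c v : Fin k → F} (h : G.HB b c) (hv : G.InW b c v) :
    (G.dd b v).comp (G.dd b v) = -(G.f v v • G.bb b) := LinearMap.ext fun z => by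
  simp [h.bb, hv.left', hv.1]
  module

lemma wp_W {b c v : Fin k → F} (hv : G.InW b c v) : G.wp b c v = v := by simp [wp, hv.1, hv.2]

variable {M : Subgroup (GL (J k (t + 1)) F)} {i l : Fin (t + 1)} {b c b' c' : Fin k → F}

/-- The two factors of an element carrying a line to a line. -/
lemma exists_line_data (hk : 3 ≤ k) (hO : G.Ovg M) (hrad : G.RadY M) {g : GL (J k (t + 1)) F}
    (hg : g ∈ M) (h : G.HB b c) (h' : G.HB b' c') (hline : ∀ y, app g (T i y b) ∈ Li l b') :
    ∃ (A : GL (J k t) F) (τ : GL (Fin k) F) (μ : F)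
      (Φ : (Fin k → F) →ₗ[F] Module.End F (J k t → F)),
      μ ≠ 0 ∧ (∀ u v, G.f (app τ u) (app τ v) = μ⁻¹ * G.f u v) ∧ app τ b = b' ∧
      app τ c = μ⁻¹ • c' ∧ (∀ y y', G.B t (app A y) (app A y') = μ * G.B t y y') ∧
      (∀ y, app g (T i y b) = T l (app A y) b') ∧
      (∀ y w, G.InW b c w → app g (T i y w) = T l (app A y) (app τ w) + T l (Φ w y) b') ∧
      ∀ y, ct l (G.f b') (app g (T i y c)) = μ⁻¹ • app A y := by
  have : Nonempty (Fin k) := ⟨⟨0, by omega⟩⟩
  have hiso := hO.le hg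
  obtain ⟨γ, hγ⟩ := C7.exists_dual h'.ne_left
  set A₀ : (J k t → F) →ₗ[F] (J k t → F) :=
    (ct l γ).comp ((app g).toLinearMap.comp ((T i).flip b)) with hA₀d
  have hA₀ : ∀ y, app g (T i y b) = T l (A₀ y) b' := fun y => by
    obtain ⟨u, hu⟩ := hline y
    change T l u b' = _ at hu
    simp [hA₀d, ← hu, hγ]
  obtain ⟨A, hA'⟩ := C7.exists_gl A₀ fun y y' e => T_inj_left h.ne_left
    ((app g).injective (by rw [hA₀, hA₀, e]))
  have hA : ∀ y, app g (T i y b) = T l (app A y) b' := fun y => by rw [hA', hA₀]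
  have hperp' : ∀ x, ct l (G.f b') x = 0 → ct i (G.f b) (app g⁻¹ x) = 0 := fun x hx =>
    ct_zero_of_B fun y => by rw [← hiso, hA, app_app_inv, B_ct, hx, map_zero]
  have hperp : ∀ x, ct i (G.f b) x = 0 → ct l (G.f b') (app g x) = 0 := fun x hx =>
    ct_zero_of_B fun y => by
      rw [← app_app_inv A y, ← hA, hiso, B_ct, hx, map_zero]
  have hint : ∀ v, G.InW b c v → ∃ v', G.InW b' c' v' ∧
      ∀ x, app g (sl i (G.dd b v) x) = sl l (G.dd b' v') (app g x) := by
    intro v hv
    set y := kr i (1 : GL (J k t) F) (G.sg b v) with hy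
    obtain ⟨v', hv', e⟩ := hrad l b' c' h' (g * y * g⁻¹)
      (mul_mem (mul_mem hg (hO.sq_gen i (sg_mem_sq1 b v h.bb hv.1))) (inv_mem hg))
      (fun y' => by
        rw [← app_app_inv A y', ← hA, map_mul, map_mul, LinearEquiv.mul_apply, LinearEquiv.mul_apply,
          app_inv_app, app_kr_one, sg_fix h.bb hv.1])
      (fun x hx => by
        obtain ⟨a, ha⟩ := perp_ext h (Li i b) ((app y).toLinearMap - LinearMap.id) (fun a z hz => by
          simp only [LinearMap.sub_apply, LinearEquiv.coe_coe, LinearMap.id_apply, hy, app_kr_one,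
            sg_apply h.bb hv.1, hz]
          simp [T_mem_Li, Submodule.smul_mem]) (hperp' x hx)
        simp only [LinearMap.sub_apply, LinearEquiv.coe_coe, LinearMap.id_apply,
          LinearMap.flip_apply] at ha
        have := hA a
        rw [ha, map_sub, app_app_inv] at this
        rw [map_mul, map_mul, LinearEquiv.mul_apply, LinearEquiv.mul_apply, this]
        exact T_mem_Li _ _ _)
    refine ⟨v', hv', fun x => ?_⟩
    apply smul_right_injective _ G.two
    show (2 : F) • _ = (2 : F) • _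
    have e' : g * kr i 1 (G.sg b (-v)) * g⁻¹ = kr l 1 (G.sg b' (-v')) := by
      rw [← sg_inv, ← sg_inv, show kr i (1 : GL (J k t) F) (G.sg b v)⁻¹ = y⁻¹ by
          rw [hy, kr_inv, inv_one],
        show kr l (1 : GL (J k t) F) (G.sg b' v')⁻¹ = (g * y * g⁻¹)⁻¹ by rw [e, kr_inv, inv_one]]
      group
    rw [← map_smul, two_sl h.bb hv.1, two_sl h'.bb hv'.1, map_sub, ← e, ← e']
    simp [app_inv_app, hy]
  obtain ⟨y₀, hy₀⟩ := exists_ne (0 : J k t → F)
  have huniq : ∀ v v', G.InW b' c' v → G.InW b' c' v' →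
      (∀ x, sl l (G.dd b' v) (app g x) = sl l (G.dd b' v') (app g x)) → v = v' := by
    intro v v' hv hv' hx
    have := hx (app g⁻¹ (T l y₀ c'))
    rw [app_app_inv, sl_T, sl_T, dd_apply, dd_apply, hv.right', hv'.right', h'.bc] at this
    simpa using T_inj_right hy₀ this
  choose β₀ hβ₀W hβ₀ using fun z => hint _ (wp_mem h z)
  have hddadd : ∀ (a u w : Fin k → F), G.dd a (u + w) = G.dd a u + G.dd a w := fun a u w =>
    LinearMap.ext fun z => by simp; module
  have hddsmul : ∀ (a u : Fin k → F) (s : F), G.dd a (s • u) = s • G.dd a u := fun a u s =>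
    LinearMap.ext fun z => by simp; module
  let β : (Fin k → F) →ₗ[F] (Fin k → F) :=
    { toFun := β₀
      map_add' := fun z z' => huniq _ _ (hβ₀W _) ((hβ₀W z).add (hβ₀W z')) fun x => by
        rw [← hβ₀, hddadd, sl_add, LinearMap.add_apply, ← hβ₀, ← hβ₀, ← map_add,
          ← LinearMap.add_apply, ← sl_add, ← hddadd]
        congr 4
        simp [wp]; module
      map_smul' := fun s z => huniq _ _ (hβ₀W _) ((hβ₀W z).smul s) fun x => by
        simp only [RingHom.id_apply]
        rw [← hβ₀, hddsmul, sl_smul, LinearMap.smul_apply, ← hβ₀, ← map_smul,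
          ← LinearMap.smul_apply, ← sl_smul, ← hddsmul]
        congr 4
        simp [wp]; module }
  have hβW : ∀ z, G.InW b' c' (β z) := hβ₀W
  have hβ : ∀ z x, app g (sl i (G.dd b (G.wp b c z)) x) = sl l (G.dd b' (β z)) (app g x) := hβ₀
  have hbb : ∀ z x, G.f (G.wp b c z) (G.wp b c z) • app g (sl i (G.bb b) x) =
      G.f (β z) (β z) • sl l (G.bb b') (app g x) := fun z x => by
    have e := hβ z (sl i (G.dd b (G.wp b c z)) x)
    rw [hβ z x, sl_comp, sl_comp, dd_sq h (wp_mem h z), dd_sq h' (hβW z), sl_neg, sl_neg,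
      sl_smul, sl_smul, LinearMap.neg_apply, LinearMap.neg_apply, LinearMap.smul_apply,
      LinearMap.smul_apply, map_neg, map_smul] at e
    linear_combination (norm := module) -e
  obtain ⟨e₀, he₀, hg₀⟩ := exists_aniso h hk
  set μ := G.f (β e₀) (β e₀) / G.f e₀ e₀ with hμd
  have hμb : ∀ x, app g (sl i (G.bb b) x) = μ • sl l (G.bb b') (app g x) := fun x => by
    have e := hbb e₀ x
    rw [wp_W he₀] at e
    rw [← inv_smul_smul₀ hg₀ (app g (sl i (G.bb b) x)), e, smul_smul, hμd, div_eq_inv_mul]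
  have hgne : ∀ y, y ≠ 0 → app g (T i y b) ≠ 0 := fun y hy e =>
    hy ((T_eq_zero ((app g).map_eq_zero_iff.1 e)).resolve_right h.ne_left)
  have hμ : μ ≠ 0 := fun e => hgne y₀ hy₀ (by simpa [e, h.bc] using hμb (T i y₀ c))
  have hct : ∀ y, ct l (G.f b') (app g (T i y c)) = μ⁻¹ • app A y := fun y => by
    have e := hμb (T i y c)
    rw [sl_T, bb_apply, h.bc, one_smul, hA, sl_bb, ← LinearMap.smul_apply, ← map_smul] at e
    rw [T_inj_left h'.ne_left e, inv_smul_smul₀ hμ]
  have hβq : ∀ z, G.f (β z) (β z) = μ * G.f (G.wp b c z) (G.wp b c z) := fun z => by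
    have e := hbb z (T i y₀ c)
    rw [hμb, smul_smul, sl_bb, hct] at e
    have hne : T l (μ⁻¹ • app A y₀) b' ≠ 0 := fun e0 =>
      hy₀ ((app A).map_eq_zero_iff.1 ((smul_eq_zero.1
        ((T_eq_zero e0).resolve_right h'.ne_left)).resolve_left (inv_ne_zero hμ)))
    rw [← smul_left_injective F hne e, mul_comm]
  have hwadd : ∀ z z', G.wp b c (z + z') = G.wp b c z + G.wp b c z' := fun z z' => by
    simp [wp]; module
  have hβf : ∀ z z', G.f (β z) (β z') = μ * G.f (G.wp b c z) (G.wp b c z') := fun z z' => by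
    have e := hβq (z + z')
    rw [map_add, hwadd, f_add_self, f_add_self, hβq, hβq] at e
    refine mul_left_cancel₀ G.two ?_
    linear_combination e
  set L : (Fin k → F) →ₗ[F] (Fin k → F) :=
    (G.f c).smulRight b' + (μ⁻¹ • G.f b).smulRight c' + μ⁻¹ • β with hLd
  have hLf : ∀ u v, G.f (L u) (L v) = μ⁻¹ * G.f u v := fun u v => by
    conv_rhs => rw [wp_decomp G b c u, wp_decomp G b c v]
    have hu := wp_mem h u
    have hv := wp_mem h v
    have hu' := hβW u
    have hv' := hβW v
    simp only [hLd, LinearMap.add_apply, LinearMap.smulRight_apply, LinearMap.smul_apply, map_add,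
      map_smul, smul_eq_mul, h.bb, h.cc, h.bc, h.cb, h'.bb, h'.cc, h'.bc, h'.cb, hu'.left', hu'.right',
      hv'.1, hv'.2, hu.left', hu.right', hv.1, hv.2, hβf]
    field_simp
    ring
  obtain ⟨τ, hτ⟩ := C7.exists_gl L ((injective_iff_map_eq_zero L).2 fun u hu => G.nd u fun v => by
    have := hLf u v
    rw [hu, map_zero, LinearMap.zero_apply, eq_comm, mul_eq_zero] at this
    exact this.resolve_left (inv_ne_zero hμ))
  have hβ0 : ∀ z, G.wp b c z = 0 → β z = 0 := fun z hz => huniq _ 0 (hβW z)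
    ⟨map_zero _, map_zero _⟩ fun x => by
      rw [← hβ, hz]
      simp [sl_dd, ct_zero]
  have hτb : app τ b = b' := by
    rw [hτ, hLd]; simp [h.cb, h.bb, hβ0 b (by simp [wp, h.bb, h.cb])]
  have hτc : app τ c = μ⁻¹ • c' := by
    rw [hτ, hLd]; simp [h.cc, h.bc, hβ0 c (by simp [wp, h.cc, h.bc])]
  have hAsim : ∀ y y', G.B t (app A y) (app A y') = μ * G.B t y y' := fun y y' => by
    have e := hiso (T i y b) (T i y' c)
    rw [hA, B_T, h.bc, mul_one, B_ct, hct, map_smul, smul_eq_mul] at e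
    rw [← e, ← mul_assoc, mul_inv_cancel₀ hμ, one_mul]
  let Φ : (Fin k → F) →ₗ[F] Module.End F (J k t → F) :=
    { toFun := fun z => (ct l (G.f c')).comp ((app g).toLinearMap.comp ((T i).flip z))
      map_add' := fun z z' => LinearMap.ext fun y => by simp
      map_smul' := fun s z => LinearMap.ext fun y => by simp }
  refine ⟨A, τ, μ, Φ, hμ, fun u v => by rw [hτ, hτ, hLf], hτb, hτc, hAsim, hA, fun y w hw => ?_, hct⟩
  refine G.ct_sep (i := l) fun a => ?_
  obtain ⟨z, rfl⟩ : ∃ z, app τ z = a := ⟨_, app_app_inv τ a⟩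
  set P := app g (T i y w) with hP
  have hPb : ct l (G.f b') P = 0 := hperp _ (by simp [hw.1])
  have hPc : ct l (G.f c') P = Φ w y := rfl
  have hPβ : ct l (G.f (β z)) P = G.f (G.wp b c z) w • app A y := by
    have e := hβ z (T i y w)
    rw [← hP, sl_dd l, hPb, map_zero, LinearMap.zero_apply, sub_zero, sl_T, dd_apply, hw.1, zero_smul,
      sub_zero, map_smul, map_smul, hA, ← LinearMap.smul_apply, ← map_smul] at e
    exact (T_inj_left h'.ne_left e).symm
  rw [hτ z, hLd]
  simp only [LinearMap.add_apply, LinearMap.smulRight_apply, LinearMap.smul_apply, map_add, map_smul,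
    ct_add, ct_smul, hPb, hPc, hPβ, ct_T, smul_zero, zero_add, smul_eq_mul]
  rw [hτ w, hLd, show G.f (G.wp b c z) w = G.f (G.wp b c z) (G.wp b c w) by rw [wp_W hw]]
  simp only [LinearMap.add_apply, LinearMap.smulRight_apply, LinearMap.smul_apply, map_add, map_smul,
    LinearMap.smul_apply, smul_eq_mul, hw.1, hw.2, h'.bb, h'.cb, h'.bc, (hβW z).left', (hβW w).1, (hβW w).2, hβf]
  match_scalars <;> field_simp <;> ring

lemma ww_b {v : Fin k → F} (h : G.HB b c) (hv : G.InW b c v) (hg : G.f v v ≠ 0) :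
    app (G.ww b c v) b = -(2 / G.f v v) • c ∧ app (G.ww b c v) c = -(G.f v v / 2) • b := by
  constructor <;> rw [ww_apply h hv hg] <;> simp [wp, h.bb, h.bc, h.cb, h.cc, hv.left', hv.right']

lemma ww_W {v w : Fin k → F} (h : G.HB b c) (hv : G.InW b c v) (hg : G.f v v ≠ 0)
    (hw : G.InW b c w) : app (G.ww b c v) w = w - (2 * G.f v w / G.f v v) • v := by
  rw [ww_apply h hv hg, wp_W hw]; simp [hw.1, hw.2]

lemma sq_three (h3 : Fintype.card F = 3) {a : F} (ha : a ≠ 0) : a = 1 ∨ a = -1 := by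
  have := FiniteField.pow_card_sub_one_eq_one a ha
  rw [h3] at this
  rcases mul_eq_zero.1 (show (a - 1) * (a + 1) = 0 by linear_combination this) with e | e
  · exact .inl (by linear_combination e)
  · exact .inr (by linear_combination e)

lemma three_zero (h3 : Fintype.card F = 3) : (3 : F) = 0 := by
  have := FiniteField.cast_card_eq_zero F
  rw [h3] at this
  exact_mod_cast this

/-- The defect is scalar. -/
lemma line_scal (hk : 3 ≤ k) (hex : ¬ (Fintype.card F = 3 ∧ k = 3)) (hnp : G.NoPlane) (hO : G.Ovg M)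
    (hrad : G.RadY M) {g : GL (J k (t + 1)) F} (hg : g ∈ M) (h : G.HB b c) (h' : G.HB b' c')
    {A : GL (J k t) F} {τ : GL (Fin k) F} {μ : F} {Φ : (Fin k → F) →ₗ[F] Module.End F (J k t → F)}
    (hμ : μ ≠ 0) (hτ : ∀ u v, G.f (app τ u) (app τ v) = μ⁻¹ * G.f u v) (hτb : app τ b = b')
    (hτc : app τ c = μ⁻¹ • c') (hAb : ∀ y, app g (T i y b) = T l (app A y) b')
    (hAw : ∀ y w, G.InW b c w → app g (T i y w) = T l (app A y) (app τ w) + T l (Φ w y) b')
    {w : Fin k → F} (hw : G.InW b c w) : ∃ r : F, Φ w = r • (app A).toLinearMap := by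
  have hτW : ∀ v, G.InW b c v → G.InW b' c' (app τ v) := fun v hv => by
    constructor
    · rw [← hτb, hτ, hv.1, mul_zero]
    · rw [show c' = μ • app τ c by rw [hτc, smul_inv_smul₀ hμ], map_smul, LinearMap.smul_apply, hτ,
        hv.2]
      simp
  have key : ∀ u u', G.InW b c u → G.InW b c u' → G.f u u ≠ 0 → G.f u' u' ≠ 0 → ∀ v, G.InW b c v →
      ∀ v₁, v₁ = v - (2 * G.f u' v / G.f u' u') • u' →
      ∃ r : F, Φ (v₁ - (2 * G.f u v₁ / G.f u u) • u) - (G.f u u / G.f u' u') • Φ v =
        r • (app A).toLinearMap := by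
    intro u u' hu hu' hgu hgu' v hv v₁ hv₁
    have hgt : ∀ {x}, G.f x x ≠ 0 → G.f (app τ x) (app τ x) ≠ 0 := fun hx => by
      rw [hτ]; exact mul_ne_zero (inv_ne_zero hμ) hx
    set ν := G.f u u / G.f u' u' with hνd
    have hν : ν ≠ 0 := div_ne_zero hgu hgu'
    set C := G.ww b c u * G.ww b c u' with hC
    set C' := G.ww b' c' (app τ u) * G.ww b' c' (app τ u') with hC'
    have h22 := G.two
    have hCb : app C b = ν • b := by
      rw [hC, map_mul, LinearEquiv.mul_apply, (ww_b h hu' hgu').1, map_smul, (ww_b h hu hgu).2,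
        smul_smul, hνd]
      congr 1; field_simp
    have hC'b : app C' b' = ν • b' := by
      rw [hC', map_mul, LinearEquiv.mul_apply, (ww_b h' (hτW _ hu') (hgt hgu')).1, map_smul,
        (ww_b h' (hτW _ hu) (hgt hgu)).2, smul_smul, hτ, hτ, hνd]
      congr 1; field_simp
    have hC'i : app C'⁻¹ b' = ν⁻¹ • b' := (app C').injective (by
      rw [app_app_inv, map_smul, hC'b, inv_smul_smul₀ hν])
    have hwC : ∀ x, G.InW b c x → G.InW b c (app C x) ∧ app C' (app τ x) = app τ (app C x) := by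
      intro x hx
      have hx' : G.InW b c (x - (2 * G.f u' x / G.f u' u') • u') := by
        rw [sub_eq_add_neg]; exact hx.add (hu'.smul _).neg
      rw [hC, hC', map_mul, map_mul, LinearEquiv.mul_apply, LinearEquiv.mul_apply,
        ww_W h hu' hgu' hx, ww_W h hu hgu hx', ww_W h' (hτW _ hu') (hgt hgu') (hτW _ hx)]
      refine ⟨by rw [sub_eq_add_neg]; exact hx'.add (hu.smul _).neg, ?_⟩
      rw [show app τ x - (2 * G.f (app τ u') (app τ x) / G.f (app τ u') (app τ u')) • app τ u' =
          app τ (x - (2 * G.f u' x / G.f u' u') • u') by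
        rw [map_sub, map_smul, hτ, hτ]; congr 2; field_simp,
        ww_W h' (hτW _ hu) (hgt hgu) (hτW _ hx')]
      simp only [map_sub, map_smul, LinearMap.sub_apply, LinearMap.smul_apply, hτ, smul_eq_mul]
      match_scalars <;> field_simp
    have hCv : app C v = v₁ - (2 * G.f u v₁ / G.f u u) • u := by
      rw [hv₁, hC, map_mul, LinearEquiv.mul_apply, ww_W h hu' hgu' hv,
        ww_W h hu hgu (by rw [sub_eq_add_neg]; exact hv.add (hu'.smul _).neg)]
    have hCm : ∀ {a d x y : Fin k → F}, G.HB a d → G.InW a d x → G.InW a d y → ∀ j : Fin (t + 1),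
        kr j 1 (G.ww a d x * G.ww a d y) ∈ M := fun ha hx hy j =>
      hO.sq_gen j (mul_mem (ww_mem_sq1 ha hx) (ww_mem_sq1 ha hy))
    set zz := (kr l (1 : GL (J k t) F) C')⁻¹ * (g * kr i 1 C * g⁻¹) with hzz
    have hzb : ∀ y, app zz (T l y b') = T l y b' := fun y => by
      rw [← app_app_inv A y, hzz, map_mul, map_mul, map_mul, LinearEquiv.mul_apply,
        LinearEquiv.mul_apply, LinearEquiv.mul_apply, ← hAb, app_inv_app, app_kr_one, hCb, map_smul,
        map_smul, hAb, map_smul, kr_inv, inv_one, app_kr_one, hC'i, map_smul, smul_inv_smul₀ hν]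
    have hzW : ∀ y x, G.InW b c x → app zz (T l (app A y) (app τ x)) = T l (app A y) (app τ x) +
        ν⁻¹ • T l (Φ (app C x) y - ν • Φ x y) b' := by
      intro y x hx
      have e : T l (app A y) (app τ x) = app g (T i y x - T i (app A⁻¹ (Φ x y)) b) := by
        rw [map_sub, hAw y x hx, hAb, app_app_inv]; abel
      have e' : app C'⁻¹ (app τ (app C x)) = app τ x :=
        (app C').injective (by rw [app_app_inv, (hwC x hx).2])
      rw [hzz, map_mul, map_mul, map_mul, LinearEquiv.mul_apply, LinearEquiv.mul_apply,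
        LinearEquiv.mul_apply]
      conv_lhs => rw [e, app_inv_app]
      rw [map_sub, app_kr_one, app_kr_one, hCb, map_smul, map_sub, map_smul, hAw y _ (hwC x hx).1, hAb,
        app_app_inv, map_sub, map_add, map_smul, kr_inv, inv_one, app_kr_one, app_kr_one, app_kr_one, e',
        hC'i]
      simp
      module
    obtain ⟨x, hx, e⟩ := hrad l b' c' h' zz
      (mul_mem (inv_mem (hCm h' (hτW _ hu) (hτW _ hu') l))
        (mul_mem (mul_mem hg (hCm h hu hu' i)) (inv_mem hg))) hzb
      (fun p hp => perp_ext h' (Li l b') ((app zz).toLinearMap - LinearMap.id) (fun y z hz => by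
        obtain ⟨z, rfl⟩ : ∃ z₀, app τ z₀ = z := ⟨_, app_app_inv τ z⟩
        have hbz : G.f b z = 0 := by
          rw [← hτb, hτ] at hz; exact (mul_eq_zero.1 hz).resolve_left (inv_ne_zero hμ)
        have ez : z = G.f c z • b + G.wp b c z := by simp [wp, hbz]
        obtain ⟨y, rfl⟩ : ∃ y₀, app A y₀ = y := ⟨_, app_app_inv A y⟩
        rw [ez, map_add, map_smul, hτb, map_add, map_smul]
        simp only [LinearMap.sub_apply, LinearEquiv.coe_coe, LinearMap.id_apply, map_add, map_smul, hzb,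
          hzW y _ (wp_mem h z)]
        simp [T_mem_Li, Submodule.smul_mem]
        exact Submodule.smul_mem _ _ (Submodule.sub_mem _ (T_mem_Li _ _ _)
          (Submodule.smul_mem _ _ (T_mem_Li _ _ _)))) hp)
    refine ⟨ν * G.f x (app τ v), LinearMap.ext fun y => ?_⟩
    have e1 := congrArg (fun m => app m (T l (app A y) (app τ v))) e
    rw [hzW y v hv, app_kr_one, sg_apply h'.bb hx.1, (hτW v hv).1] at e1
    simp only [zero_smul, zero_mul, zero_div, sub_zero, map_add, map_smul] at e1
    have e2 : T l (ν⁻¹ • (Φ (app C v) y - ν • Φ v y)) b' = T l (G.f x (app τ v) • app A y) b' := by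
      simpa using e1
    have e3 := T_inj_left h'.ne_left e2
    rw [hCv] at e3
    simp only [LinearMap.sub_apply, LinearMap.smul_apply, LinearEquiv.coe_coe]
    rw [mul_smul, ← e3, smul_inv_smul₀ hν]
  by_cases h3 : Fintype.card F = 3
  · -- three elements
    have hthree := three_zero (F := F) h3
    obtain ⟨e, he, heg, heo, hsum⟩ := exists_basis h (by omega)
    have pair : ∀ u u', G.InW b c u → G.InW b c u' → G.f u u ≠ 0 → G.f u u = G.f u' u' →
        G.f u u' = 0 → ∃ r : F, Φ u = r • (app A).toLinearMap := by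
      intro u u' hu hu' hgu he' ho
      obtain ⟨r, hr⟩ := key u u' hu hu' hgu (he' ▸ hgu) u hu u (by simp [G.sym u' u, ho])
      rw [← he', div_self hgu, mul_div_assoc, div_self hgu, mul_one, one_smul,
        show u - (2 : F) • u = -u by module, map_neg] at hr
      refine ⟨(-2)⁻¹ * r, ?_⟩
      rw [mul_smul, ← hr, show -Φ u - Φ u = (-2 : F) • Φ u by module,
        inv_smul_smul₀ (neg_ne_zero.2 G.two)]
    have hej : ∀ j, ∃ r : F, Φ (e j) = r • (app A).toLinearMap := by
      intro j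
      by_cases hs : ∃ j', j' ≠ j ∧ G.f (e j') (e j') = G.f (e j) (e j)
      · obtain ⟨j', hj', ee⟩ := hs
        exact pair _ _ (he j) (he j') (heg j) ee.symm (heo _ _ (Ne.symm hj'))
      push Not at hs
      have hneg : ∀ j', j' ≠ j → G.f (e j') (e j') = -G.f (e j) (e j) := fun j' hj' => by
        rcases sq_three h3 (heg j') with a | a <;> rcases sq_three h3 (heg j) with a' | a' <;>
          first
          | exact absurd (a.trans a'.symm) (hs j' hj')
          | simp [a, a']
      obtain ⟨j₁, hj₁⟩ : ∃ j₁, j₁ ≠ j := by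
        haveI : Nontrivial (Fin (k - 2)) := Fin.nontrivial_iff_two_le.2 (by
          have : k ≠ 3 := fun e => hex ⟨h3, e⟩
          omega)
        exact exists_ne j
      by_cases hk4 : k = 4
      · exfalso
        have hu : G.InW b c (e j + e j₁) := (he j).add (he j₁)
        obtain ⟨r, hr⟩ := hnp hk4 b (e j + e j₁) h.bb (by
          rw [f_add_self, heo _ _ (Ne.symm hj₁), hneg j₁ hj₁]; ring) hu.1 h.ne_left
        have h1 := hu.2
        rw [hr, map_smul, h.cb, smul_eq_mul, mul_one] at h1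
        rw [h1, zero_smul] at hr
        have h2 := congrArg (G.f (e j)) hr
        rw [map_add, heo _ _ (Ne.symm hj₁), add_zero, map_zero] at h2
        exact heg j h2
      obtain ⟨j₂, hj₂, hj₂'⟩ : ∃ j₂, j₂ ≠ j ∧ j₂ ≠ j₁ := by
        by_contra! hh
        have : (Finset.univ : Finset (Fin (k - 2))) ⊆ {j, j₁} := fun x _ => by
          by_cases hx : x = j
          · simp [hx]
          · simp [hh x hx]
        have := (Finset.card_le_card this).trans Finset.card_le_two
        simp at this; omega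
      refine pair _ (e j₁ + e j₂) (he j) ((he j₁).add (he j₂)) (heg j) ?_
        (by simp [heo _ _ (Ne.symm hj₁), heo _ _ (Ne.symm hj₂)])
      rw [f_add_self, heo _ _ (Ne.symm hj₂'), hneg j₁ hj₁, hneg j₂ hj₂]
      linear_combination G.f (e j) (e j) * hthree
    choose r hr using hej
    refine ⟨∑ j, (G.f (e j) w / G.f (e j) (e j)) * r j, ?_⟩
    conv_lhs => rw [← wp_W hw, hsum]
    rw [map_sum, Finset.sum_smul]
    exact Finset.sum_congr rfl fun j _ => by rw [map_smul, hr, smul_smul]
  · -- a scaling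
    obtain ⟨s, hs0, hs1⟩ := QuadPair.exists_scalar (k := F) (fun e => G.two (by
      have := ringChar.Nat.cast_ringChar (R := F); rw [e] at this; exact_mod_cast this))
      (by rw [Nat.card_eq_fintype_card]; exact h3)
    obtain ⟨u, hu, hgu⟩ := exists_aniso h hk
    have hgs : G.f (s • u) (s • u) ≠ 0 := by simp [hs0, hgu]
    obtain ⟨r, hr⟩ := key (s • u) u (hu.smul s) hu hgs hgu w hw _ rfl
    rw [show (w - (2 * G.f u w / G.f u u) • u) - (2 * G.f (s • u) (w - (2 * G.f u w / G.f u u) • u) /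
      G.f (s • u) (s • u)) • s • u = w by
        simp only [map_smul, LinearMap.smul_apply, map_sub, smul_eq_mul, smul_smul]
        match_scalars <;> field_simp <;> ring,
      show G.f (s • u) (s • u) / G.f u u = s ^ 2 by simp; field_simp] at hr
    have hne : (1 : F) - s ^ 2 ≠ 0 := fun e => hs1 (by linear_combination -e)
    refine ⟨(1 - s ^ 2)⁻¹ * r, ?_⟩
    rw [mul_smul, ← hr, show Φ w - s ^ 2 • Φ w = (1 - s ^ 2) • Φ w by module, inv_smul_smul₀ hne]

/-- The normal form of an element carrying a line to a line. -/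
theorem exists_line_form (hk : 3 ≤ k) (hex : ¬ (Fintype.card F = 3 ∧ k = 3)) (hnp : G.NoPlane)
    (hO : G.Ovg M) (hrad : G.RadY M) {g : GL (J k (t + 1)) F} (hg : g ∈ M) (h : G.HB b c)
    (h' : G.HB b' c') (hline : ∀ y, app g (T i y b) ∈ Li l b') :
    ∃ (A : GL (J k t) F) (τ : GL (Fin k) F) (μ : F) (R : Module.End F (J k t → F)) (v : Fin k → F),
      μ ≠ 0 ∧ (∀ u w, G.f (app τ u) (app τ w) = μ⁻¹ * G.f u w) ∧ app τ b = b' ∧ G.InW b c v ∧
      (∀ y y', G.B t (app A y) (app A y') = μ * G.B t y y') ∧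
      (∀ y y', G.B t (app A y) (R y') + G.B t (R y) (app A y') = 0) ∧
      ∀ y z, app (g * kr i 1 (G.sg b v)) (T i y z) =
        T l (app A y) (app τ z) + G.f b z • T l (R y) b' := by
  have : Nonempty (Fin k) := ⟨⟨0, by omega⟩⟩
  obtain ⟨A, τ, μ, Φ, hμ, hτ, hτb, hτc, hA, hAb, hAw, hct⟩ := exists_line_data hk hO hrad hg h h' hline
  obtain ⟨y₀, hy₀⟩ := exists_ne (0 : J k t → F)
  obtain ⟨ψ, hψ⟩ := C7.exists_dual (u := app A y₀) fun e => hy₀ ((app A).map_eq_zero_iff.1 e)
  set φ : (Fin k → F) →ₗ[F] F := ψ.comp ((LinearMap.applyₗ y₀).comp Φ) with hφd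
  have hΦ : ∀ w, G.InW b c w → Φ w = φ w • (app A).toLinearMap := fun w hw => by
    obtain ⟨r, hr⟩ := line_scal hk hex hnp hO hrad hg h h' hμ hτ hτb hτc hAb hAw hw
    rw [hr, hφd]
    simp [hr, hψ]
  obtain ⟨v₀, hv₀⟩ := G.exists_rep φ
  set v := -G.wp b c v₀ with hvd
  have hv : G.InW b c v := (wp_mem h v₀).neg
  set g' := g * kr i (1 : GL (J k t) F) (G.sg b v) with hg'
  have hg'M : g' ∈ M := mul_mem hg (hO.sq_gen i (sg_mem_sq1 b v h.bb hv.1))
  have hiso := hO.le hg'M
  have hb' : ∀ y, app g' (T i y b) = T l (app A y) b' := fun y => by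
    rw [hg', map_mul, LinearEquiv.mul_apply, app_kr_one, sg_fix h.bb hv.1, hAb]
  have hw' : ∀ y w, G.InW b c w → app g' (T i y w) = T l (app A y) (app τ w) := fun y w hw => by
    rw [hg', map_mul, LinearEquiv.mul_apply, app_kr_one, sg_apply h.bb hv.1, hw.1, hvd]
    simp only [map_add, map_sub, map_smul, zero_smul, zero_mul, zero_div, sub_zero, hAw y w hw, hAb,
      hΦ w hw, map_neg, LinearMap.neg_apply, LinearMap.smul_apply, LinearEquiv.coe_coe]
    rw [G.sym, wp_f hw, G.sym, hv₀]
    module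
  have hct' : ∀ y, ct l (G.f b') (app g' (T i y c)) = μ⁻¹ • app A y := fun y => by
    rw [hg', map_mul, LinearEquiv.mul_apply, app_kr_one, sg_apply h.bb hv.1, h.bc]
    simp [hv.right', hAb, hct, hAw _ _ hv, h'.bb, show G.f b' (app τ v) = 0 by rw [← hτb, hτ, hv.1, mul_zero]]
  have hgc : ∀ y a, ct l (G.f (app τ a)) (app g' (T i y c)) =
      G.f c a • μ⁻¹ • app A y + (μ⁻¹ * G.f b a) • ct l (G.f c') (app g' (T i y c)) := fun y a => by
    conv_lhs => rw [wp_decomp G b c a]
    have hW : ct l (G.f (app τ (G.wp b c a))) (app g' (T i y c)) = 0 := G.nd_B _ fun y' => by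
      rw [G.B_comm, ← app_app_inv A y', ← B_ct, ← hw' _ _ (wp_mem h a), hiso, B_T,
        (wp_mem h a).right', mul_zero]
    simp only [map_add, map_smul, hτb, hτc, ct_add, ct_smul, hct', hW, add_zero, smul_smul,
      mul_comm (G.f b a)]
  let R : Module.End F (J k t → F) := (ct l (G.f c')).comp ((app g').toLinearMap.comp ((T i).flip c))
  have hR : ∀ y, ct l (G.f c') (app g' (T i y c)) = R y := fun y => rfl
  have hQ : ∀ y, app g' (T i y c) = T l (app A y) (app τ c) + T l (R y) b' := fun y =>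
    G.ct_sep (i := l) fun a => by
      obtain ⟨a, rfl⟩ : ∃ z, app τ z = a := ⟨_, app_app_inv τ a⟩
      rw [hgc, hR, map_add, ct_T, ct_T, hτ, show G.f (app τ a) b' = μ⁻¹ * G.f b a by
        rw [← hτb, hτ, G.sym a b], G.sym a c, smul_smul, mul_comm]
  refine ⟨A, τ, μ, R, v, hμ, hτ, hτb, hv, hA, fun y y' => ?_, fun y z => ?_⟩
  · have e := hiso (T i y c) (T i y' c)
    rw [hQ, hQ] at e
    simp only [map_add, LinearMap.add_apply, B_T, hτ, h.cc, mul_zero, h'.bb, hτc, map_smul,
      LinearMap.smul_apply, h'.cb, h'.bc, h'.cc, smul_eq_mul, mul_one, add_zero, zero_add] at e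
    refine (mul_eq_zero.1 (show μ⁻¹ * _ = 0 from ?_)).resolve_left (inv_ne_zero hμ)
    linear_combination e
  · rw [← hg']
    conv_lhs => rw [wp_decomp G b c z]
    have hz := wp_mem h z
    rw [show app τ z = app τ (G.f c z • b + G.f b z • c + G.wp b c z) by rw [← wp_decomp G b c z]]
    simp only [map_add, map_smul, hb', hQ, hw' _ _ hz, hτb]
    module

end Sm

end Cfsg.Agent.C7O
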