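import Cfsg.Agent.Lib.C7O.Level2

/-!
# The radical of a singular line of one position

* `Sm.rad M i b` : the elements of `M` fixing `W ⊗ b` and trivial on the quotient of its orthogonal by it
* `Sm.dp i b c X` : the odd part of an operator for the torus of the pair
* `Sm.fx_of_mod` : an element fixed modulo scalars is fixed
* `Sm.rad_eq` : the radical of a line meets an overgroup in the Siegel elements of the position
-/

set_option autoImplicit false
set_option linter.unusedSectionVars false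

namespace Cfsg.Agent.C7O

open Matrix Module Cfsg.Agent.Transvect Cfsg.Agent.C7
open Cfsg.Agent.C7F (op op_T op_one pr T_pr T_pr' pt pt_pr pt_comp sl sl_T sl_pr InM res mem_res_iff kr_nest)
open scoped MatrixGroups

attribute [-simp] app_apply

variable {F : Type*} [Field F] [Fintype F] {k t : ℕ}

/-- `g - 1`. -/
noncomputable def nl {ι : Type} [Fintype ι] [DecidableEq ι] (g : GL ι F) : Module.End F (ι → F) :=
  (app g).toLinearMap - LinearMap.id

lemma nl_apply {ι : Type} [Fintype ι] [DecidableEq ι] (g : GL ι F) (x : ι → F) :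
    nl g x = app g x - x := rfl

lemma nl_conj {ι : Type} [Fintype ι] [DecidableEq ι] (h g : GL ι F) :
    nl (h * g * h⁻¹) = cj h (nl g) := LinearMap.ext fun x => by
  simp [nl_apply, cj_apply, map_sub, app_app_inv]

lemma nl_mul {ι : Type} [Fintype ι] [DecidableEq ι] (g h : GL ι F) :
    nl (g * h) = nl g + nl h + nl g * nl h := LinearMap.ext fun x => by
  simp [nl_apply, map_sub]; abel

namespace Sm

variable {G : Sm F k} {b c : Fin k → F} {M : Subgroup (GL (J k (t + 1)) F)} {i : Fin (t + 1)}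

variable (G) in
/-- The odd part for the torus of the pair. -/
noncomputable def dp (i : Fin (t + 1)) (b c : Fin k → F) :
    Module.End F (Module.End F (J k (t + 1) → F)) :=
  (2 : F)⁻¹ • (1 - cj (kr i 1 (G.tor b c (-1))))

lemma dp_apply (X : Module.End F (J k (t + 1) → F)) :
    G.dp i b c X = (2 : F)⁻¹ • (X - cj (kr i 1 (G.tor b c (-1))) X) := rfl

lemma TB.tor (h : G.HB b c) {X : Module.End F (J k (t + 1) → F)} (hX : X ∈ G.TB i b c) :
    C7O.cj (kr i 1 (G.tor b c (-1))) X = X := G.cC_ext (i := i) fun a z => by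
  have hn1 : (-1 : F) ≠ 0 := neg_ne_zero.2 one_ne_zero
  rw [cC_cj_slot i (G.isI_tor _ _ _), hX, (tor_inv_data h hn1 a).1, (tor_inv_data h hn1 z).1, hX a z]
  congr 1
  ring

lemma TD.tor (h : G.HB b c) {X : Module.End F (J k (t + 1) → F)} (hX : X ∈ G.TD i b c) :
    C7O.cj (kr i 1 (G.tor b c (-1))) X = -X := G.cC_ext (i := i) fun a z => by
  have hn1 : (-1 : F) ≠ 0 := neg_ne_zero.2 one_ne_zero
  rw [cC_cj_slot i (G.isI_tor _ _ _), hX, (tor_inv_data h hn1 a).1, (tor_inv_data h hn1 z).1,
    (tor_inv_data h hn1 a).2, (tor_inv_data h hn1 z).2, ← neg_one_smul F X, cC_smul, hX a z]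
  module

lemma tor_comm (h : G.HB b c) {C : GL (Fin k) F} (hC : G.IsI C) {μ : F} (hμ : μ ≠ 0)
    (hb : app C b = μ • b) (hc : app C c = μ⁻¹ • c) (z : Fin k → F) :
    app C (app (G.tor b c (-1)) z) = app (G.tor b c (-1)) (app C z) := by
  have hn1 : (-1 : F) ≠ 0 := neg_ne_zero.2 one_ne_zero
  rw [tor_apply h hn1, tor_apply h hn1, hC.fb hb hμ]
  have h2 : G.f c (app C z) = μ * G.f c z := by
    rw [hC.fb hc (inv_ne_zero hμ), inv_inv]
  rw [h2]
  simp only [wp, map_add, map_sub, map_smul, hb, hc, hC.fb hb hμ, h2]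
  match_scalars <;> field_simp

/-- Being fixed by both Siegel groups of a pair is being scalar. -/
lemma scal_of_fix (h : G.HB b c) (hk : 3 ≤ k) {m : Fin (t + 1)} {X : Module.End F (J k (t + 1) → F)}
    (h1 : X ∈ G.Fx m b c) (h2 : X ∈ G.Fx m c b) : G.Scal m X := by
  refine ⟨G.cC m X c b, fun a z => ?_⟩
  have hcc : G.cC m X c c = 0 := by
    rw [fx_form h.swap hk h2 c c]; simp [h.cc]
  have hcw : ∀ w, G.InW b c w → G.cC m X c w = 0 := fun w hw => by
    rw [fx_form h.swap hk h2 c w]; simp [h.cc, hw.2, wp]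
  rw [fx_form h hk h1 a z, hcc, hcw _ (wp_mem h z), hcw _ (wp_mem h a)]
  simp

/-! ### the radical -/

variable (G) in
/-- The elements of `M` in the radical of the line. -/
def InRad (i : Fin (t + 1)) (b : Fin k → F) (g : GL (J k (t + 1)) F) : Prop :=
  (∀ y, app g (T i y b) = T i y b) ∧ ∀ x, ct i (G.f b) x = 0 → app g x - x ∈ Li i b

lemma InRad.fix {g : GL (J k (t + 1)) F} (hg : G.InRad i b g) {x : J k (t + 1) → F}
    (hx : x ∈ Li i b) : app g x = x := by
  obtain ⟨y, rfl⟩ := hx; exact hg.1 y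

lemma InRad.ct_eq (hO : G.Ovg M) {g : GL (J k (t + 1)) F} (hgM : g ∈ M) (hg : G.InRad i b g)
    (x : J k (t + 1) → F) : ct i (G.f b) (app g x) = ct i (G.f b) x :=
  G.B_ext' fun y => by
    rw [← B_ct, ← B_ct]
    conv_lhs => rw [← hg.1 y]
    exact hO.le hgM _ _

variable (M) in
/-- The radical in `M`, a subgroup. -/
def rad (hO : G.Ovg M) (i : Fin (t + 1)) (b : Fin k → F) : Subgroup (GL (J k (t + 1)) F) where
  carrier := {g | g ∈ M ∧ G.InRad i b g}
  one_mem' := ⟨one_mem M, fun y => by simp, fun x _ => by simp⟩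
  mul_mem' := fun {g h} hg hh => ⟨mul_mem hg.1 hh.1,
    fun y => by rw [map_mul, LinearEquiv.mul_apply, hh.2.1, hg.2.1], fun x hx => by
      have h1 := hh.2.2 x hx
      have e : app (g * h) x - x = (app h x - x) + (app g x - x) := by
        rw [map_mul, LinearEquiv.mul_apply]
        have := hg.2.fix h1
        rw [map_sub] at this
        linear_combination (norm := module) this
      rw [e]; exact add_mem h1 (hg.2.2 x hx)⟩
  inv_mem' := fun {g} hg => ⟨inv_mem hg.1, fun y => (app g).injective (by rw [app_app_inv, hg.2.1]),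
    fun x hx => by
      have h1 := hg.2.2 (app g⁻¹ x) (by rw [← hg.2.ct_eq hO hg.1, app_app_inv, hx])
      rw [app_app_inv] at h1
      rw [← neg_sub]; exact neg_mem h1⟩

variable {hO : G.Ovg M}

lemma rad_perp {g : GL (J k (t + 1)) F} (hg : g ∈ rad M hO i b) (x : J k (t + 1) → F) :
    ct i (G.f b) (nl g x) = 0 := by
  rw [nl_apply, map_sub, hg.2.ct_eq hO hg.1, sub_self]

lemma rad_prod (h : G.HB b c) {g g' : GL (J k (t + 1)) F} (hg : g ∈ rad M hO i b)
    (hg' : g' ∈ rad M hO i b) : nl g * nl g' ∈ G.TB i b c :=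
  TB.of h (fun x => hg.2.2 _ (rad_perp hg' x)) fun x hx => by
    rw [Module.End.mul_apply, nl_apply g, hg.2.fix (show nl g' x ∈ Li i b from hg'.2.2 x hx), sub_self]

lemma inM_nl {g : GL (J k (t + 1)) F} (hg : g ∈ M) : InM M (nl g) :=
  ⟨g, hg, fun x => by rw [nl_apply]; abel⟩

section

variable (hR : ¬ G.Rt M) (hres : ∀ m, res m M ≤ Wr F k t) (hk : 3 ≤ k)
  (hex : ¬ (Fintype.card F = 3 ∧ k = 3)) (h : G.HB b c)

include hR hres hk hex h

lemma rad_one {g : GL (J k (t + 1)) F} (hg : g ∈ M) (hT : nl g ∈ G.TB i b c) (hO : G.Ovg M) :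
    g = 1 := gl_ext fun x => by
  have := LinearMap.congr_fun (eq_zero_of_level2 hO hR hres hk hex h i hT (inM_nl hg)) x
  rw [nl_apply, LinearMap.zero_apply, sub_eq_zero] at this
  simpa using this

lemma rad_comm {g g' : GL (J k (t + 1)) F} (hg : g ∈ rad M hO i b) (hg' : g' ∈ rad M hO i b) :
    g * g' = g' * g := by
  have hG := mul_mem (mul_mem hg hg') (mul_mem (inv_mem hg) (inv_mem hg'))
  have e : nl (g * g' * (g⁻¹ * g'⁻¹)) =
      (nl g * nl g' - nl g' * nl g) * (app (g⁻¹ * g'⁻¹)).toLinearMap := by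
    refine LinearMap.ext fun x => ?_
    simp [nl_apply, map_sub, app_app_inv]
    abel
  have h1 := rad_one (i := i) hR hres hk hex h hG.1 ?_ hO
  · rwa [← _root_.mul_inv_rev, mul_inv_eq_one] at h1
  rw [e]
  refine TB.of h (fun x => TB.mem_Li (sub_mem (rad_prod h hg hg') (rad_prod h hg' hg)) _) fun x hx => ?_
  rw [Module.End.mul_apply]
  refine TB.kill (sub_mem (rad_prod h hg hg') (rad_prod h hg' hg)) ?_
  have hG' := mul_mem (inv_mem hg) (inv_mem hg')
  rw [LinearEquiv.coe_coe, hG'.2.ct_eq hO hG'.1, hx]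

lemma rad_fx {g : GL (J k (t + 1)) F} (hg : g ∈ rad M hO i b) : nl g ∈ G.Fx i b c :=
  mem_Fx.2 fun v hv => by
    have hy : kr i (1 : GL (J k t) F) (G.sg b v) ∈ rad M hO i b := by
      refine ⟨hO.sq_gen i (sg_mem_sq1 b v h.bb hv.1), fun y => ?_, fun x hx => ?_⟩
      · rw [app_kr, map_one, LinearEquiv.coe_one, id_eq, sg_fix h.bb hv.1]
      · rw [← sl_pi i b c hx]
        refine mem_of_T i (Li i b) (((app (kr i 1 (G.sg b v))).toLinearMap - LinearMap.id).comp
          (sl i (LinearMap.id - (G.f b).smulRight c))) (fun y z => ?_) x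
        rw [LinearMap.comp_apply, sl_T, LinearMap.sub_apply, LinearEquiv.coe_coe, app_kr, map_one,
          LinearEquiv.coe_one, id_eq, LinearMap.id_apply, ← map_sub, sg_apply h.bb hv.1]
        simp [h.bc]
        refine Submodule.smul_mem _ _ (T_mem_Li _ _ _)
    have := rad_comm hR hres hk hex h hy hg
    rw [← nl_conj, this, mul_inv_cancel_right]

lemma rad_dp {g : GL (J k (t + 1)) F} (hg : g ∈ rad M hO i b) :
    G.dp i b c (nl g) ∈ G.TD i b c ∧ nl g - G.dp i b c (nl g) ∈ G.TB i b c ∧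
      ∀ w, G.InW b c w → G.cC i (G.dp i b c (nl g)) c w = G.cC i (nl g) c w := by
  have hn1 : (-1 : F) ≠ 0 := neg_ne_zero.2 one_ne_zero
  have hP : G.cC i (nl g) c b = 0 := LinearMap.ext fun y => by
    rw [cC_apply, nl_apply, hg.2.1, sub_self, map_zero, LinearMap.zero_apply]
  have hK := fx_form h hk (rad_fx hR hres hk hex h hg)
  have h2 := G.two
  have hD : ∀ a z, G.cC i (G.dp i b c (nl g)) a z =
      G.f b a • G.cC i (nl g) c (G.wp b c z) - G.f b z • G.cC i (nl g) c (G.wp b c a) := fun a z => by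
    rw [dp_apply, cC_smul, cC_sub, cC_cj_slot i (G.isI_tor _ _ _), hK a z,
      hK (app _ a) (app _ z), hP, (tor_inv_data h hn1 a).1, (tor_inv_data h hn1 z).1,
      (tor_inv_data h hn1 a).2, (tor_inv_data h hn1 z).2]
    match_scalars <;> field_simp <;> ring
  have hw : ∀ z, G.wp b c (G.wp b c z) = G.wp b c z := fun z => by
    simp [wp, h.bb, h.cc, h.bc, h.cb]
  have hcw : ∀ z, G.cC i (G.dp i b c (nl g)) c (G.wp b c z) = G.cC i (nl g) c (G.wp b c z) := fun z => by
    rw [hD, hw, (wp_mem h z).1, h.bc, one_smul, zero_smul, sub_zero]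
  refine ⟨fun a z => by rw [hD, hcw, hcw], fun a z => ?_, fun w hw' => ?_⟩
  · rw [cC_sub, cC_sub, hD, hD, hK a z, hP]
    have e1 : G.wp b c c = 0 := by simp [wp, h.cc, h.bc]
    simp [e1]
  · have : G.wp b c w = w := by simp [wp, hw'.1, hw'.2]
    rw [← this]; exact hcw w

lemma rad_dp_skew {g : GL (J k (t + 1)) F} (hg : g ∈ rad M hO i b) :
    G.Skw (t + 1) (G.dp i b c (nl g)) := by
  obtain ⟨hD, -, hc⟩ := rad_dp hR hres hk hex h hg
  set D := G.dp i b c (nl g)
  have hK := fx_form h hk (rad_fx hR hres hk hex h hg)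
  have hsym : ∀ w, G.InW b c w → ∀ y y', G.B t (G.cC i (nl g) c w y) y' = G.B t y (G.cC i (nl g) c w y') := by
    intro w hw y y'
    have hg' := hO.le hg.1 (T i y c) (T i y' w)
    have e : ∀ x, app g x = x + (nl g) x := fun x => by simp [nl_apply]
    rw [e, e] at hg'
    have h0 : G.B (t + 1) ((nl g) (T i y c)) ((nl g) (T i y' w)) = 0 := by
      obtain ⟨a, ha⟩ := hg.2.2 (T i y' w) (by simp [hw.1])
      rw [show (nl g) (T i y' w) = T i a b from ha.symm, G.B_comm, B_ct, rad_perp hg, map_zero]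
    have h1 : G.B (t + 1) ((nl g) (T i y c)) (T i y' w) = -G.B t (G.cC i (nl g) c w y) y' := by
      rw [G.B_comm, B_ct, ← cC_apply, hK w c, G.B_comm]
      simp [hw.1, hw.left', hw.right', wp, h.bc, h.cc, hw.2]
    have h2 : G.B (t + 1) (T i y c) ((nl g) (T i y' w)) = G.B t y (G.cC i (nl g) c w y') := by
      rw [B_ct, ← cC_apply]
    simp only [map_add, LinearMap.add_apply, h0, h1, h2] at hg'
    linear_combination -hg'
  intro x x'
  refine LinearMap.congr_fun (LinearMap.congr_fun (lin_ext i (f := (G.B (t + 1)).comp D)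
    (g := -(G.B (t + 1)).compl₂ D) fun y z => lin_ext i fun y' a => ?_) x) x'
  simp only [LinearMap.comp_apply, LinearMap.neg_apply, LinearMap.compl₂_apply]
  rw [G.B_comm, B_ct, B_ct, ← cC_apply, ← cC_apply, hD a z, hD z a, G.B_comm]
  simp only [LinearMap.sub_apply, LinearMap.smul_apply, hc _ (wp_mem h _), map_sub, map_smul,
    smul_eq_mul, hsym _ (wp_mem h z), hsym _ (wp_mem h a)]
  ring

omit hR hres hex in
lemma dp_TB {X : Module.End F (J k (t + 1) → F)} (hX : X ∈ G.TB i b c) : G.dp i b c X = 0 := by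
  rw [dp_apply, TB.tor h hX, sub_self, smul_zero]

lemma dp_mul {g g' : GL (J k (t + 1)) F} (hg : g ∈ rad M hO i b) (hg' : g' ∈ rad M hO i b) :
    G.dp i b c (nl (g * g')) = G.dp i b c (nl g) + G.dp i b c (nl g') := by
  rw [nl_mul, map_add, map_add, dp_TB hk h (rad_prod h hg hg'), add_zero]

lemma dp_comm {g g' : GL (J k (t + 1)) F} (hg : g ∈ rad M hO i b) (hg' : g' ∈ rad M hO i b) :
    G.dp i b c (nl g) * G.dp i b c (nl g') = G.dp i b c (nl g') * G.dp i b c (nl g) := by
  have key : ∀ {p p' : GL (J k (t + 1)) F}, p ∈ rad M hO i b → p' ∈ rad M hO i b →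
      nl p * nl p' = G.dp i b c (nl p) * G.dp i b c (nl p') := by
    intro p p' hp hp'
    obtain ⟨hD, hB, -⟩ := rad_dp hR hres hk hex h hp
    obtain ⟨hD', hB', -⟩ := rad_dp hR hres hk hex h hp'
    refine LinearMap.ext fun x => ?_
    obtain ⟨B, rfl⟩ : ∃ B, nl p - G.dp i b c (nl p) = B := ⟨_, rfl⟩
    set D := G.dp i b c (nl p)
    set D' := G.dp i b c (nl p')
    have e1 : D ((nl p' - D') x) = 0 := by
      obtain ⟨y, hy⟩ := TB.mem_Li hB' x
      rw [← hy]; exact TD.kill h hD y
    have e2 : (nl p - D) (D' x) = 0 := TB.kill hB (TD.perp h hD' x)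
    have e3 : (nl p - D) ((nl p' - D') x) = 0 := TB.kill hB (TB.le_perp h hB' x)
    rw [LinearMap.sub_apply] at e1 e2
    rw [LinearMap.sub_apply, LinearMap.sub_apply, map_sub, map_sub] at e3
    rw [map_sub] at e1
    rw [Module.End.mul_apply, Module.End.mul_apply]
    linear_combination (norm := module) e1 + e2 + e3
  rw [← key hg hg', ← key hg' hg]
  have := congrArg nl (rad_comm hR hres hk hex h hg hg')
  rw [nl_mul, nl_mul, add_comm (nl g) (nl g')] at this
  exact add_left_cancel this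

/-- Elements scalar in another position. -/
lemma rad_scal {m : Fin (t + 1)} (hm : m ≠ i) {g : GL (J k (t + 1)) F} (hg : g ∈ rad M hO i b)
    (hS : G.Scal m (G.dp i b c (nl g))) : ∃ v, G.InW b c v ∧ g = kr i 1 (G.sg b v) := by
  obtain ⟨P, hP⟩ := hS
  have hfix : ∀ C ∈ G.Sq1, cj (kr m 1 C) (nl g) = nl g := by
    intro C hC
    have hH := dev_slot hO m hC
    set H := kr m (1 : GL (J k t) F) C
    have hg' : H * g * H⁻¹ ∈ rad M hO i b := by
      refine ⟨mul_mem (mul_mem hH.mem hg.1) (inv_mem hH.mem), fun y => ?_, fun x hx => ?_⟩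
      · obtain ⟨A, hA⟩ := cj_other (F := F) hm C
        simp only [map_mul, LinearEquiv.mul_apply, H, hA, kr_inv, inv_one, app_kr, map_one,
          LinearEquiv.coe_one, id_eq]
        rw [hg.2.1, app_kr, map_one, LinearEquiv.coe_one, id_eq, app_app_inv]
      · have hfb : ∀ {A : GL (Fin k) F}, G.IsI A → app A b = b → ∀ z, G.f b (app A z) = 1 * G.f b z :=
          fun hA e z => by
            rw [hA.fb (μ := 1) (by rw [e, one_smul]) one_ne_zero, inv_one]
        have hinv := hH.inv
        have c1 : ct i (G.f b) (app H⁻¹ x) = 0 := by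
          rw [hinv.apply, ct_pt _ i (hfb (hinv.isI i) (by simp [Ne.symm hm])), hx]; simp
        have := pt_Li (fun l => (app (if l = m then C else 1)).toLinearMap) i (hg.2.2 _ c1)
        rw [← hH.apply, map_sub, app_app_inv] at this
        simp only [LinearEquiv.coe_coe, Ne.symm hm, if_false, map_one, LinearEquiv.coe_one, id_eq] at this
        simpa [map_mul] using this
    have h1 : G.dp i b c (nl (H * g * H⁻¹)) = G.dp i b c (nl g) := by
      have hcomm : kr i (1 : GL (J k t) F) (G.tor b c (-1)) * H = H * kr i 1 (G.tor b c (-1)) := by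
        obtain ⟨A, hA⟩ := cj_other (F := F) hm C
        simp [H, hA, kr_mul]
      rw [nl_conj, ← sub_eq_zero]
      have : G.dp i b c (cj H (nl g)) = cj H (G.dp i b c (nl g)) := by
        rw [dp_apply, dp_apply, map_smul, map_sub, ← Module.End.mul_apply (cj _), ← cj_mul, hcomm, cj_mul,
          Module.End.mul_apply]
      rw [this, sub_eq_zero]
      exact G.cC_ext (i := m) fun a z => by
        rw [cC_cj_slot m (sq1_isI hC), hP, hP, (sq1_isI hC).inv a z]
    have hgi := inv_mem hg
    have h3 : G.dp i b c (nl (H * g * H⁻¹ * g⁻¹)) = 0 := by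
      rw [dp_mul hR hres hk hex h hg' hgi, h1, ← dp_mul hR hres hk hex h hg hgi, mul_inv_cancel,
        show nl (1 : GL (J k (t + 1)) F) = 0 from LinearMap.ext fun x => by simp [nl_apply], map_zero]
    have hmem := mul_mem hg' hgi
    have h4 := (rad_dp hR hres hk hex h hmem).2.1
    rw [h3, sub_zero] at h4
    have := rad_one hR hres hk hex h hmem.1 h4 hO
    rw [mul_inv_eq_one] at this
    rw [← nl_conj, this]
  have hScal : G.Scal m (nl g) := scal_of_fix h hk
    (mem_Fx.2 fun v hv => hfix _ (sg_mem_sq1 b v h.bb hv.1))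
    (mem_Fx.2 fun v hv => hfix _ (sg_mem_sq1 c v h.cc hv.1))
  obtain ⟨Q, hQ⟩ := scal_op hScal
  obtain ⟨i', rfl⟩ : ∃ i', m.succAbove i' = i := Fin.exists_succAbove_eq (Ne.symm hm)
  cases t with
  | zero => exact i'.elim0
  | succ s =>
    have : Nonempty (Fin k) := ⟨⟨0, by omega⟩⟩
    obtain ⟨u, hu⟩ := exists_ne (0 : Fin k → F)
    have hgT : ∀ y z, app g (T m y z) = T m (y + Q y) z := fun y z => by
      have := LinearMap.congr_fun hQ (T m y z)
      rw [nl_apply, op_T, LinearMap.id_apply, sub_eq_iff_eq_add] at this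
      rw [this, map_add, LinearMap.add_apply]; abel
    obtain ⟨σ, hσ⟩ := C7.exists_gl (F := F) (LinearMap.id + Q) (fun y y' e => by
      have : app g (T m y u) = app g (T m y' u) := by
        rw [hgT, hgT]; exact congrArg (fun z => T m z u) e
      exact T_inj_left hu ((app g).injective this))
    have hgσ : kr m σ (1 : GL (Fin k) F) = g := gl_ext_T m fun y z => by
      rw [app_kr, hgT, hσ, map_one, LinearEquiv.coe_one, id_eq, LinearMap.add_apply, LinearMap.id_apply]
    have hσM : σ ∈ res m M := by rw [mem_res_iff, hgσ]; exact hg.1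
    obtain ⟨hn1, hn2⟩ := scal_nest h (by omega) (i' := i') hQ
    obtain ⟨v, hv, e⟩ := wr_rad h (by omega) (hres m hσM) (iso_of_kr (by omega) (hO.le hσM))
      (fun y => by
        rw [hσ, LinearMap.add_apply, LinearMap.id_apply,
          hn2 (fun y' => by rw [nl_apply, hg.2.1, sub_self]) y, add_zero])
      fun x hx => by
        rw [hσ, LinearMap.add_apply, LinearMap.id_apply, add_sub_cancel_left]
        exact hn1 (fun x' hx' => hg.2.2 x' hx') x hx
    exact ⟨v, hv, by rw [← hgσ, e, kr_nest]⟩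

end

/-- An element fixed modulo scalars is fixed. -/
lemma fx_of_mod (h : G.HB b c) (hk : 3 ≤ k) (hex : ¬ (Fintype.card F = 3 ∧ k = 3)) {m : Fin (t + 1)}
    {X : Module.End F (J k (t + 1) → F)}
    (hX : ∀ v, G.InW b c v → G.Scal m (cj (kr m 1 (G.sg b v)) X - X)) : X ∈ G.Fx m b c := by
  set K := G.cC m X
  have key : ∀ v, G.InW b c v → ∃ P, ∀ a z,
      K (app (G.sg b v)⁻¹ a) (app (G.sg b v)⁻¹ z) - K a z = G.f a z • P := fun v hv => by
    obtain ⟨P, hP⟩ := hX v hv
    exact ⟨P, fun a z => by rw [← hP, cC_sub, cC_cj_slot m (G.isI_sg b v)]⟩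
  have sb : ∀ v, G.InW b c v → app (G.sg b v)⁻¹ b = b := fun v hv => by
    rw [sg_inv, sg_fix h.bb hv.neg.1]
  have sc : ∀ v, G.InW b c v → app (G.sg b v)⁻¹ c = c + v - (G.f v v / 2) • b := fun v hv => by
    rw [sg_inv, sg_apply h.bb hv.neg.1]; simp [h.bc, hv.right']
  have sw : ∀ v w, G.InW b c v → G.InW b c w → app (G.sg b v)⁻¹ w = w - G.f v w • b := fun v w hv hw => by
    rw [sg_inv, sg_apply h.bb hv.neg.1]; simp [hw.1]; module
  obtain ⟨e, he, heg, heo, hsum⟩ := exists_basis h (by omega)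
  set e0 := e ⟨0, by omega⟩
  have hbb : K b b = 0 := by
    obtain ⟨P, hP⟩ := key e0 (he _)
    have := hP b e0
    rw [sb _ (he _), sw _ _ (he _) (he _), map_sub, map_smul, (he _).1, zero_smul, sub_sub_cancel_left,
      neg_eq_zero, smul_eq_zero] at this
    exact this.resolve_left (heg _)
  -- the scalar is `K b v`
  have hP : ∀ v, G.InW b c v → ∀ a z,
      K (app (G.sg b v)⁻¹ a) (app (G.sg b v)⁻¹ z) - K a z = G.f a z • K b v := fun v hv a z => by
    obtain ⟨P, hP⟩ := key v hv
    have := hP b c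
    rw [sb v hv, sc v hv, h.bc, one_smul, map_sub, map_add, map_smul, hbb, smul_zero, sub_zero,
      add_sub_cancel_left] at this
    rw [this]; exact hP a z
  have hvb : ∀ v, G.InW b c v → K v b = K b v := fun v hv => by
    have := hP v hv c b
    rw [sb v hv, sc v hv, h.cb, one_smul, map_sub, map_add, map_smul] at this
    simp only [LinearMap.sub_apply, LinearMap.add_apply, LinearMap.smul_apply, hbb, smul_zero,
      sub_zero, add_sub_cancel_left] at this
    exact this
  have hz : ∀ v, G.InW b c v → K b v = 0 := by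
    intro v hv
    by_cases hk4 : 4 ≤ k
    · have hh : ∀ x, K b (e x) = 0 := fun x => by
        obtain ⟨y, hy⟩ : ∃ y : Fin (k - 2), y ≠ x := by
          haveI : Nontrivial (Fin (k - 2)) := Fin.nontrivial_iff_two_le.2 (by omega)
          exact exists_ne x
        have := hP (e x) (he x) (e y) (e y)
        rw [sw _ _ (he x) (he y), heo x y (Ne.symm hy), zero_smul, sub_zero, sub_self, eq_comm,
          smul_eq_zero] at this
        exact this.resolve_left (heg y)
      have hv' : v = G.wp b c v := by simp [wp, hv.1, hv.2]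
      rw [hv', hsum, map_sum]
      exact Finset.sum_eq_zero fun x _ => by rw [map_smul, hh, smul_zero]
    · have hk3 : k = 3 := by omega
      obtain ⟨s, hs0, hs⟩ : ∃ s : F, s ≠ 0 ∧ s * s ≠ 1 := by
        by_contra! hall
        classical
        refine hex ⟨?_, hk3⟩
        have hsub : (Finset.univ : Finset F) ⊆ {0, 1, -1} := fun r _ => by
          rcases eq_or_ne r 0 with hr | hr
          · simp [hr]
          · rcases mul_self_eq_one_iff.1 (hall r hr) with hr | hr <;> simp [hr]
        have h1 := (Finset.card_le_card hsub).trans Finset.card_le_three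
        rw [Finset.card_univ] at h1
        have h2 := Fintype.one_lt_card (α := F)
        have h3 : Fintype.card F ≠ 2 := fun e => G.two (by
          have := Nat.cast_card_eq_zero F
          rw [e] at this
          exact_mod_cast this)
        omega
      have hge : G.f e0 e0 ≠ 0 := heg _
      have odd : ∀ r : F, (2 * r) • (K c e0 + K e0 c) = (2 * r ^ 3 * G.f e0 e0) • K b e0 := fun r => by
        have h1 := hP _ ((he ⟨0, by omega⟩).smul r) c c
        have h2 := hP _ ((he ⟨0, by omega⟩).smul (-r)) c c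
        simp only [sc _ ((he _).smul _), h.cc, zero_smul, map_sub, map_add, map_smul, LinearMap.sub_apply,
          LinearMap.add_apply, LinearMap.smul_apply, hbb, hvb _ (he _), smul_eq_mul] at h1 h2
        change (_ : Module.End F _) = _ at h1 h2
        linear_combination (norm := skip) h1 - h2
        match_scalars <;> field_simp <;> ring
      have h1 := odd 1
      have h2 := odd s
      have h3 : ((2 * s * (1 - s * s)) * G.f e0 e0) • K b e0 = 0 := by
        linear_combination (norm := skip) h2 - s • h1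
        match_scalars <;> ring
      have h4 : K b e0 = 0 := (smul_eq_zero.1 h3).resolve_left
        (mul_ne_zero (mul_ne_zero (mul_ne_zero G.two hs0) (sub_ne_zero.2 (Ne.symm hs))) hge)
      have hv' : v = G.wp b c v := by simp [wp, hv.1, hv.2]
      rw [hv', hsum, map_sum]
      exact Finset.sum_eq_zero fun x _ => by
        rw [show x = (⟨0, by omega⟩ : Fin (k - 2)) from Fin.ext (by omega), map_smul]
        exact (smul_eq_zero.2 (.inr h4))
  exact mem_Fx.2 fun v hv => G.cC_ext (i := m) fun a z => by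
    rw [cC_cj_slot m (G.isI_sg b v), ← sub_eq_zero, hP v hv, hz v hv, smul_zero]

-- the final case analysis is long
set_option maxHeartbeats 2000000 in
/-- The radical of a line meets an overgroup in the Siegel elements of its position. -/
theorem rad_eq (hO : G.Ovg M) (ht : 1 ≤ t) (hk : 3 ≤ k) (hex : ¬ (Fintype.card F = 3 ∧ k = 3))
    (hnp : G.NoPlane) (hR : ¬ G.Rt M) (hres : ∀ m, res m M ≤ Wr F k t) (i : Fin (t + 1))
    (b c : Fin k → F) (h : G.HB b c) (g₀ : GL (J k (t + 1)) F) (hgM : g₀ ∈ M)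
    (hfix : ∀ y, app g₀ (T i y b) = T i y b)
    (hper : ∀ x, ct i (G.f b) x = 0 → app g₀ x - x ∈ Li i b) :
    ∃ v, G.InW b c v ∧ g₀ = kr i 1 (G.sg b v) := by
  classical
  by_contra hno
  have hg₀ : g₀ ∈ rad M hO i b := ⟨hgM, hfix, hper⟩
  have hn1 : (-1 : F) ≠ 0 := neg_ne_zero.2 one_ne_zero
  haveI : Nontrivial (Fin (t + 1)) := Fin.nontrivial_iff_two_le.2 (by omega)
  -- the space of odd parts
  let V : AddSubgroup (Module.End F (J k (t + 1) → F)) :=
    { carrier := {D | ∃ g ∈ rad M hO i b, D = G.dp i b c (nl g)}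
      zero_mem' := ⟨1, one_mem _, by
        rw [show nl (1 : GL (J k (t + 1)) F) = 0 from LinearMap.ext fun x => by simp [nl_apply], map_zero]⟩
      add_mem' := by
        rintro _ _ ⟨g, hg, rfl⟩ ⟨g', hg', rfl⟩
        exact ⟨g * g', mul_mem hg hg', (dp_mul hR hres hk hex h hg hg').symm⟩
      neg_mem' := by
        rintro _ ⟨g, hg, rfl⟩
        refine ⟨g⁻¹, inv_mem hg, neg_eq_of_add_eq_zero_right ?_⟩
        rw [← dp_mul hR hres hk hex h hg (inv_mem hg), mul_inv_cancel,
          show nl (1 : GL (J k (t + 1)) F) = 0 from LinearMap.ext fun x => by simp [nl_apply], map_zero] }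
  -- devices normalising the radical
  have dev : ∀ {H : GL (J k (t + 1)) F} {C : Fin (t + 1) → GL (Fin k) F} {μ : F}, μ ≠ 0 →
      G.Dev M H C → app (C i) b = μ • b → app (C i) c = μ⁻¹ • c → ∀ D ∈ V, cj H D ∈ V := by
    intro H C μ hμ hH hb hc D hD
    obtain ⟨g, hg, rfl⟩ := hD
    have hb' : app (C i)⁻¹ b = μ⁻¹ • b := (app (C i)).injective (by
      rw [app_app_inv, map_smul, hb, smul_smul, inv_mul_cancel₀ hμ, one_smul])
    refine ⟨H * g * H⁻¹, ⟨mul_mem (mul_mem hH.mem hg.1) (inv_mem hH.mem), fun y => ?_, fun x hx => ?_⟩, ?_⟩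
    · have := pt_Li (fun l => (app (C l)⁻¹).toLinearMap) i (T_mem_Li i y b)
      rw [← hH.inv.apply, LinearEquiv.coe_coe, hb'] at this
      rw [map_mul, map_mul, LinearEquiv.mul_apply, LinearEquiv.mul_apply, hg.2.fix (mem_Li_smul this),
        app_app_inv]
    · have c1 : ct i (G.f b) (app H⁻¹ x) = 0 := by
        rw [hH.inv.apply, ct_pt _ i (fun z => (hH.inv.isI i).fb hb' (inv_ne_zero hμ) z), hx]; simp
      have := pt_Li (fun l => (app (C l)).toLinearMap) i (hg.2.2 _ c1)
      rw [← hH.apply, map_sub, app_app_inv, LinearEquiv.coe_coe, hb] at this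
      rw [map_mul, map_mul, LinearEquiv.mul_apply, LinearEquiv.mul_apply]
      exact mem_Li_smul this
    · have hcomm : kr i (1 : GL (J k t) F) (G.tor b c (-1)) * H = H * kr i 1 (G.tor b c (-1)) :=
        gl_ext_pr fun p => by
          simp only [map_mul, LinearEquiv.mul_apply, app_kr_one_pr, hH.apply, pt_pr, LinearEquiv.coe_coe]
          congr 1
          funext l
          by_cases hl : l = i
          · subst hl; simp [tor_comm h (hH.isI l) hμ hb hc]
          · simp [hl]
      rw [nl_conj, dp_apply, dp_apply, map_smul, map_sub, ← Module.End.mul_apply (cj _), ← cj_mul, ← hcomm,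
        cj_mul, Module.End.mul_apply]
  have hTD : ∀ D ∈ V, D ∈ G.TD i b c := by
    rintro _ ⟨g, hg, rfl⟩; exact (rad_dp hR hres hk hex h hg).1
  have hcl : ∀ m, m ≠ i → G.Cl m b c V := by
    intro m hm
    have hone : ∀ {A : GL (Fin k) F}, A ∈ G.Sq1 → ∀ D ∈ V, cj (kr m 1 A) D ∈ V := fun hA D hD =>
      dev one_ne_zero (dev_slot hO m hA) (by simp [Ne.symm hm]) (by simp [Ne.symm hm]) D hD
    refine ⟨fun v hv D hD => ⟨hone (sg_mem_sq1 b v h.bb hv.1) D hD,
      hone (sg_mem_sq1 c v h.cc hv.2) D hD⟩, fun D hD => ?_⟩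
    have h1 := dev (μ := -1) hn1 (dev_pair hO hm (G.isI_tor b c (-1)))
      (by simp only [or_true, if_true]; rw [tor_apply h hn1]; simp [wp, h.bb, h.cb])
      (by simp only [or_true, if_true]; rw [tor_apply h hn1]; simp [wp, h.cc, h.bc]) D hD
    rw [cj_mul, Module.End.mul_apply, TD.tor h (hTD D hD), map_neg] at h1
    simpa using neg_mem h1
  have hscal : ∀ D ∈ V, ∀ m, m ≠ i → G.Scal m D → ∀ l, l ≠ i → G.Scal l D := by
    rintro _ ⟨g, hg, rfl⟩ m hm hS l hl
    obtain ⟨v, hv, rfl⟩ := rad_scal hR hres hk hex h hm hg hS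
    obtain ⟨A, hA⟩ := cj_other (F := F) (Ne.symm hl) (G.sg b v)
    obtain ⟨A', hA'⟩ := cj_other (F := F) (Ne.symm hl) (G.tor b c (-1))
    have e : nl (kr i (1 : GL (J k t) F) (G.sg b v)) = op l (nl A) LinearMap.id :=
      lin_ext l fun y u => by
        rw [hA, nl_apply, app_kr, op_T, nl_apply, map_one, LinearEquiv.coe_one, id_eq, LinearMap.id_apply,
          map_sub, LinearMap.sub_apply]
    refine ⟨(2 : F)⁻¹ • (nl A - cj A' (nl A)), fun a z => ?_⟩
    rw [dp_apply, cC_smul, cC_sub, e, hA', cC_cj_rest, cC_op, LinearMap.id_apply, map_smul]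
    module
  have hnS : ∀ m, m ≠ i → ¬ G.Scal m (G.dp i b c (nl g₀)) := fun m hm hS =>
    hno (rad_scal hR hres hk hex h hm hg₀ hS)
  obtain ⟨m, hm⟩ := exists_ne i
  -- a fixed element modulo the scalars
  let Z : Submodule F (Module.End F (J k (t + 1) → F)) :=
    { carrier := {X | G.Scal m X}
      zero_mem' := ⟨0, fun a z => by simp [cC_zero]⟩
      add_mem' := by
        rintro X Y ⟨P, hP⟩ ⟨Q, hQ⟩
        exact ⟨P + Q, fun a z => by rw [cC_add, hP, hQ, smul_add]⟩
      smul_mem' := by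
        rintro r X ⟨P, hP⟩
        exact ⟨r • P, fun a z => by rw [cC_smul, hP, smul_comm]⟩ }
  have hstZ : ∀ v : Fin k → F, Z ≤ Z.comap (cj (kr m (1 : GL (J k t) F) (G.sg b v))) := by
    rintro v X ⟨P, hP⟩
    exact ⟨P, fun a z => by rw [cC_cj_slot m (G.isI_sg b v), hP, (G.isI_sg b v).inv a z]⟩
  let ρ : {v // G.InW b c v} → Module.End F (Module.End F (J k (t + 1) → F) ⧸ Z) := fun v =>
    Z.mapQ Z (cj (kr m 1 (G.sg b v.1))) (hstZ v.1)
  have hρ : ∀ v D, ρ v (Submodule.Quotient.mk D) = Submodule.Quotient.mk (cj (kr m 1 (G.sg b v.1)) D) :=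
    fun v D => rfl
  have hρn : ∀ (v : {v // G.InW b c v}) (n : ℕ) D, (ρ v ^ n) (Submodule.Quotient.mk D) =
      Submodule.Quotient.mk (cj (kr m 1 (G.sg b v.1 ^ n)) D) := by
    intro v n
    induction n with
    | zero => intro D; rw [pow_zero, pow_zero, kr_one, cj_one]; rfl
    | succ n ih => intro D; rw [pow_succ, Module.End.mul_apply, hρ, ih, pow_succ, cj_kr_mul]
  let U : AddSubgroup (Module.End F (J k (t + 1) → F) ⧸ Z) := V.map Z.mkQ.toAddMonoidHom
  letI : Fintype {v // G.InW b c v} := Fintype.ofFinite _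
  obtain ⟨_, ⟨D₁, hD₁, rfl⟩, hD₁0, hfix1⟩ := exists_fix ρ
    (fun x y => by
      show _ * _ = _ * _
      refine LinearMap.ext fun q => ?_
      obtain ⟨D, rfl⟩ := Submodule.Quotient.mk_surjective Z q
      simp only [Module.End.mul_apply, hρ, ← cj_kr_mul, sg_add h.bb x.2.1 y.2.1, sg_add h.bb y.2.1 x.2.1,
        add_comm x.1 y.1])
    (fun x => by
      haveI : CharP F (ringChar F) := ringChar.charP F
      refine LinearMap.ext fun q => ?_
      obtain ⟨D, rfl⟩ := Submodule.Quotient.mk_surjective Z q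
      rw [hρn, sg_pow h x.2, CharP.cast_eq_zero, zero_smul, sg_zero, kr_one, cj_one]
      rfl)
    U (fun e0 => hnS m hm (by
      have : Z.mkQ (G.dp i b c (nl g₀)) ∈ U := ⟨_, ⟨g₀, hg₀, rfl⟩, rfl⟩
      rw [e0, AddSubgroup.mem_bot] at this
      exact (Submodule.Quotient.mk_eq_zero Z).1 this))
    (by
      rintro x _ ⟨D, hD, rfl⟩
      exact ⟨_, ((hcl m hm).1 x.1 x.2 D hD).1, rfl⟩) Finset.univ
  have hD₁S : ¬ G.Scal m D₁ := fun hS => hD₁0 ((Submodule.Quotient.mk_eq_zero Z).2 hS)
  have hfx : D₁ ∈ G.Fx m b c := fx_of_mod h hk hex fun v hv =>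
    (Submodule.Quotient.eq Z).1 (hfix1 ⟨v, hv⟩ (Finset.mem_univ _))
  obtain ⟨D₂, hD₂, hD₂0, hty₂⟩ := (extract h hk hex (hcl m hm) hD₁ hfx).resolve_right hD₁S
  -- a typed element
  obtain ⟨D, hDV, hD0, hall⟩ : ∃ D ∈ V, D ≠ 0 ∧ ∀ l, D ∈ G.TB l b c ∨ D ∈ G.TD l b c := by
    have go : ∀ S : Submodule F (Module.End F (J k (t + 1) → F)), D₂ ∈ S →
        (∀ X ∈ S, ∀ A : GL (J k t) F, cj (kr m A 1) X ∈ S) →
        (∀ X ∈ S, X ∈ G.TB m b c ∨ X ∈ G.TD m b c) →
        ∃ X ∈ V, X ≠ 0 ∧ ∀ l, X ∈ G.TB l b c ∨ X ∈ G.TD l b c := by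
      intro S h2 hS hTy
      obtain ⟨X, ⟨hXV, hXS⟩, hX0, e⟩ := exists_typed h hk hex (V ⊓ S.toAddSubgroup)
        (fun e0 => hD₂0 (by have : D₂ ∈ V ⊓ S.toAddSubgroup := ⟨hD₂, h2⟩; rwa [e0] at this))
        ((Finset.univ.erase i).erase m) (fun l hl => by
          simp only [Finset.mem_erase] at hl
          have hc := hcl l hl.2.1
          refine ⟨fun v hv X hX => ⟨⟨(hc.1 v hv X hX.1).1, ?_⟩, ⟨(hc.1 v hv X hX.1).2, ?_⟩⟩,
            fun X hX => ⟨hc.2 X hX.1, ?_⟩⟩
          · obtain ⟨A, hA⟩ := cj_other (F := F) hl.1 (G.sg b v)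
            rw [hA]; exact hS X hX.2 A
          · obtain ⟨A, hA⟩ := cj_other (F := F) hl.1 (G.sg c v)
            rw [hA]; exact hS X hX.2 A
          · obtain ⟨A, hA⟩ := cj_other (F := F) hl.1 (G.tor b c (-1))
            rw [hA]; exact hS X hX.2 A)
        (fun l hl X hX hX0 hSc => by
          simp only [Finset.mem_erase] at hl
          exact hX0 (scal_TB_zero h (hscal X hX.1 l hl.2.1 hSc m hm) (hTy X hX.2)))
      refine ⟨X, hXV, hX0, fun l => ?_⟩
      by_cases h1 : l = i
      · exact .inr (h1 ▸ hTD X hXV)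
      by_cases h2 : l = m
      · exact h2 ▸ hTy X hXS
      exact e l (by simp [h1, h2])
    rcases hty₂ with h2 | h2
    · exact go _ h2 (fun X hX A => TB.cj_rest hX A) fun X hX => .inl hX
    · exact go _ h2 (fun X hX A => TD.cj_rest hX A) fun X hX => .inr hX
  have hskw : ∀ D ∈ V, G.Skw (t + 1) D := by
    rintro _ ⟨g, hg, rfl⟩; exact rad_dp_skew hR hres hk hex h hg
  have hcom : ∀ D ∈ V, ∀ D' ∈ V, D * D' = D' * D := by
    rintro _ ⟨g, hg, rfl⟩ _ ⟨g', hg', rfl⟩; exact dp_comm hR hres hk hex h hg hg'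
  set S := Finset.univ.filter fun l => D ∈ G.TB l b c
  have hS : ∀ l ∈ S, D ∈ G.TB l b c := fun l hl => (Finset.mem_filter.1 hl).2
  have hD : ∀ l ∉ S, D ∈ G.TD l b c := fun l hl =>
    (hall l).resolve_left fun h' => hl (Finset.mem_filter.2 ⟨Finset.mem_univ l, h'⟩)
  have hiS : i ∉ S := fun hi => hD0 (by
    refine G.cC_ext (i := i) fun a z => ?_
    have h1 := hS i hi a z
    have h2 := hTD D hDV c c
    rw [show G.wp b c c = 0 by simp [wp, h.cc, h.bc]] at h2
    rw [h1, h2]
    simp [cC_zero])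
  set u := pr (F := F) fun _ : Fin (t + 1) => c with hu
  set ξ := D u with hξd
  have hξ0 : ξ ≠ 0 := fun e0 => hD0 (eq_zero_of_typed h hall e0)
  have hsupp : G.Supp b c S ξ := supp_of_typed h S hS hD
  -- the values at the devices vanish
  have zero_val : ∀ {H : GL (J k (t + 1)) F} {C : Fin (t + 1) → GL (Fin k) F} {μ : F}, μ ≠ 0 →
      G.Dev M H C → app (C i) b = μ • b → app (C i) c = μ⁻¹ • c →
      (∃ l, app (C l) c ∈ F ∙ b) → G.B _ ξ (app H ξ) = 0 := by
    intro H C μ hμ hH hb hc hl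
    obtain ⟨l, hl⟩ := hl
    have hX' := dev hμ hH hb hc D hDV
    have hz : D (app H u) = 0 := by
      obtain ⟨r, hr⟩ := Submodule.mem_span_singleton.1 hl
      have := pt_Li (fun j => (app (C j)).toLinearMap) l (x := u) (u := c)
        (by rw [hu, ← T_pr l]; exact T_mem_Li _ _ _)
      rw [← hH.apply, LinearEquiv.coe_coe, ← hr] at this
      obtain ⟨y, hy⟩ := mem_Li_smul this
      rw [← hy]
      rcases hall l with hl' | hl'
      · exact TB.le_kill h hl' y
      · exact TD.kill h hl' y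
    have h1 := LinearMap.congr_fun (hcom D hDV _ hX') u
    rw [Module.End.mul_apply, Module.End.mul_apply, ← hξd] at h1
    have h2 : G.B (t + 1) (cj H D ξ) (app H u) = 0 := by
      rw [← h1, hskw D hDV, hz, map_zero, neg_zero]
    rw [hskw _ hX', cj_apply, app_inv_app, ← hξd, neg_eq_zero] at h2
    exact h2
  obtain ⟨e, he, heg, heo, hsum⟩ := exists_basis h (by omega)
  obtain ⟨v, hv, hgv⟩ := exists_aniso h hk
  set κ := -(2 / G.f v v)
  have hκ : κ ≠ 0 := neg_ne_zero.2 (div_ne_zero G.two hgv)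
  have hwb : app (G.ww b c v) b = κ • c ∧ app (G.ww b c v) c = (-(G.f v v / 2)) • b := by
    rw [ww_apply h hv hgv, ww_apply h hv hgv]
    simp [wp, h.bb, h.cb, h.bc, h.cc, hv.left', hv.right', κ]
  let Q : Submonoid (GL (Fin k) F) :=
    { carrier := {A | app A b = b ∧ app A c = c}
      one_mem' := by simp
      mul_mem' := fun {A A'} hA hA' => by simp [hA.1, hA.2, hA'.1, hA'.2] }
  have hrf : ∀ x, G.InW b c x → G.rf x ∈ Q := fun x hx =>
    ⟨by rw [rf_apply, hx.left']; simp, by rw [rf_apply, hx.right']; simp⟩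
  by_cases hSe : S.Nonempty
  · -- a position of type `bb`
    obtain ⟨s, hs⟩ := hSe
    set 𝒜 : Set ((Fin k → F) →ₗ[F] (Fin k → F)) :=
      insert LinearMap.id (Set.range fun j => (app (G.rf (e j))).toLinearMap)
    obtain ⟨E, hES, hED, hne⟩ := exists_val_ne hsupp hξ0 h e heg hsum 𝒜 (fun j => by
      refine ⟨(2 : F)⁻¹ • LinearMap.id - (2 : F)⁻¹ • (app (G.rf (e j))).toLinearMap, sub_mem
        (Submodule.smul_mem _ _ (Submodule.subset_span (Set.mem_insert _ _)))
        (Submodule.smul_mem _ _ (Submodule.subset_span (Set.mem_insert_of_mem _ ⟨j, rfl⟩))), fun w _ => ?_⟩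
      simp only [LinearMap.sub_apply, LinearMap.smul_apply, LinearMap.id_apply, LinearEquiv.coe_coe,
        rf_apply, pu_apply]
      have := G.two
      match_scalars <;> field_simp <;> ring)
    have hch : ∀ l ∉ S, ∃ A, A ∈ Q ∧ G.IsI A ∧ (app A).toLinearMap = E l := fun l hl => by
      rcases hED l hl with h' | ⟨j, hj⟩
      · exact ⟨1, one_mem Q, isI_one, by rw [h', map_one]; rfl⟩
      · exact ⟨_, hrf _ (he j), G.isI_rf _, hj⟩
    choose! A hAQ hAI hAE using hch
    obtain ⟨H₁, hH₁⟩ := dev_sq1 hO (fun l => if l ∈ S then G.ww b c v else 1) fun l => by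
      split_ifs <;> [exact ww_mem_sq1 h hv; exact one_mem _]
    obtain ⟨H₂, C₂, hH₂, hC₂, hC₂s, hC₂o⟩ := dev_comp hO Sᶜ (s := s) (by simp [hs]) A
      (fun l hl => hAI l (Finset.mem_compl.1 hl)) Q fun l hl => hAQ l (Finset.mem_compl.1 hl)
    have hC2Q : ∀ l ∈ S, C₂ l ∈ Q := fun l hl => by
      by_cases hls : l = s
      · exact hls ▸ hC₂s
      · rw [hC₂o l (by simp [hl]) hls]; exact one_mem Q
    have hCi : C₂ i ∈ Q := by rw [hC₂ i (Finset.mem_compl.2 hiS)]; exact hAQ i hiS
    have hv0 := zero_val (μ := 1) one_ne_zero (hH₁.mul hH₂) (by simp [hiS, hCi.1])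
      (by simp [hiS, hCi.2]) ⟨s, by
        simp only [Pi.mul_apply, hs, if_true, map_mul, LinearEquiv.mul_apply, (hC2Q s hs).2, hwb.2]
        exact Submodule.smul_mem _ _ (Submodule.mem_span_singleton_self b)⟩
    refine (smul_ne_zero (pow_ne_zero S.card hκ) hne) ?_
    rw [← map_smul, ← LinearMap.smul_apply, ← pt_smul_on, ← hv0, (hH₁.mul hH₂).apply]
    congr 1
    refine (hsupp.congr (fun l hl => ?_) (fun l hl w _ => ?_) h).symm
    · simp [hl, (hC2Q l hl).1, hwb.1, hES l hl, h.cb]
    · simp [hl, hC₂ l (Finset.mem_compl.2 hl), ← hAE l hl]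
  rw [Finset.not_nonempty_iff_eq_empty] at hSe
  rw [hSe] at hsupp hD
  -- all positions of type `dd`: an odd number of them
  have hodd : Odd (t + 1) := by
    by_contra hev
    rw [Nat.not_odd_iff_even] at hev
    obtain ⟨ε, hε, hne⟩ := exists_coord_ne hsupp hξ0 h e hsum
    have hεW : ∀ l, G.InW b c (ε l) := fun l => by
      obtain ⟨j, hj⟩ := hε l (Finset.notMem_empty l); rw [← hj]; exact he j
    have flip : ∀ (l : Fin (t + 1)) (y y' : J k t → F) (w : Fin k → F), G.InW b c w →
        G.B (t + 1) (D (T l y c)) (T l y' w) = -G.B (t + 1) (D (T l y w)) (T l y' c) := fun l y y' w hw => by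
      have hl := hD l (Finset.notMem_empty l)
      rw [G.B_comm, B_ct, G.B_comm (T l y' c), B_ct, ← cC_apply, ← cC_apply, hl w c, hl c w]
      simp [wp, h.cc, h.bc, hw.1, hw.2, hw.left', hw.right']
    have fl : ∀ W : Finset (Fin (t + 1)),
        G.B (t + 1) (D (pr fun l => if l ∈ W then ε l else c)) (pr fun l => if l ∈ W then c else ε l) =
          (-1) ^ W.card * G.B (t + 1) ξ (pr ε) := by
      intro W
      induction W using Finset.induction_on with
      | empty => simp [ξ, hu]
      | @insert a W ha ih =>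
        have e1 := flip a (pr fun j => if a.succAbove j ∈ W then ε (a.succAbove j) else c)
          (pr fun j => if a.succAbove j ∈ W then c else ε (a.succAbove j)) (ε a) (hεW a)
        simp only [T_pr'] at e1
        have hi : ∀ (f g : Fin (t + 1) → Fin k → F) z, (∀ j, f (a.succAbove j) = g (a.succAbove j)) → g a = z →
            a.insertNth z (fun j => f (a.succAbove j)) = g := fun f g z h1 h2 => by
          funext l
          obtain rfl | ⟨j, rfl⟩ := a.eq_self_or_eq_succAbove l <;> simp [h1, h2]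
        rw [hi (fun l => if l ∈ W then ε l else c) (fun l => if l ∈ W then ε l else c) c (fun j => rfl)
            (by simp [ha]),
          hi (fun l => if l ∈ W then c else ε l) (fun l => if l ∈ W then c else ε l) (ε a) (fun j => rfl)
            (by simp [ha]),
          hi (fun l => if l ∈ W then ε l else c) (fun l => if l ∈ insert a W then ε l else c) (ε a)
            (fun j => by simp [a.succAbove_ne j]) (by simp),
          hi (fun l => if l ∈ W then c else ε l) (fun l => if l ∈ insert a W then c else ε l) c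
            (fun j => by simp [a.succAbove_ne j]) (by simp), ih] at e1
        rw [Finset.card_insert_of_notMem ha, pow_succ]
        linear_combination e1
    have h1 := fl Finset.univ
    simp only [Finset.mem_univ, if_true, Finset.card_univ, Fintype.card_fin, hev.neg_one_pow, one_mul] at h1
    rw [hskw D hDV, ← hu, ← hξd, G.B_comm ξ] at h1
    refine hne ?_
    rw [pr_congr (q := ε) fun l => by simp [ev]]
    have h2 : (2 : F) * G.B (t + 1) ξ (pr ε) = 0 := by linear_combination -h1
    exact (mul_eq_zero.1 h2).resolve_left G.two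
  -- two further positions
  obtain ⟨a, hai⟩ := exists_ne i
  obtain ⟨a', hai', haa⟩ : ∃ a', a' ≠ i ∧ a' ≠ a := by
    by_contra! hall'
    have : (Finset.univ : Finset (Fin (t + 1))) ⊆ {i, a} := fun l _ => by
      by_cases hl : l = i
      · simp [hl]
      · simp [hall' l hl]
    have h1 := (Finset.card_le_card this).trans Finset.card_le_two
    simp at h1
    obtain ⟨d, hd⟩ := hodd
    omega
  set A₀ : Fin (t + 1) → GL (Fin k) F := fun l => if l = a ∨ l = a' then G.ww b c v * G.rf v else 1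
  obtain ⟨H₀, hH₀⟩ : ∃ H, G.Dev M H A₀ := by
    obtain ⟨H₁, hH₁⟩ := dev_sq1 hO (fun l => if l = a ∨ l = a' then G.ww b c v else 1) fun l => by
      split_ifs <;> [exact ww_mem_sq1 h hv; exact one_mem _]
    exact ⟨_, (hH₁.mul (dev_pair hO (Ne.symm haa) (G.isI_rf v))).congr fun l => by
      simp only [Pi.mul_apply, A₀]; split_ifs <;> simp⟩
  have hA₀w : ∀ l, ∀ w, G.InW b c w → app (A₀ l) w = w := fun l w hw => by
    simp only [A₀]; split_ifs
    · rw [map_mul, LinearEquiv.mul_apply, ww_apply h hv hgv]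
      simp [rf_apply, hw.1, hw.2, hv.1, hv.2, wp]
      match_scalars <;> field_simp <;> ring
    · simp
  have hA₀a : app (A₀ a) b = κ • c ∧ app (A₀ a) c = (-(G.f v v / 2)) • b := by
    simp [A₀, (hrf v hv).1, (hrf v hv).2, hwb]
  have hA₀i : A₀ i = 1 := by simp [A₀, Ne.symm hai, Ne.symm hai']
  by_cases hk4 : k = 4
  · subst hk4
    refine parity_false hsupp hξ0 h e heg hsum hodd (fun s hs => ?_) fun W hW => ?_
    · -- the complement is anisotropic
      set x := s • e 0 + G.f (e 0) (e 0) • e 1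
      have hxW : G.InW b c x := ((he 0).smul _).add ((he 1).smul _)
      have hxx : G.f x x = 0 := by
        simp [x, heo 0 1 (by decide), heo 1 0 (by decide)]
        linear_combination G.f (e 0) (e 0) * hs
      obtain ⟨r, hr⟩ := hnp rfl b x h.bb hxx hxW.1 h.ne_left
      have := congrArg (G.f (e 1)) hr
      simp [x, heo 1 0 (by decide), (he 1).left', heg] at this
    · obtain ⟨H, hH⟩ := dev_even hO W hW (G.isI_rf (e 0))
      have := zero_val (μ := 1) one_ne_zero (hH₀.mul hH)
        (by simp only [Pi.mul_apply, hA₀i, one_mul, one_smul]; split_ifs <;> simp [(hrf _ (he 0)).1])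
        (by simp only [Pi.mul_apply, hA₀i, one_mul, inv_one, one_smul]; split_ifs <;> simp [(hrf _ (he 0)).2])
        ⟨a, by
          have : app (if a ∈ W then G.rf (e 0) else 1) c = c := by
            split_ifs <;> simp [(hrf _ (he 0)).2]
          rw [Pi.mul_apply, map_mul, LinearEquiv.mul_apply, this, hA₀a.2]
          exact Submodule.smul_mem _ _ (Submodule.mem_span_singleton_self b)⟩
      rw [← this, (hH₀.mul hH).apply]
      congr 1
      refine hsupp.congr (fun l hl => absurd hl (Finset.notMem_empty l)) (fun l _ w hw => ?_) h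
      by_cases hl : l ∈ W
      · simp only [hl, if_true, Pi.mul_apply, LinearEquiv.coe_coe, map_mul, LinearEquiv.mul_apply]
        have : G.InW b c (app (G.rf (e 0)) w) := by
          rw [rf_apply, sub_eq_add_neg]; exact hw.add ((he 0).smul _).neg
        rw [hA₀w l _ this]
      · simp [hl, hA₀w l _ hw]
  -- words of length two in the reflections
  let W2 : Set ((Fin k → F) →ₗ[F] (Fin k → F)) :=
    insert LinearMap.id (Set.range fun p : Fin (k - 2) × Fin (k - 2) =>
      (app (G.rf (e p.1) * G.rf (e p.2))).toLinearMap)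
  obtain ⟨E, -, hED, hne⟩ := exists_val_ne hsupp hξ0 h e heg hsum W2 (fun j => by
    by_cases hk3 : k = 3
    · refine ⟨LinearMap.id, Submodule.subset_span (Set.mem_insert _ _), fun w hw => ?_⟩
      have hw' : w = G.wp b c w := by simp [wp, hw.1, hw.2]
      rw [LinearMap.id_apply, pu_apply]
      conv_lhs => rw [hw', hsum]
      exact Finset.sum_eq_single j (fun x _ hx => absurd (Fin.ext (by omega)) hx) (by simp)
    obtain ⟨j₁, hj₁⟩ : ∃ j₁ : Fin (k - 2), j₁ ≠ j := by
      haveI : Nontrivial (Fin (k - 2)) := Fin.nontrivial_iff_two_le.2 (by omega)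
      exact exists_ne j
    obtain ⟨j₂, hj₂, hj₂'⟩ : ∃ j₂ : Fin (k - 2), j₂ ≠ j ∧ j₂ ≠ j₁ := by
      by_contra! hall'
      have : (Finset.univ : Finset (Fin (k - 2))) ⊆ {j, j₁} := fun l _ => by
        by_cases hl : l = j
        · simp [hl]
        · simp [hall' l hl]
      have h1 := (Finset.card_le_card this).trans Finset.card_le_two
      simp at h1
      omega
    set R := fun p q => (app (G.rf (e p) * G.rf (e q))).toLinearMap
    have hR' : ∀ p q, R p q ∈ Submodule.span F W2 := fun p q =>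
      Submodule.subset_span (Set.mem_insert_of_mem _ ⟨(p, q), rfl⟩)
    refine ⟨(-4 : F)⁻¹ • (R j j₁ + R j j₂ - R j₁ j₂ - LinearMap.id), Submodule.smul_mem _ _
      (sub_mem (sub_mem (add_mem (hR' _ _) (hR' _ _)) (hR' _ _))
        (Submodule.subset_span (Set.mem_insert _ _))), fun w _ => ?_⟩
    have h22 := G.two
    have h4 : (4 : F) ≠ 0 := by rw [show (4 : F) = 2 * 2 by norm_num]; exact mul_ne_zero h22 h22
    simp only [R, LinearMap.smul_apply, LinearMap.sub_apply, LinearMap.add_apply, LinearMap.id_apply,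
      LinearEquiv.coe_coe, map_mul, LinearEquiv.mul_apply, rf_apply, pu_apply, map_sub, map_smul,
      smul_eq_mul, heo j j₁ hj₁.symm, heo j j₂ hj₂.symm, heo j₁ j₂ hj₂'.symm, mul_zero, sub_zero]
    match_scalars <;> field_simp <;> ring)
  have hch : ∀ l, ∃ A ∈ G.Sq1, (∃ μ : F, μ ≠ 0 ∧ app A b = μ • b ∧ app A c = μ⁻¹ • c) ∧
      ∀ w, G.InW b c w → G.InW b c (app A w) ∧ app A w = E l w := fun l => by
    rcases hED l (Finset.notMem_empty l) with h' | ⟨⟨p, q⟩, hpq⟩
    · exact ⟨1, one_mem _, ⟨1, one_ne_zero, by simp, by simp⟩, fun w hw => by simp [h', hw]⟩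
    refine ⟨G.ww b c (e p) * G.ww b c (e q), mul_mem (ww_mem_sq1 h (he p)) (ww_mem_sq1 h (he q)),
      ⟨G.f (e p) (e p) / G.f (e q) (e q), div_ne_zero (heg p) (heg q), ?_, ?_⟩, fun w hw => ?_⟩
    · rw [map_mul, LinearEquiv.mul_apply, ww_apply h (he q) (heg q), ww_apply h (he p) (heg p)]
      simp [wp, h.bb, h.cb, h.bc, h.cc, (he q).left', (he p).left', (he p).right']
      have := G.two
      have := heg p
      match_scalars <;> field_simp
    · rw [map_mul, LinearEquiv.mul_apply, ww_apply h (he q) (heg q), ww_apply h (he p) (heg p)]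
      simp [wp, h.bb, h.cb, h.bc, h.cc, (he q).right', (he p).left', (he p).right']
      have := G.two
      have := heg p
      have := heg q
      match_scalars <;> field_simp
    · have e1 : ∀ (x : Fin (k - 2)) z, G.InW b c z → app (G.ww b c (e x)) z = app (G.rf (e x)) z :=
        fun x z hz => by rw [ww_apply h (he x) (heg x), rf_apply]; simp [hz.1, hz.2, wp]
      have e2 : ∀ (x : Fin (k - 2)) z, G.InW b c z → G.InW b c (app (G.rf (e x)) z) := fun x z hz => by
        rw [rf_apply, sub_eq_add_neg]; exact hz.add ((he x).smul _).neg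
      have e3 : app (G.ww b c (e p) * G.ww b c (e q)) w = E l w := by
        rw [← hpq, LinearEquiv.coe_coe, map_mul, map_mul, LinearEquiv.mul_apply, LinearEquiv.mul_apply,
          e1 q w hw, e1 p _ (e2 q w hw)]
      refine ⟨?_, e3⟩
      rw [map_mul, LinearEquiv.mul_apply, e1 q w hw, e1 p _ (e2 q w hw)]
      exact e2 p _ (e2 q w hw)
  choose A hAS hAb hAw using hch
  obtain ⟨H, hH⟩ := dev_sq1 hO A hAS
  obtain ⟨μ, hμ, hμb, hμc⟩ := hAb i
  obtain ⟨ν, hν, -, hνc⟩ := hAb a
  have hv0 := zero_val hμ (hH₀.mul hH) (by simpa [hA₀i] using hμb) (by simpa [hA₀i] using hμc)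
    ⟨a, by
      rw [Pi.mul_apply, map_mul, LinearEquiv.mul_apply, hνc, map_smul, hA₀a.2, smul_smul]
      exact Submodule.smul_mem _ _ (Submodule.mem_span_singleton_self b)⟩
  refine hne ?_
  rw [← hv0, (hH₀.mul hH).apply]
  congr 1
  refine hsupp.congr (fun l hl => absurd hl (Finset.notMem_empty l)) (fun l _ w hw => ?_) h
  obtain ⟨h1, h2⟩ := hAw l w hw
  simp only [LinearEquiv.coe_coe, Pi.mul_apply, map_mul, LinearEquiv.mul_apply]
  rw [hA₀w l _ h1, h2]

end Sm

end Cfsg.Agent.C7O
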