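import Cfsg.Agent.Lib.C7O.Res
import Cfsg.Agent.Lib.C7O.Rad
import Cfsg.Agent.Lib.C7O.AvgFinish

/-!
# The wreath group of an orthogonal tensor power is maximal

* `Sm.RadStep`, `Sm.maxl_step` : the induction step from the line and conjugation steps
* `Sm.maxl_of` : every overgroup lies in the wreath group or is big
-/

set_option autoImplicit false
set_option linter.unusedSectionVars false

namespace Cfsg.Agent.C7O

open Matrix Module Cfsg.Agent.Transvect Cfsg.Agent.C7
open Cfsg.Agent.C7F (res)
open scoped MatrixGroups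

attribute [-simp] app_apply

variable {F : Type*} [Field F] [Fintype F] {k t : ℕ}

namespace Sm

variable {G : Sm F k}

/-- The induction. -/
theorem maxl_of (hk : 3 ≤ k) (hex : ¬ (Fintype.card F = 3 ∧ k = 3)) (hnp : G.NoPlane)
    (hconj : ∀ {t : ℕ} {M : Subgroup (GL (J k (t + 1)) F)}, 1 ≤ t → G.Ovg M → G.LineWr M → G.ConjWr M)
    (hlines : ∀ {t : ℕ} {M : Subgroup (GL (J k (t + 1)) F)}, 1 ≤ t → G.Ovg M →
      (∀ (i : Fin (t + 1)) (b c : Fin k → F), G.HB b c → ∀ g ∈ M, (∀ y, app g (T i y b) = T i y b) →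
        (∀ x, ct i (G.f b) x = 0 → app g x - x ∈ Li i b) →
          ∃ v, G.InW b c v ∧ g = kr i 1 (G.sg b v)) →
      (∀ i, res i M ≤ Wr F k t) →
      (∀ M' : Subgroup (GL (J k t) F), G.Ovg M' → M' ≤ Wr F k t ∨ G.Big M') → G.LineWr M) :
    ∀ {t : ℕ} (M : Subgroup (GL (J k (t + 1)) F)), G.Ovg M → M ≤ Wr F k (t + 1) ∨ G.Big M := by
  intro t
  induction t with
  | zero => exact fun M _ => .inl fun g _ => C7.mem_Wr_one g
  | succ r ih =>
    intro M hO
    by_cases hbig : G.Big M
    · exact .inr hbig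
    have hR : ¬ G.Rt M := fun h => hbig (big_of_rt hO hk (by omega) h)
    have hres : ∀ m, res m M ≤ Wr F k (r + 1) := fun m => by
      rcases Nat.eq_zero_or_pos r with rfl | hr
      · exact fun g _ => C7.mem_Wr_one g
      · exact (ih _ (hO.res (by omega) m)).resolve_right fun h =>
          hR (rt_of_res hO hk (by omega) h)
    have hline : G.LineWr M := hlines (by omega) hO
      (fun i b c h g hg hfix hper => rad_eq hO (by omega) hk hex hnp hR hres i b c h g hg hfix hper)
      hres ih
    exact .inl (le_Wr_of_conj G (by omega) hk hex hnp hO hline (hconj (by omega) hO hline))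

end Sm

end Cfsg.Agent.C7O
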