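import Cfsg.Agent.Lib.C7O.Root
import Cfsg.Agent.Lib.C7O.Hyps
import Cfsg.Agent.Lib.C7F.Transport
import Cfsg.Agent.Lib.Orth.Geo
import Cfsg.Agent.Lib.Forms.Standard

/-!
# The wreath stabiliser of a symmetric tensor power in `Ω`

* `ofForm` : the structure `Sm` of a non-degenerate symmetric form
* `mem_isometryGroup_carry` : isometries correspond
* `sq_mem_omega`, `omega_le_sq` : `Ω` is generated by the squares of the isometries
* `Sm.exists_sq_notMem` : a square of an isometry outside the wreath group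
* `MaxlHyp`, `isMaximalIn_omega`, `odd_clause`, `plus_clause` : the statements of S5684 and S5708 from the
  maximality of the wreath group up to `Big`
-/

set_option autoImplicit false
set_option linter.unusedSectionVars false

namespace Cfsg.Agent.C7O

open Matrix Module Cfsg.Agent.Transvect Cfsg.Agent.C7
open Cfsg.Agent.C7F (pr pr_ne_zero T_pr T_pr' carry map_carry app_carry)
open scoped MatrixGroups
open QuadraticMap (polar)

attribute [-simp] app_apply

variable {F : Type*} [Field F] {k t : ℕ}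

/-- The structure of a non-degenerate symmetric form. -/
noncomputable def ofForm (h2 : (2 : F) ≠ 0) {f : (Fin k → F) → (Fin k → F) → F}
    (hf : Cfsg.Geo.IsSymmetricForm f) : Sm F k where
  f := LinearMap.mk₂ F f hf.bilinear.add_left
    (fun c x v => by rw [hf.bilinear.smul_left, smul_eq_mul]) hf.bilinear.add_right
    (fun c v x => by rw [hf.bilinear.smul_right, smul_eq_mul])
  sym := hf.symm
  nd := fun u h => by
    by_contra hu
    obtain ⟨-, x, hx⟩ := hf.nondegenerate u hu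
    exact hx (h x)
  two := h2

lemma ofForm_f (h2 : (2 : F) ≠ 0) {f : (Fin k → F) → (Fin k → F) → F}
    (hf : Cfsg.Geo.IsSymmetricForm f) (u v : Fin k → F) : (ofForm h2 hf).f u v = f u v := rfl

lemma B_ofForm (h2 : (2 : F) ≠ 0) {f : (Fin k → F) → (Fin k → F) → F}
    (hf : Cfsg.Geo.IsSymmetricForm f) (x y : J k t → F) :
    (ofForm h2 hf).B t x y =
      ∑ a, ∑ b, x a * (∏ i, Cfsg.Geo.gramMatrix f (a i) (b i)) * id (y b) := rfl

/-! ### `Ω` and squares -/

section Omega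

variable {ι : Type} [Fintype ι] [DecidableEq ι]

lemma sq_mem_omega [Fintype F] {Q : QuadraticForm F (ι → F)} (hnd : Q.polarBilin.Nondegenerate)
    (h2 : (2 : F) ≠ 0) (g : Orth.IsoGrp Q) : g * g ∈ Cfsg.Omega F ⇑Q := by
  have hG : Orth.Good Q := Orth.Good.of_two_ne_zero hnd h2
  rw [Orth.mem_omega_iff hG, Orth.dick_mul hG, Orth.spin_mul hG]
  refine ⟨?_, ?_⟩
  · rcases Orth.dick_eq_or g with h | h <;> rw [h] <;> norm_num
  · rcases Orth.spin_eq_or hG g with h | h <;> rw [h] <;> norm_num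

/-- A subgroup with all squares contains the commutator subgroup. -/
lemma commutator_le_of_sq {H : Type*} [Group H] (N : Subgroup H) (h : ∀ g : H, g * g ∈ N) :
    commutator H ≤ N := by
  rw [_root_.commutator_def, Subgroup.commutator_le]
  intro a _ b _
  rw [commutatorElement_def, show a * b * a⁻¹ * b⁻¹ = a * a * (a⁻¹ * b * (a⁻¹ * b)) * (b * b)⁻¹ by group]
  exact mul_mem (mul_mem (h a) (h _)) (inv_mem (h b))

lemma omega_le_sq {Q : QuadraticForm F (ι → F)} (M : Subgroup (GL ι F))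
    (h : ∀ g : Orth.IsoGrp Q, ((g * g : Orth.IsoGrp Q) : GL ι F) ∈ M) : Cfsg.Geo.omegaGL ⇑Q ≤ M :=
  Subgroup.map_le_iff_le_comap.2 (commutator_le_of_sq _ h)

lemma app_isometry {Q : QuadraticForm F (ι → F)} {g : GL ι F} (hg : g ∈ Cfsg.isometryGroup F ⇑Q)
    (x : ι → F) : Q (app g x) = Q x := Orth.Q_ap (⟨g, hg⟩ : Orth.IsoGrp Q) x

/-- The isometry groups correspond. -/
lemma mem_isometryGroup_carry {G : Sm F k} {Q : QuadraticForm F (ι → F)} {c : F} (hc : c ≠ 0)
    (e : ι ≃ J k t) (P : GL ι F) (h : ∀ x y, polar ⇑Q ((P : Matrix ι ι F) *ᵥ (x ∘ e))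
      ((P : Matrix ι ι F) *ᵥ (y ∘ e)) = c * G.B t x y) (g : GL (J k t) F) :
    carry e P g ∈ Cfsg.isometryGroup F ⇑Q ↔ g ∈ G.isoGrp t := by
  constructor
  · intro hg x y
    have h1 := Orth.polar_ap (⟨carry e P g, hg⟩ : Orth.IsoGrp Q) ((P : Matrix ι ι F) *ᵥ (x ∘ e))
      ((P : Matrix ι ι F) *ᵥ (y ∘ e))
    change polar ⇑Q (app (carry e P g) _) (app (carry e P g) _) = _ at h1
    rw [app_carry, app_carry, h, h] at h1
    exact mul_left_cancel₀ hc h1
  · intro hg u _
    obtain ⟨x, rfl⟩ := C7F.exists_coord e P u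
    show Q (app (carry e P g) _) = Q _
    rw [app_carry]
    have h2 := G.two
    have h1 := h (app g x) (app g x)
    rw [hg, ← h, Orth.pl_self, Orth.pl_self] at h1
    exact mul_left_cancel₀ h2 h1

end Omega

/-! ### an element of `Ω` outside the wreath group -/

namespace Sm

variable (G : Sm F k) [Fintype F]

/-- A square of an isometry outside the wreath group. -/
lemma exists_sq_notMem (hk : 3 ≤ k) (ht : 1 ≤ t) :
    ∃ g ∈ G.isoGrp (t + 1), g * g ∉ Wr F k (t + 1) := by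
  classical
  haveI : Nontrivial (Fin (t + 1)) := Fin.nontrivial_iff_two_le.2 (by omega)
  obtain ⟨b, c, h⟩ := G.exists_hb' hk
  obtain ⟨v, hv, hgv⟩ := exists_aniso h hk
  set u : J k (t + 1) → F := pr fun _ => b with hu
  set q : Fin (t + 1) → Fin k → F := Function.update (fun _ => b) 0 v with hq
  set w : J k (t + 1) → F := pr q with hw
  obtain ⟨l₁, hl₁⟩ := exists_ne (0 : Fin (t + 1))
  have hql₁ : q l₁ = b := by rw [hq, Function.update_of_ne hl₁]
  have huu : G.B (t + 1) u u = 0 := B_pr_zero 0 h.bb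
  have huw : G.B (t + 1) u w = 0 := B_pr_zero l₁ (by rw [hql₁]; exact h.bb)
  have hww : G.B (t + 1) w w = 0 := B_pr_zero l₁ (by rw [hql₁]; exact h.bb)
  set g : Orth.IsoGrp (G.qB (t + 1)) := Orth.eich (G.qB (t + 1)) u ((2 : F)⁻¹ • w) with hg
  refine ⟨g, fun x y => ?_, fun hW => ?_⟩
  · rw [← polar_qB, ← polar_qB]
    exact Orth.polar_ap g x y
  have hgg : ∀ x, app ((g : GL (J k (t + 1)) F) * (g : GL (J k (t + 1)) F)) x = x + G.sk (t + 1) u w x := fun x => by
    have hh : QuadraticMap.polar ⇑(G.qB (t + 1)) u ((2 : F)⁻¹ • w) = 0 := by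
      rw [polar_qB, map_smul, huw, smul_zero]
    have e : g * g = Orth.eich (G.qB (t + 1)) u w := by
      rw [hg, Orth.eich_add (G.qB_zero huu) hh hh, ← add_smul, show (2 : F)⁻¹ + 2⁻¹ = 1 by
        have := G.two; field_simp; norm_num, one_smul]
    rw [← app_eich huu hww huw, ← e]
    rfl
  set cc : J k (t + 1) → F := pr fun _ => c with hcc
  have h1 : G.B (t + 1) u cc = 1 := by rw [B_pr, Finset.prod_eq_one fun j _ => h.bc]
  have h2 : G.B (t + 1) w cc = 0 := B_pr_zero 0 (by rw [hq, Function.update_self]; exact hv.right')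
  obtain ⟨l, X, D, hf⟩ := exists_form hW 0
  have key : cc + w = T l (app X (pr fun _ => c)) (app D c) := by
    rw [← hf, T_pr', hgg, sk_apply, show pr (Fin.insertNth (0 : Fin (t + 1)) c fun _ => c) = cc from
      pr_congr fun j => by obtain rfl | ⟨j, rfl⟩ := (0 : Fin (t + 1)).eq_self_or_eq_succAbove j <;> simp,
      h1, h2, one_smul, zero_smul, sub_zero]
  set a := app X (pr fun _ => c)
  set d := app D c
  set w' : J k t → F := pr fun j => q (l.succAbove j) with hw'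
  set c' : J k t → F := pr fun _ => c with hc'
  have eC : cc = T l c' c := (T_pr l fun _ => c).symm
  have eW : w = T l w' (q l) := (T_pr l q).symm
  have hdual : ∃ s, G.f s c = 0 ∧ G.f s (q l) ≠ 0 := by
    by_cases hl : l = 0
    · exact ⟨v, hv.right', by rw [hl, hq, Function.update_self]; exact hgv⟩
    · exact ⟨c, h.cc, by rw [hq, Function.update_of_ne hl, h.cb]; exact one_ne_zero⟩
  obtain ⟨s, hsc, hsq⟩ := hdual
  have k1 := congrArg (ct l (G.f b)) key
  have k2 := congrArg (ct l (G.f s)) key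
  have hbq : G.f b (q l) = 0 := by
    by_cases hl : l = 0
    · rw [hl, hq, Function.update_self]; exact hv.left
    · rw [hq, Function.update_of_ne hl]; exact h.bb
  rw [map_add, eC, eW, ct_T, ct_T, ct_T, h.bc, hbq, one_smul, zero_smul, add_zero] at k1
  rw [map_add, eC, eW, ct_T, ct_T, ct_T, hsc, zero_smul, zero_add] at k2
  -- so the two rests are proportional
  have hw'c : (G.f s d)⁻¹ • G.f s (q l) • w' = a := by
    rw [k2, inv_smul_smul₀]
    intro e0
    rw [e0, zero_smul, smul_eq_zero] at k2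
    exact pr_ne_zero (fun j => by
      show q (l.succAbove j) ≠ 0
      by_cases hj : l.succAbove j = 0
      · rw [hj, hq, Function.update_self]; exact fun e => hgv (by simp [e])
      · rw [hq, Function.update_of_ne hj]; exact h.ne_left) (k2.resolve_left hsq)
  have hB : G.B t (pr fun _ => b) c' = 1 := by rw [B_pr, Finset.prod_eq_one fun j _ => h.bc]
  have hB' : G.B t (pr fun _ => b) w' = 0 := by
    refine B_pr_zero ⟨0, by omega⟩ ?_
    show G.f b (q _) = 0
    by_cases hj : l.succAbove (⟨0, by omega⟩ : Fin t) = 0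
    · rw [hj, hq, Function.update_self]; exact hv.left
    · rw [hq, Function.update_of_ne hj]; exact h.bb
  have := congrArg (G.B t (pr fun _ => b)) k1
  rw [hB, ← hw'c, map_smul, map_smul, map_smul, hB', smul_zero, smul_zero, smul_zero] at this
  exact one_ne_zero this

end Sm

/-! ### maximality -/

/-- Maximality of the wreath group up to `Big`. -/
def MaxlHyp (F : Type*) [Field F] [Fintype F] : Prop :=
  ∀ {k : ℕ} (G : Sm F k), 3 ≤ k → ¬ (Fintype.card F = 3 ∧ k = 3) → G.NoPlane →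
    ∀ {t : ℕ} (M : Subgroup (GL (J k (t + 1)) F)), G.Ovg M → M ≤ Wr F k (t + 1) ∨ G.Big M

variable [Fintype F]

/-- The wreath stabiliser is maximal in `Ω`. -/
theorem isMaximalIn_omega (hmaxl : MaxlHyp F) {ι : Type} [Fintype ι] [DecidableEq ι]
    {Q : QuadraticForm F (ι → F)} (hnd : Q.polarBilin.Nondegenerate) (h2 : (2 : F) ≠ 0) (hk : 3 ≤ k)
    (ht : 2 ≤ t) (hex : ¬ (Fintype.card F = 3 ∧ k = 3)) (e : ι ≃ J k t) (P : GL ι F)
    {f₁ : (Fin k → F) → (Fin k → F) → F} (hf₁ : Cfsg.Geo.IsSymmetricForm f₁)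
    (hP : (ofForm h2 hf₁).NoPlane)
    (hT : Cfsg.Geo.IsTensorPowerFormStructure id (polar ⇑Q) f₁ e P) :
    Cfsg.Geo.IsMaximalIn (Cfsg.Geo.omegaGL ⇑Q)
      (Cfsg.Geo.tensorWreathSubgroup k t e P ⊓ Cfsg.Geo.omegaGL ⇑Q) := by
  obtain ⟨n, rfl⟩ := Nat.exists_eq_add_of_le' (show 1 ≤ t by omega)
  set G := ofForm h2 hf₁
  obtain ⟨c, hc, hform⟩ := hT
  have hiso := mem_isometryGroup_carry (G := G) hc e P (fun x y => by rw [hform, B_ofForm])
  set χ := carry (F := F) e P
  have hΩi : Cfsg.Geo.omegaGL ⇑Q ≤ Cfsg.isometryGroup F ⇑Q := Subgroup.map_subtype_le _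
  have hsq : ∀ g ∈ G.isoGrp (n + 1), χ (g * g) ∈ Cfsg.Geo.omegaGL ⇑Q := fun g hg =>
    ⟨⟨χ g, (hiso g).2 hg⟩ * ⟨χ g, (hiso g).2 hg⟩, sq_mem_omega hnd h2 _, (map_mul χ g g).symm⟩
  rw [← map_carry]
  refine ⟨lt_of_le_of_ne inf_le_right fun he => ?_, fun M h1 h3 => ?_⟩
  · obtain ⟨g, hg, hgW⟩ := G.exists_sq_notMem (t := n) hk (by omega)
    obtain ⟨x, hx, hxe⟩ := (he.ge (hsq g hg)).1
    exact hgW (χ.injective hxe ▸ hx)
  · have hO : G.Ovg (M.comap χ.toMonoidHom) :=
      { le := fun g hg => (hiso g).1 (hΩi (h3 hg))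
        sq := fun g hg hgi => h1 ⟨⟨g * g, mul_mem hg hg, rfl⟩, hsq g hgi⟩ }
    rcases hmaxl G hk hex hP _ hO with h | h
    · refine .inl (le_antisymm (fun x hx => ⟨?_, h3 hx⟩) h1)
      obtain ⟨g, rfl⟩ := χ.surjective x
      exact ⟨g, h hx, rfl⟩
    · refine .inr (le_antisymm h3 (omega_le_sq M fun x => ?_))
      obtain ⟨g, hg⟩ := χ.surjective (x : GL ι F)
      have hgi : g ∈ G.isoGrp (n + 1) := (hiso g).1 (hg.symm ▸ x.2)
      have := h g hgi
      rw [Subgroup.mem_comap, MulEquiv.coe_toMonoidHom, map_mul, hg] at this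
      exact this

lemma two_ne_of_odd (hodd : Odd (Fintype.card F)) : (2 : F) ≠ 0 := fun h => by
  have h2 : ringChar F = 2 := CharP.ringChar_of_prime_eq_zero Nat.prime_two (by exact_mod_cast h)
  have := (FiniteField.even_card_iff_char_two (F := F)).1 h2
  rw [Nat.odd_iff] at hodd
  omega

/-- The clause of S5684. -/
theorem odd_clause (hmaxl : MaxlHyp F) (hodd : Odd (Fintype.card F)) (m : ℕ) (_hm : 6 ≤ m) (k t : ℕ)
    (hk : 3 ≤ k) (ht : 2 ≤ t) (hex : ¬ (Fintype.card F = 3 ∧ k = 3))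
    (e : (Unit ⊕ (Fin m ⊕ Fin m)) ≃ (Fin t → Fin k))
    (P : Matrix.GeneralLinearGroup (Unit ⊕ (Fin m ⊕ Fin m)) F) (f₁ : (Fin k → F) → (Fin k → F) → F)
    (hf₁ : Cfsg.Geo.IsSymmetricForm f₁)
    (hT : Cfsg.Geo.IsTensorPowerFormStructure id (QuadraticMap.polar (Cfsg.quadFormOdd m F)) f₁ e P) :
    Cfsg.Geo.IsMaximalIn (Cfsg.Geo.omegaGL (Cfsg.quadFormOdd m F))
      (Cfsg.Geo.tensorWreathSubgroup k t e P ⊓ Cfsg.Geo.omegaGL (Cfsg.quadFormOdd m F)) := by
  rw [← Forms.qfOdd_eq] at hT ⊢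
  have h2 := two_ne_of_odd hodd
  refine isMaximalIn_omega hmaxl (Forms.qfOdd_nondegenerate h2 m) h2 hk ht hex e P hf₁ (fun h4 => ?_) hT
  exfalso
  subst h4
  have hcard := Fintype.card_congr e
  simp only [Fintype.card_sum, Fintype.card_unit, Fintype.card_fin, Fintype.card_fun] at hcard
  have : 4 ^ t % 2 = 0 := by rw [Nat.pow_mod]; simp [show t ≠ 0 by omega]
  omega

/-- The clause of S5708. -/
theorem plus_clause (hmaxl : MaxlHyp F) {n : ℕ} (_hn : 13 ≤ n) (_heven : Even n) (Q : (Fin n → F) → F)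
    (hQ : Cfsg.Geo.IsNondegenerateQuadraticForm Q) (_hplus : Cfsg.Geo.IsPlusTypeOn Q ⊤)
    (hodd : Odd (Fintype.card F)) (k t : ℕ) (ht : 2 ≤ t) (_hke : Even k) (e : (Fin n) ≃ (Fin t → Fin k))
    (P : Matrix.GeneralLinearGroup (Fin n) F) (f₁ : (Fin k → F) → (Fin k → F) → F)
    (hf₁ : Cfsg.Geo.IsSymmetricForm f₁)
    (hsize : (6 ≤ k ∧ Cfsg.Geo.IsPlusTypeOn (fun v : Fin k → F => f₁ v v) ⊤) ∨
      (4 ≤ k ∧ ¬ Cfsg.Geo.IsPlusTypeOn (fun v : Fin k → F => f₁ v v) ⊤))
    (hT : Cfsg.Geo.IsTensorPowerFormStructure id (QuadraticMap.polar Q) f₁ e P) :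
    Cfsg.Geo.IsMaximalIn (Cfsg.Geo.omegaGL Q)
      (Cfsg.Geo.tensorWreathSubgroup k t e P ⊓ Cfsg.Geo.omegaGL Q) := by
  have h2 := two_ne_of_odd hodd
  have hk4 : 4 ≤ k := by rcases hsize with h | h <;> omega
  have := isMaximalIn_omega hmaxl (Q := Orth.ofND hQ) (Orth.ofND_nondeg hQ) h2 (k := k) (by omega) ht
    (fun hh => by omega) e P hf₁ ?_ hT
  · exact this
  intro h4 u v huu hvv huv hu0
  by_contra hno
  push Not at hno
  rcases hsize with ⟨h6, -⟩ | ⟨-, hnp⟩
  · omega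
  subst h4
  set G := ofForm h2 hf₁
  refine hnp ⟨Submodule.span F {u, v}, le_top, fun x hx => ?_, ?_⟩
  · obtain ⟨a, b, rfl⟩ := Submodule.mem_span_pair.1 hx
    show G.f (a • u + b • v) (a • u + b • v) = 0
    simp [huu, hvv, huv, G.sym v u]
  · have hli : LinearIndependent F ![u, v] :=
      (LinearIndependent.pair_iff' hu0).2 fun a ha => hno a ha.symm
    rw [show ({u, v} : Set (Fin 4 → F)) = Set.range ![u, v] by simp [Matrix.range_cons, Set.pair_comm],
      finrank_span_eq_card hli]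
    simp

end Cfsg.Agent.C7O
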