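import Cfsg.Agent.Lib.C7O.Main
import Cfsg.Agent.Lib.C7O.Transport
import Cfsg.Agent.Lib.C7O.Conj
import Cfsg.Agent.Lib.C7O.Lines

/-!
# Maximality of wreath stabilisers of orthogonal tensor powers
-/

set_option autoImplicit false

namespace Cfsg.Agent.C7O

variable {F : Type*} [Field F] [Fintype F]

/-- Every overgroup of the squares in the wreath group lies in it or is big. -/
theorem maxlHyp : MaxlHyp F := fun {k} G hk hex hnp {_t} M hO =>
  G.maxl_of hk hex hnp (fun {_ _} ht hO hl => Sm.conjWr_of_lineWr ht hk hex hnp hO hl)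
    (fun {_ _} ht hO hrad _ ih => Sm.lineWr ht hk hex hnp hO hrad
      (fun {_} g nu hnu hg i b c v hb hv hgv hW =>
        Sm.line_of_conj_all hk hex hnp g nu hnu hg i b c v hb hv hgv hW) ih)
    M hO

end Cfsg.Agent.C7O
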