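import Cfsg.Agent.Lib.C7O.Eval
import Cfsg.Agent.Lib.C7O.Hyps

/-!
# Tools for the radical of a line of one position

* `Skw n X` : `X` is skew; `Sm.typed_val`, `Sm.eq_zero_of_typed`, `Sm.supp_of_typed`
* `ct_pt`, `pt_Li` : pure operators and lines
* `Sm.Dev M H C` : `H ∈ M` is the pure operator of the isometries `C l`, with constructors
* `Sm.wr_rad` : the wreath group meets the radical in the Siegel elements
-/

set_option autoImplicit false
set_option linter.unusedSectionVars false

namespace Cfsg.Agent.C7O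

open Matrix Module Cfsg.Agent.Transvect Cfsg.Agent.C7
open Cfsg.Agent.C7F (op op_T op_one op_pt pr T_pr T_pr' pt pt_pr pt_comp sl sl_T sl_pr)
open scoped MatrixGroups

attribute [-simp] app_apply

variable {F : Type*} [Field F] [Fintype F] {k t n : ℕ}

lemma pt_smul_on (E : Fin n → (Fin k → F) →ₗ[F] (Fin k → F)) (κ : F) (S : Finset (Fin n)) :
    pt (fun l => if l ∈ S then κ • E l else E l) = κ ^ S.card • pt E := by
  classical
  induction S using Finset.induction_on with
  | empty => simp
  | @insert a S ha ih =>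
    rw [show (fun l => if l ∈ insert a S then κ • E l else E l) =
      Function.update (fun l => if l ∈ S then κ • E l else E l) a (κ • E a) from funext fun l => by
        by_cases hl : l = a
        · subst hl; simp
        · simp [hl], pt_update_smul, show Function.update (fun l => if l ∈ S then κ • E l else E l) a (E a) =
          (fun l => if l ∈ S then κ • E l else E l) from Function.update_eq_self_iff.2 (by simp [ha]),
      ih, Finset.card_insert_of_notMem ha, pow_succ, smul_smul, mul_comm]

/-- Pure operators map lines to lines. -/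
lemma pt_Li (E : Fin (t + 1) → (Fin k → F) →ₗ[F] (Fin k → F)) (l : Fin (t + 1)) {u : Fin k → F}
    {x : J k (t + 1) → F} (hx : x ∈ Li l u) : pt E x ∈ Li l (E l u) := by
  obtain ⟨y, rfl⟩ := hx
  rw [show pt E = op l (pt fun j => E (l.succAbove j)) (E l) by
    rw [op_pt]; refine pt_apply_eq fun j => ?_
    obtain rfl | ⟨j', rfl⟩ := l.eq_self_or_eq_succAbove j <;> simp]
  rw [LinearMap.flip_apply, op_T]
  exact T_mem_Li _ _ _

/-- Contraction of a pure operator. -/
lemma ct_pt (E : Fin (t + 1) → (Fin k → F) →ₗ[F] (Fin k → F)) (l : Fin (t + 1))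
    {φ : (Fin k → F) →ₗ[F] F} {μ : F} (h : ∀ z, φ (E l z) = μ * φ z) (x : J k (t + 1) → F) :
    ct l φ (pt E x) = μ • pt (fun j => E (l.succAbove j)) (ct l φ x) := by
  rw [show pt E = op l (pt fun j => E (l.succAbove j)) (E l) by
    rw [op_pt]; refine pt_apply_eq fun j => ?_
    obtain rfl | ⟨j', rfl⟩ := l.eq_self_or_eq_succAbove j <;> simp]
  exact LinearMap.congr_fun (lin_ext l
    (f := (ct l φ).comp (op l (pt fun j => E (l.succAbove j)) (E l)))
    (g := (μ • pt fun j => E (l.succAbove j)).comp (ct l φ)) fun a u => by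
      simp [h, smul_smul, mul_comm]) x

lemma mem_Li_smul {l : Fin (t + 1)} {u : Fin k → F} {s : F} {x : J k (t + 1) → F}
    (hx : x ∈ Li l (s • u)) : x ∈ Li l u := by
  obtain ⟨y, rfl⟩ := hx
  rw [LinearMap.flip_apply, map_smul, ← LinearMap.smul_apply, ← map_smul]
  exact T_mem_Li _ _ _

namespace Sm

variable {G : Sm F k} {b c : Fin k → F}

variable (G) in
/-- A skew operator. -/
def Skw (n : ℕ) (X : Module.End F (J k n → F)) : Prop :=
  ∀ x y, G.B n (X x) y = -G.B n x (X y)

lemma Skw.cj {X : Module.End F (J k n → F)} (hX : G.Skw n X) {g : GL (J k n) F}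
    (hg : g ∈ G.isoGrp n) : G.Skw n (C7O.cj g X) := fun x y => by
  rw [cj_apply, cj_apply]
  conv_lhs => rw [← app_app_inv g y, hg, hX]
  conv_rhs => rw [← app_app_inv g x, hg]

lemma IsI.fb {C : GL (Fin k) F} (hC : G.IsI C) {μ : F} (h : app C b = μ • b) (hμ : μ ≠ 0)
    (z : Fin k → F) : G.f b (app C z) = μ⁻¹ * G.f b z := by
  have := hC b z
  rw [h, map_smul, LinearMap.smul_apply, smul_eq_mul] at this
  rw [← this, ← mul_assoc, inv_mul_cancel₀ hμ, one_mul]

/-- A typed operator in terms of its values at the opposite line. -/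
lemma typed_val (h : G.HB b c) {m : Fin (t + 1)} {X : Module.End F (J k (t + 1) → F)}
    (hty : X ∈ G.TB m b c ∨ X ∈ G.TD m b c) (y : J k t → F) (z : Fin k → F) :
    X (T m y z) = G.f b z • X (T m y c) - T m (ct m (G.f (G.wp b c z)) (X (T m y c))) b := by
  refine G.ct_sep (i := m) fun a => ?_
  simp only [map_sub, map_smul, ct_T, ← cC_apply, G.sym a b]
  rcases hty with hX | hX
  · rw [hX a z, hX a c, hX (G.wp b c z) c]
    simp only [LinearMap.smul_apply, h.bc, (wp_mem h z).1, smul_smul]
    module
  · rw [hX a z, hX a c, hX (G.wp b c z) c]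
    have e1 : G.wp b c c = 0 := by simp [wp, h.cc, h.bc]
    have e2 : G.wp b c (G.wp b c z) = G.wp b c z := by
      simp [wp, h.bb, h.cc, h.bc, h.cb]
    simp only [LinearMap.sub_apply, LinearMap.smul_apply, h.bc, (wp_mem h z).1, e1, e2, map_zero,
      LinearMap.zero_apply]
    module

/-- A typed operator vanishing at the opposite pure vector is zero. -/
lemma eq_zero_of_typed (h : G.HB b c) {X : Module.End F (J k (t + 1) → F)}
    (hty : ∀ m, X ∈ G.TB m b c ∨ X ∈ G.TD m b c) (h0 : X (pr fun _ => c) = 0) : X = 0 := by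
  classical
  suffices H : ∀ (T : Finset (Fin (t + 1))) (q : Fin (t + 1) → Fin k → F), (∀ l ∉ T, q l = c) →
      X (pr q) = 0 from C7F.Fm.ext_pr fun q => H Finset.univ q (by simp)
  intro W
  induction W using Finset.induction_on with
  | empty => intro q hq; rw [pr_congr fun l => hq l (Finset.notMem_empty l)]; exact h0
  | @insert a W ha ih =>
    intro q hq
    have h1 : X (T a (pr fun j => q (a.succAbove j)) c) = 0 := by
      rw [T_pr']
      refine ih _ fun l hl => ?_
      obtain rfl | ⟨j, rfl⟩ := a.eq_self_or_eq_succAbove l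
      · simp
      · rw [Fin.insertNth_apply_succAbove]
        exact hq _ fun hh => (Finset.mem_insert.1 hh).elim (a.succAbove_ne j) hl
    rw [← T_pr a q, typed_val h (hty a), h1]
    simp

/-- The support of the value of a typed operator. -/
lemma supp_of_typed (h : G.HB b c) (S : Finset (Fin (t + 1))) {X : Module.End F (J k (t + 1) → F)}
    (hS : ∀ l ∈ S, X ∈ G.TB l b c) (hD : ∀ l ∉ S, X ∈ G.TD l b c) :
    G.Supp b c S (X (pr fun _ => c)) := by
  classical
  have hsl : ∀ l, sl l (if l ∈ S then G.pb b c else G.pw b c) (X (pr fun _ => c)) =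
      X (pr fun _ => c) := by
    intro l
    rw [← T_pr l fun _ => c]
    set y := pr (F := F) fun j : Fin t => c
    by_cases hl : l ∈ S
    · rw [if_pos hl]
      obtain ⟨a, ha⟩ := TB.mem_Li (hS l hl) (T l y c)
      rw [← ha, LinearMap.flip_apply, sl_T, pb_apply, h.cb, one_smul]
    · rw [if_neg hl]
      have e : ∀ (a : Fin k → F) w, ct l (G.f a) (sl l (G.pw b c) w) = ct l (G.f (G.wp b c a)) w :=
        fun a w => LinearMap.congr_fun (lin_ext l (f := (ct l (G.f a)).comp (sl l (G.pw b c)))
          (g := ct l (G.f (G.wp b c a))) fun u z => by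
            simp [wp, G.sym a b, G.sym a c]; module) w
      refine G.ct_sep (i := l) fun a => ?_
      rw [e, ← cC_apply, ← cC_apply, hD l hl a c, hD l hl (G.wp b c a) c,
        show G.wp b c c = 0 by simp [wp, h.cc, h.bc],
        show G.wp b c (G.wp b c a) = G.wp b c a by simp [wp, h.bb, h.cc, h.bc, h.cb]]
      simp [(wp_mem h a).1]
  show pt _ _ = _
  suffices H : ∀ W : Finset (Fin (t + 1)), pt (fun l => if l ∈ W then (if l ∈ S then G.pb b c else
      G.pw b c) else LinearMap.id) (X (pr fun _ => c)) = X (pr fun _ => c) by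
    simpa using H Finset.univ
  intro W
  induction W using Finset.induction_on with
  | empty => simp [pt_id]
  | @insert a W ha ih =>
    have e : (fun l => if l ∈ insert a W then (if l ∈ S then G.pb b c else G.pw b c) else LinearMap.id) =
        fun l => (Function.update (fun _ => LinearMap.id) a (if a ∈ S then G.pb b c else G.pw b c) l).comp
          (if l ∈ W then (if l ∈ S then G.pb b c else G.pw b c) else LinearMap.id) := funext fun l => by
      by_cases hl : l = a
      · subst hl; simp [ha]
      · simp [hl]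
    rw [e, ← pt_comp, LinearMap.comp_apply, ih, pt_update_id, hsl]

/-! ### devices -/

section Dev

variable {M : Subgroup (GL (J k (t + 1)) F)} {H H' : GL (J k (t + 1)) F}
  {C C' : Fin (t + 1) → GL (Fin k) F}

variable (G) in
/-- A pure element of `M`. -/
structure Dev (M : Subgroup (GL (J k n) F)) (H : GL (J k n) F) (C : Fin n → GL (Fin k) F) : Prop where
  mem : H ∈ M
  isI : ∀ l, G.IsI (C l)
  eq : (app H).toLinearMap = pt fun l => (app (C l)).toLinearMap

lemma Dev.apply (hH : G.Dev M H C) (x : J k (t + 1) → F) :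
    app H x = pt (fun l => (app (C l)).toLinearMap) x := LinearMap.congr_fun hH.eq x

lemma dev_one : G.Dev M 1 (fun _ => 1) where
  mem := one_mem M
  isI := fun _ => isI_one
  eq := by
    rw [map_one, show (fun _ : Fin (t + 1) => (app (1 : GL (Fin k) F)).toLinearMap) =
      fun _ => LinearMap.id by rw [map_one]; rfl, pt_id]
    rfl

lemma Dev.mul (hH : G.Dev M H C) (hH' : G.Dev M H' C') : G.Dev M (H * H') (C * C') where
  mem := mul_mem hH.mem hH'.mem
  isI := fun l => (hH.isI l).mul (hH'.isI l)
  eq := by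
    refine LinearMap.ext fun x => ?_
    rw [LinearEquiv.coe_coe, map_mul, LinearEquiv.mul_apply, hH.apply, hH'.apply, ← LinearMap.comp_apply,
      pt_comp]
    congr 1
    exact pt_apply_eq fun l => LinearMap.ext fun z => by simp

lemma Dev.inv (hH : G.Dev M H C) : G.Dev M H⁻¹ (fun l => (C l)⁻¹) where
  mem := inv_mem hH.mem
  isI := fun l => (hH.isI l).inv
  eq := by
    refine LinearMap.ext fun x => (app H).injective ?_
    rw [LinearEquiv.coe_coe, app_app_inv, hH.apply, ← LinearMap.comp_apply, pt_comp]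
    rw [pt_apply_eq (E' := fun _ => LinearMap.id) fun l => LinearMap.ext fun z => by simp [app_app_inv],
      pt_id, LinearMap.id_apply]

lemma Dev.congr (hH : G.Dev M H C) (e : ∀ l, C l = C' l) : G.Dev M H C' := by rwa [← funext e]

lemma kr_pt (l : Fin (t + 1)) (A : GL (Fin k) F) :
    (app (kr l (1 : GL (J k t) F) A)).toLinearMap =
      pt fun j => (app (if j = l then A else 1)).toLinearMap := by
  rw [app_kr_one_sl, ← pt_update_id]
  refine pt_apply_eq fun j => ?_
  by_cases hj : j = l
  · subst hj; simp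
  · simp [hj]

lemma dev_slot (hO : G.Ovg M) (l : Fin (t + 1)) {A : GL (Fin k) F} (hA : A ∈ G.Sq1) :
    G.Dev M (kr l 1 A) (fun j => if j = l then A else 1) where
  mem := hO.sq_gen l hA
  isI := fun j => by split_ifs <;> [exact sq1_isI hA; exact isI_one]
  eq := kr_pt l A

lemma dev_pair (hO : G.Ovg M) {i j : Fin (t + 1)} (hij : i ≠ j) {A : GL (Fin k) F} (hA : G.IsI A) :
    G.Dev M (kr i 1 A * kr j 1 A) (fun l => if l = i ∨ l = j then A else 1) where
  mem := hO.pair hij hA
  isI := fun l => by split_ifs <;> [exact hA; exact isI_one]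
  eq := by
    refine LinearMap.ext fun x => ?_
    rw [LinearEquiv.coe_coe, map_mul, LinearEquiv.mul_apply, ← LinearEquiv.coe_coe, kr_pt,
      ← LinearEquiv.coe_coe, kr_pt, ← LinearMap.comp_apply, pt_comp]
    congr 1
    refine pt_apply_eq fun l => LinearMap.ext fun z => ?_
    by_cases hi : l = i
    · subst hi; simp [hij]
    · by_cases hj : l = j
      · subst hj; simp [hi]
      · simp [hi, hj]

/-- Arbitrary generators in all positions. -/
lemma dev_sq1 (hO : G.Ovg M) (A : Fin (t + 1) → GL (Fin k) F) (hA : ∀ l, A l ∈ G.Sq1) :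
    ∃ H, G.Dev M H A := by
  classical
  suffices h : ∀ W : Finset (Fin (t + 1)), ∃ H, G.Dev M H (fun l => if l ∈ W then A l else 1) by
    simpa using h Finset.univ
  intro W
  induction W using Finset.induction_on with
  | empty => exact ⟨1, dev_one.congr fun l => by simp⟩
  | @insert a W ha ih =>
    obtain ⟨H, hH⟩ := ih
    refine ⟨_, ((dev_slot hO a (hA a)).mul hH).congr fun l => ?_⟩
    by_cases hl : l = a
    · subst hl; simp [ha]
    · simp [hl]

/-- Arbitrary isometries, compensated in the position `s`. -/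
lemma dev_comp (hO : G.Ovg M) (W : Finset (Fin (t + 1))) {s : Fin (t + 1)} (hs : s ∉ W)
    (A : Fin (t + 1) → GL (Fin k) F) (hA : ∀ l ∈ W, G.IsI (A l)) (Q : Submonoid (GL (Fin k) F))
    (hQ : ∀ l ∈ W, A l ∈ Q) :
    ∃ H C, G.Dev M H C ∧ (∀ l ∈ W, C l = A l) ∧ C s ∈ Q ∧ ∀ l ∉ W, l ≠ s → C l = 1 := by
  classical
  induction W using Finset.induction_on with
  | empty => exact ⟨1, fun _ => 1, dev_one, by simp, one_mem Q, fun _ _ _ => rfl⟩
  | @insert a W ha ih =>
    have has : a ≠ s := fun e => hs (by rw [← e]; exact Finset.mem_insert_self a W)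
    obtain ⟨H, C, hH, h1, h2, h3⟩ := ih (fun e => hs (Finset.mem_insert_of_mem e))
      (fun l hl => hA l (Finset.mem_insert_of_mem hl)) fun l hl => hQ l (Finset.mem_insert_of_mem hl)
    refine ⟨_, _, (dev_pair hO has (hA a (Finset.mem_insert_self a W))).mul hH, fun l hl => ?_, ?_,
      fun l hl hls => ?_⟩
    · rcases Finset.mem_insert.1 hl with rfl | hl
      · simp [h3 l ha has]
      · have hla : l ≠ a := fun e0 => ha (by rw [← e0]; exact hl)
        have hls : l ≠ s := by rintro rfl; exact hs (Finset.mem_insert_of_mem hl)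
        simp [hla, hls, h1 l hl]
    · simp only [Pi.mul_apply, or_true, if_true]
      exact mul_mem (hQ a (Finset.mem_insert_self a W)) h2
    · simp only [Finset.mem_insert, not_or] at hl
      simp [hl.1, hls, h3 l hl.2 hls]

/-- A pattern with an even number of positions. -/
lemma dev_even (hO : G.Ovg M) (W : Finset (Fin (t + 1))) (hW : Even W.card) {A : GL (Fin k) F}
    (hA : G.IsI A) : ∃ H, G.Dev M H (fun l => if l ∈ W then A else 1) := by
  classical
  induction W using Finset.strongInduction with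
  | H W ih =>
    rcases W.eq_empty_or_nonempty with rfl | ⟨a, ha⟩
    · exact ⟨1, dev_one.congr fun l => by simp⟩
    obtain ⟨a', ha', hne⟩ : ∃ a' ∈ W, a' ≠ a := by
      by_contra! hall
      have : W = {a} := Finset.eq_singleton_iff_unique_mem.2 ⟨ha, hall⟩
      simp [this] at hW
    have hss : (W.erase a).erase a' ⊂ W :=
      Finset.ssubset_of_subset_of_ssubset (Finset.erase_subset _ _) (Finset.erase_ssubset ha)
    have hcard : W.card = ((W.erase a).erase a').card + 2 := by
      rw [← Finset.card_erase_add_one ha, ← Finset.card_erase_add_one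
        (Finset.mem_erase.2 ⟨hne, ha'⟩)]
    obtain ⟨H, hH⟩ := ih _ hss (by rw [hcard, Nat.even_add] at hW; simpa using hW)
    refine ⟨_, ((dev_pair hO (Ne.symm hne) hA).mul hH).congr fun l => ?_⟩
    by_cases h1 : l = a
    · subst h1; simp [ha]
    by_cases h2 : l = a'
    · subst h2; simp [ha']
    simp [h1, h2]

end Dev

/-! ### the wreath group -/

/-- An isometry of one position in the radical of a line. -/
lemma isI_rad (h : G.HB b c) {C : GL (Fin k) F} (hC : G.IsI C) (hb : app C b = b)
    (hw : ∀ z, G.f b z = 0 → app C z - z ∈ F ∙ b) : ∃ v, G.InW b c v ∧ C = G.sg b v := by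
  obtain ⟨r, hr⟩ := G.exists_rep ((G.f c).comp ((app C).toLinearMap - LinearMap.id))
  set v := G.wp b c r
  have hv : G.InW b c v := wp_mem h r
  refine ⟨v, hv, ?_⟩
  have hperp : ∀ z, G.f b z = 0 → app C z = z + G.f v z • b := by
    intro z hz
    have hz' : G.f r b = 0 := by rw [hr]; simp [hb]
    obtain ⟨s, hs⟩ := Submodule.mem_span_singleton.1 (hw z hz)
    have e : s = G.f v z := by
      have h1 := hr z
      simp only [LinearMap.comp_apply, LinearMap.sub_apply, LinearEquiv.coe_coe, LinearMap.id_apply,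
        ← hs, map_smul, h.cb, smul_eq_mul, mul_one] at h1
      rw [← h1]
      simp [v, wp, hz, G.sym b r, hz']
    rw [← e, hs, add_sub_cancel]
  set D := (G.sg b v)⁻¹ * C
  have hD : G.IsI D := (G.isI_sg b v).inv.mul hC
  have hfix : ∀ z, G.f b z = 0 → app D z = z := fun z hz => by
    rw [map_mul, LinearEquiv.mul_apply, hperp z hz, sg_inv, sg_apply h.bb hv.neg.1]
    simp [hz, h.bb, hv.1, hv.left']
  suffices D = 1 by
    rw [← mul_one (G.sg b v), ← this, mul_inv_cancel_left]
  set δ := app D c - c with hδd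
  have e1 : app D c = c + δ := by rw [hδd]; abel
  have e2 : ∀ z, G.f b z = 0 → G.f δ z = 0 := fun z hz => by
    have := hD c z
    rw [hfix z hz, e1, map_add, LinearMap.add_apply] at this
    linear_combination this
  have e3 : G.f b δ = 0 := by
    have := hD b c
    rw [hfix b h.bb, e1, map_add] at this
    linear_combination this
  have e4 : G.f c δ = 0 := by
    have h1 := hD c c
    rw [e1] at h1
    simp [h.cc, e2 δ e3, G.sym δ c] at h1
    have h2 : (2 : F) * G.f c δ = 0 := by linear_combination h1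
    exact (mul_eq_zero.1 h2).resolve_left G.two
  have hδ : δ = 0 := G.nd δ fun z => by
    rw [wp_decomp G b c z, map_add, map_add, map_smul, map_smul, G.sym δ b, e3, G.sym δ c, e4,
      e2 _ (wp_mem h z).1]
    simp
  refine gl_ext fun z => ?_
  have ez : z = (z - G.f b z • c) + G.f b z • c := by abel
  rw [map_one, LinearEquiv.coe_one, id_eq]
  conv_lhs => rw [ez]
  rw [map_add, map_smul, hfix _ (by simp [h.bc]), e1, hδ, add_zero]
  exact ez.symm

/-- The wreath group meets the radical of a line in the Siegel elements. -/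
theorem wr_rad (h : G.HB b c) (hk : 2 ≤ k) {i : Fin (t + 1)} {g : GL (J k (t + 1)) F}
    (hg : g ∈ Wr F k (t + 1)) (hgi : g ∈ G.isoGrp (t + 1))
    (hfix : ∀ y, app g (T i y b) = T i y b)
    (hper : ∀ x, ct i (G.f b) x = 0 → app g x - x ∈ Li i b) :
    ∃ v, G.InW b c v ∧ g = kr i 1 (G.sg b v) := by
  have : Nonempty (J k t) := ⟨fun _ => ⟨0, by omega⟩⟩
  obtain ⟨l, X, B, e⟩ := exists_form hg i
  have hBb : app B b ≠ 0 := fun e0 => h.ne_left ((app B).map_eq_zero_iff.1 e0)
  obtain ⟨rfl, hsp⟩ := of_Li_le (j := l) hk h.ne_left hBb (by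
    rintro _ ⟨y, rfl⟩
    rw [LinearMap.flip_apply, ← hfix y, e]
    exact T_mem_Li _ _ _)
  obtain ⟨s, hs⟩ := Submodule.mem_span_singleton.1 hsp
  have hX : ∀ y, app X y = s • y := fun y => T_inj_left (i := i) hBb (by
    rw [← e, hfix, map_smul, LinearMap.smul_apply, ← map_smul, hs])
  obtain ⟨C, hC⟩ := C7.exists_gl (F := F) (s • (app B).toLinearMap) (fun u w e0 => by
    have hs0 : s ≠ 0 := fun e1 => h.ne_left (by rw [← hs, e1, zero_smul])
    exact (app B).injective (smul_right_injective _ hs0 e0))
  have hgC : g = kr i 1 C := gl_ext_T i fun y u => by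
    rw [e, app_kr, hX, map_one, LinearEquiv.coe_one, id_eq, hC, LinearMap.smul_apply, map_smul,
      LinearMap.smul_apply, map_smul]
    rfl
  obtain ⟨y, hy⟩ := exists_ne (0 : J k t → F)
  have hCb : app C b = b := by rw [hC]; exact hs
  have hIC : G.IsI C := fun u w => by
    obtain ⟨y', hy'⟩ : ∃ y', G.B t y y' ≠ 0 := by
      by_contra! h0; exact hy (G.nd_B y h0)
    have := hgi (T i y u) (T i y' w)
    rw [hgC, app_kr, app_kr, map_one, LinearEquiv.coe_one, id_eq, id_eq, B_T, B_T] at this
    exact mul_left_cancel₀ hy' this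
  obtain ⟨v, hv, rfl⟩ := isI_rad h hIC hCb fun z hz => by
    have := hper (T i y z) (by simp [hz])
    rw [hgC, app_kr, map_one, LinearEquiv.coe_one, id_eq, ← map_sub] at this
    obtain ⟨a, ha⟩ := this
    exact mem_span_of_T_eq hy ha.symm
  exact ⟨v, hv, hgC⟩

end Sm

end Cfsg.Agent.C7O
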